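/-
Area Forms: the isometry group of an arbitrary two-variable function `f : V → V → β`, its transport along linear
equivalences, the bridges to the matrix groups of `Def_Classical`, and counting by orbit and stabiliser.
-/
import Mathlib
import Cfsg.Prelude.Def_ClassicalGeometry

set_option autoImplicit false

namespace Cfsg.Agent.Forms

open scoped Matrix

variable {F : Type*} [Field F] {V W A C : Type*} [AddCommGroup V] [Module F V] [AddCommGroup W] [Module F W]
  [AddCommGroup A] [Module F A] [AddCommGroup C] [Module F C] {β : Type*}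

/-- The linear automorphisms `g` of `V` with `f (g u) (g v) = f u v` for all `u`, `v`. For a quadratic map use
`fun u _ => Q u` (or `isomQ`). -/
def isom (F : Type*) [Field F] {V : Type*} [AddCommGroup V] [Module F V] {β : Type*} (f : V → V → β) :
    Subgroup (V ≃ₗ[F] V) where
  carrier := {g | ∀ u v, f (g u) (g v) = f u v}
  mul_mem' {a b} ha hb := fun u v => (ha (b u) (b v)).trans (hb u v)
  one_mem' := fun _ _ => rfl
  inv_mem' {a} ha := fun u v => by
    have h := ha (a.symm u) (a.symm v)
    rw [a.apply_symm_apply, a.apply_symm_apply] at h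
    exact h.symm

theorem mem_isom {f : V → V → β} {g : V ≃ₗ[F] V} : g ∈ isom F f ↔ ∀ u v, f (g u) (g v) = f u v := Iff.rfl

/-- Isometries are transported by linear equivalences. -/
noncomputable def isomCongr {f : V → V → β} {f' : W → W → β} (e : V ≃ₗ[F] W)
    (h : ∀ u v, f' (e u) (e v) = f u v) : isom F f ≃* isom F f' where
  toFun g := ⟨(e.symm.trans (g : V ≃ₗ[F] V)).trans e, fun u v => by
    show f' (e ((g : V ≃ₗ[F] V) (e.symm u))) (e ((g : V ≃ₗ[F] V) (e.symm v))) = f' u v
    rw [h, g.2, ← h, e.apply_symm_apply, e.apply_symm_apply]⟩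
  invFun g := ⟨(e.trans (g : W ≃ₗ[F] W)).trans e.symm, fun u v => by
    show f (e.symm ((g : W ≃ₗ[F] W) (e u))) (e.symm ((g : W ≃ₗ[F] W) (e v))) = f u v
    rw [← h, e.apply_symm_apply, e.apply_symm_apply, g.2, h]⟩
  left_inv g := Subtype.ext <| LinearEquiv.ext fun x => by simp
  right_inv g := Subtype.ext <| LinearEquiv.ext fun x => by simp
  map_mul' g g' := Subtype.ext <| LinearEquiv.ext fun x => by
    simp [LinearEquiv.mul_apply]

theorem card_isom_congr {f : V → V → β} {f' : W → W → β} (e : V ≃ₗ[F] W)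
    (h : ∀ u v, f' (e u) (e v) = f u v) : Nat.card (isom F f) = Nat.card (isom F f') :=
  Nat.card_congr (isomCongr e h).toEquiv

/-- Two functions with the same isometry group (for instance a bilinear form and a multiple of it). -/
theorem isom_eq_of_iff {β' : Type*} {f : V → V → β} {f' : V → V → β'}
    (h : ∀ g : V ≃ₗ[F] V, (∀ u v, f (g u) (g v) = f u v) ↔ ∀ u v, f' (g u) (g v) = f' u v) :
    isom F f = isom F f' :=
  Subgroup.ext h

/-! ### Bridges to matrix groups -/

section Matrix

variable {ι : Type} [Fintype ι] [DecidableEq ι]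

/-- Invertible matrices as linear automorphisms of `ι → F`, acting by `v ↦ M *ᵥ v`. -/
noncomputable def glEquiv (ι : Type) [Fintype ι] [DecidableEq ι] (F : Type*) [Field F] :
    Matrix.GeneralLinearGroup ι F ≃* ((ι → F) ≃ₗ[F] (ι → F)) :=
  Matrix.GeneralLinearGroup.toLin.trans (LinearMap.GeneralLinearGroup.generalLinearEquiv F (ι → F))

theorem glEquiv_apply (g : Matrix.GeneralLinearGroup ι F) (v : ι → F) :
    glEquiv ι F g v = (g : Matrix ι ι F) *ᵥ v := rfl

/-- A subgroup cut out of `GL` by `preserving` is the isometry group of its form. -/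
noncomputable def preservingEquiv (f : (ι → F) → (ι → F) → F) :
    preserving (glToMat ι F) f ≃* isom F f :=
  ((glEquiv ι F).subgroupMap (preserving (glToMat ι F) f)).trans <| MulEquiv.subgroupCongr <| by
    apply Subgroup.ext
    intro g
    constructor
    · rintro ⟨h, hh, rfl⟩
      exact hh
    · intro hg
      refine ⟨(glEquiv ι F).symm g, ?_, (glEquiv ι F).apply_symm_apply g⟩
      intro u v
      have key : ∀ x, ((glEquiv ι F).symm g : Matrix ι ι F) *ᵥ x = g x := fun x => by
        rw [← glEquiv_apply, (glEquiv ι F).apply_symm_apply]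
      show f (((glEquiv ι F).symm g : Matrix ι ι F) *ᵥ u) (((glEquiv ι F).symm g : Matrix ι ι F) *ᵥ v) = _
      rw [key, key]
      exact hg u v

theorem preservingEquiv_apply (f : (ι → F) → (ι → F) → F) (g : preserving (glToMat ι F) f) (v : ι → F) :
    (preservingEquiv f g : (ι → F) ≃ₗ[F] (ι → F)) v = ((g : Matrix.GeneralLinearGroup ι F) : Matrix ι ι F) *ᵥ v :=
  rfl

/-- The isometry group of `Def_Classical` as a linear isometry group. -/
noncomputable def isometryGroupEquiv (Q : (ι → F) → F) :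
    isometryGroup F Q ≃* isom F (fun u _ => Q u : (ι → F) → (ι → F) → F) :=
  preservingEquiv _

theorem isometryGroupEquiv_apply (Q : (ι → F) → F) (g : isometryGroup F Q) (v : ι → F) :
    (isometryGroupEquiv Q g : (ι → F) ≃ₗ[F] (ι → F)) v
      = ((g : Matrix.GeneralLinearGroup ι F) : Matrix ι ι F) *ᵥ v :=
  rfl

theorem card_preserving (f : (ι → F) → (ι → F) → F) :
    Nat.card (preserving (glToMat ι F) f) = Nat.card (isom F f) :=
  Nat.card_congr (preservingEquiv f).toEquiv

end Matrix

/-! ### Counting -/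

/-- Tuples in the orbit of `e`: if `O` is that orbit then `|G| = |O| · |G_e|`. -/
theorem card_eq_orbit_mul_fix (G : Subgroup (V ≃ₗ[F] V)) {κ : Type*} (e : κ → V) (O : Set (κ → V))
    (hmem : ∀ g ∈ G, (fun i => g (e i)) ∈ O) (htrans : ∀ v ∈ O, ∃ g ∈ G, ∀ i, g (e i) = v i) :
    Nat.card G = Nat.card O * Nat.card {g : V ≃ₗ[F] V // g ∈ G ∧ ∀ i, g (e i) = e i} := by
  classical
  let toO : G → O := fun g => ⟨fun i => (g : V ≃ₗ[F] V) (e i), hmem g g.2⟩
  choose s hs using htrans
  let E : G ≃ O × {g : V ≃ₗ[F] V // g ∈ G ∧ ∀ i, g (e i) = e i} :=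
    { toFun := fun g => (toO g, ⟨(s (toO g).1 (toO g).2)⁻¹ * (g : V ≃ₗ[F] V),
        G.mul_mem (G.inv_mem (hs _ _).1) g.2, fun i => by
          show (s (toO g).1 (toO g).2).symm ((g : V ≃ₗ[F] V) (e i)) = e i
          rw [LinearEquiv.symm_apply_eq]
          exact ((hs (toO g).1 (toO g).2).2 i).symm⟩)
      invFun := fun p => ⟨s p.1.1 p.1.2 * p.2.1, G.mul_mem (hs _ _).1 p.2.2.1⟩
      left_inv := fun g => Subtype.ext (mul_inv_cancel_left _ _)
      right_inv := fun p => by
        have h : toO ⟨s p.1.1 p.1.2 * p.2.1, G.mul_mem (hs _ _).1 p.2.2.1⟩ = p.1 := by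
          apply Subtype.ext
          funext i
          show s p.1.1 p.1.2 (p.2.1 (e i)) = p.1.1 i
          rw [p.2.2.2 i]
          exact (hs _ _).2 i
        refine Prod.ext h (Subtype.ext ?_)
        show (s (toO _).1 (toO _).2)⁻¹ * (s p.1.1 p.1.2 * p.2.1) = p.2.1
        rw [inv_mul_eq_iff_eq_mul]
        congr 2; simp [h] }
  rw [Nat.card_congr E, Nat.card_prod]

/-- If the isometries fixing `A × 0` pointwise map `0 × C` into itself, they form a copy of the isometry group of
the second component. -/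
noncomputable def fixEquiv {f : A × C → A × C → β} {β' : Type*} {fC : C → C → β'}
    (hperp : ∀ g ∈ isom F f, (∀ a : A, g (a, 0) = (a, 0)) → ∀ c : C, (g (0, c)).1 = 0)
    (hext : ∀ h : C ≃ₗ[F] C, h ∈ isom F fC ↔ (LinearEquiv.refl F A).prodCongr h ∈ isom F f) :
    isom F fC ≃ {g : (A × C) ≃ₗ[F] (A × C) // g ∈ isom F f ∧ ∀ a : A, g (a, 0) = (a, 0)} :=
  have key : ∀ g : {g : (A × C) ≃ₗ[F] (A × C) // g ∈ isom F f ∧ ∀ a : A, g (a, 0) = (a, 0)},
      ∀ (a : A) (c : C), g.1 (a, c) = (a, (g.1 (0, c)).2) := by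
    intro g a c
    have h : g.1 (a, c) = g.1 (a, 0) + g.1 (0, c) := by
      rw [← map_add]
      simp
    rw [h, g.2.2 a]
    ext
    · simp [hperp g.1 g.2.1 g.2.2 c]
    · simp
  have inv_mem : ∀ g : {g : (A × C) ≃ₗ[F] (A × C) // g ∈ isom F f ∧ ∀ a : A, g (a, 0) = (a, 0)},
      ∀ a : A, (g.1)⁻¹ (a, 0) = (a, 0) := by
    intro g a
    show g.1.symm (a, 0) = (a, 0)
    rw [LinearEquiv.symm_apply_eq, g.2.2 a]
  let res : {g : (A × C) ≃ₗ[F] (A × C) // g ∈ isom F f ∧ ∀ a : A, g (a, 0) = (a, 0)} → (C ≃ₗ[F] C) := fun g =>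
    LinearEquiv.ofLinearMap
      ((LinearMap.snd F A C).comp (g.1.toLinearMap.comp (LinearMap.inr F A C)))
      ((LinearMap.snd F A C).comp ((g.1)⁻¹.toLinearMap.comp (LinearMap.inr F A C)))
      (by
        apply LinearMap.ext
        intro c
        have h := key g 0 (((g.1)⁻¹ : (A × C) ≃ₗ[F] (A × C)) (0, c)).2
        have h' := key ⟨(g.1)⁻¹, (isom F f).inv_mem g.2.1, inv_mem g⟩ 0 c
        show (g.1 (0, (((g.1)⁻¹ : (A × C) ≃ₗ[F] (A × C)) (0, c)).2)).2 = c
        rw [← h']
        show (g.1 (g.1.symm (0, c))).2 = c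
        rw [LinearEquiv.apply_symm_apply])
      (by
        apply LinearMap.ext
        intro c
        have h := key g 0 c
        show (((g.1)⁻¹ : (A × C) ≃ₗ[F] (A × C)) (0, (g.1 (0, c)).2)).2 = c
        rw [← h]
        show (g.1.symm (g.1 (0, c))).2 = c
        rw [LinearEquiv.symm_apply_apply])
  { toFun := fun h => ⟨(LinearEquiv.refl F A).prodCongr h.1, (hext h.1).1 h.2, fun a => by simp⟩
    invFun := fun g => ⟨res g, (hext _).2 <| by
      have h : (LinearEquiv.refl F A).prodCongr (res g) = g.1 := by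
        apply LinearEquiv.ext
        rintro ⟨a, c⟩
        exact (key g a c).symm
      rw [h]
      exact g.2.1⟩
    left_inv := fun h => Subtype.ext <| LinearEquiv.ext fun c => rfl
    right_inv := fun g => Subtype.ext <| LinearEquiv.ext fun ⟨a, c⟩ => (key g a c).symm }

end Cfsg.Agent.Forms
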