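/-
Area Forms: Witt's extension theorem over any field, in any characteristic, for trace-valued epsilon-hermitian
sesquilinear forms (alternating, hermitian, symmetric in odd characteristic) and for quadratic forms with
non-degenerate polar form.
-/
import Cfsg.Agent.Lib.Forms.Isom

set_option autoImplicit false

namespace Cfsg.Agent.Forms

variable {F : Type*} [Field F] {V : Type*} [AddCommGroup V] [Module F V]

/-! ### The induction skeleton -/

/-- If every single step can be made (fix `H` pointwise, move `v` to `w`), then Witt's theorem holds for `K`. -/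
theorem witt_of_step [FiniteDimensional F V] {β : Type*} (K : V → V → β)
    (step : ∀ (H : Submodule F V) (v w : V), v ∉ H → w ∉ H → (∀ h ∈ H, K v h = K w h) →
      (∀ h ∈ H, K h v = K h w) → K v v = K w w →
      ∃ g ∈ isom F K, (∀ h ∈ H, g h = h) ∧ g v = w)
    (X : Submodule F V) (φ : X →ₗ[F] V) (hinj : Function.Injective φ)
    (hφ : ∀ x y : X, K (φ x) (φ y) = K x y) : ∃ g ∈ isom F K, ∀ x : X, g x = φ x := by
  classical
  have main : ∀ s : Finset X, ∃ g ∈ isom F K, ∀ x ∈ Submodule.span F (s : Set X), g (x : V) = φ x := by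
    intro s
    induction s using Finset.induction with
    | empty =>
      refine ⟨1, one_mem _, fun x hx => ?_⟩
      rw [Finset.coe_empty, Submodule.span_empty, Submodule.mem_bot] at hx
      subst hx
      simp
    | insert v s hvs ih =>
      obtain ⟨g0, hg0, hfix⟩ := ih
      let S : Submodule F X := Submodule.span F (s : Set X)
      have hspan : ∀ g : V ≃ₗ[F] V, (∀ x ∈ S, g (x : V) = φ x) → g (v : V) = φ v →
          ∀ x ∈ Submodule.span F ((insert v s : Finset X) : Set X), g (x : V) = φ x := by
        intro g hgS hgv x hx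
        rw [Finset.coe_insert, Submodule.mem_span_insert] at hx
        obtain ⟨a, z, hz, rfl⟩ := hx
        simp [map_add, map_smul, hgv, hgS z hz]
      by_cases hv : v ∈ S
      · exact ⟨g0, hg0, hspan g0 hfix (hfix v hv)⟩
      · let H : Submodule F V := S.map X.subtype
        have hvH : (v : V) ∉ H := by
          rintro ⟨y, hy, hy'⟩
          exact hv (Subtype.ext (a1 := y) (a2 := v) hy' ▸ hy)
        have hw : g0 (g0.symm (φ v)) = φ v := g0.apply_symm_apply _
        have hwH : g0.symm (φ v) ∉ H := by
          rintro ⟨y, hy, hy'⟩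
          have h : φ y = φ v := by
            rw [← hfix y hy]
            exact (congrArg g0 hy').trans hw
          exact hv (hinj h ▸ hy)
        obtain ⟨g1, hg1, hg1H, hg1v⟩ := step H v (g0.symm (φ v)) hvH hwH
          (by
            rintro _ ⟨y, hy, rfl⟩
            have h := hg0 (g0.symm (φ v)) y
            rw [hw, hfix y hy, hφ] at h
            exact h)
          (by
            rintro _ ⟨y, hy, rfl⟩
            have h := hg0 y (g0.symm (φ v))
            rw [hw, hfix y hy, hφ] at h
            exact h)
          (by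
            have h := hg0 (g0.symm (φ v)) (g0.symm (φ v))
            rw [hw, hφ] at h
            exact h)
        refine ⟨g0 * g1, mul_mem hg0 hg1, hspan _ (fun x hx => ?_) ?_⟩
        · show g0 (g1 (x : V)) = φ x
          rw [show g1 (x : V) = x from hg1H _ ⟨x, hx, rfl⟩, hfix x hx]
        · show g0 (g1 (v : V)) = φ v
          rw [hg1v, hw]
  obtain ⟨s, hs⟩ := Module.Finite.fg_top (R := F) (M := X)
  obtain ⟨g, hg, hgs⟩ := main s
  exact ⟨g, hg, fun x => hgs x (hs ▸ Submodule.mem_top)⟩

/-- From extension of isometries of subspaces to transitivity on independent tuples. -/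
theorem witt_tuple {β : Type*} (K : V → V → β)
    (witt : ∀ (X : Submodule F V) (φ : X →ₗ[F] V), Function.Injective φ →
      (∀ x y : X, K (φ x) (φ y) = K x y) → ∃ g ∈ isom F K, ∀ x : X, g x = φ x)
    {ι : Type*} {v w : ι → V} (hv : LinearIndependent F v) (hw : LinearIndependent F w)
    (hK : ∀ a b : ι →₀ F, K (Finsupp.linearCombination F w a) (Finsupp.linearCombination F w b)
      = K (Finsupp.linearCombination F v a) (Finsupp.linearCombination F v b)) :
    ∃ g ∈ isom F K, ∀ i, g (v i) = w i := by
  have hv' : Function.Injective (Finsupp.linearCombination F v) := hv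
  have hw' : Function.Injective (Finsupp.linearCombination F w) := hw
  let e := LinearEquiv.ofInjective (Finsupp.linearCombination F v) hv'
  have he : ∀ a, ((e a : LinearMap.range (Finsupp.linearCombination F v)) : V) = Finsupp.linearCombination F v a :=
    fun _ => rfl
  obtain ⟨g, hg, hgx⟩ := witt (LinearMap.range (Finsupp.linearCombination F v))
    ((Finsupp.linearCombination F w).comp e.symm.toLinearMap)
    (fun a b hab => e.symm.injective (hw' hab)) (fun x y => by
      obtain ⟨a, rfl⟩ := e.surjective x
      obtain ⟨b, rfl⟩ := e.surjective y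
      simpa [he] using hK a b)
  refine ⟨g, hg, fun i => ?_⟩
  have h := hgx (e (Finsupp.single i 1))
  simpa [he] using h

/-! ### Trace-valued epsilon-hermitian forms -/

/-- A non-degenerate trace-valued `ε`-hermitian form, semilinear in the first variable. -/
structure IsHermitianPolar (σ : F →+* F) (ε : F) (B : V →ₛₗ[σ] V →ₗ[F] F) : Prop where
  swap : ∀ x y, B y x = ε * σ (B x y)
  trace : ∀ x, ∃ τ : F, B x x = τ + ε * σ τ
  invol : ∀ a, σ (σ a) = a
  eps : ε * σ ε = 1
  sep : ∀ x, (∀ y, B x y = 0) → x = 0

section Sesq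

variable {σ : F →+* F} {ε : F} {B : V →ₛₗ[σ] V →ₗ[F] F}

/-- The form as a plain function. -/
abbrev form2 (B : V →ₛₗ[σ] V →ₗ[F] F) : V → V → F := fun u v => B u v

theorem IsHermitianPolar.eq_zero_comm (hB : IsHermitianPolar σ ε B) {x y : V} (h : B x y = 0) :
    B y x = 0 := by
  rw [hB.swap, h, map_zero, mul_zero]

theorem IsHermitianPolar.sep_right (hB : IsHermitianPolar σ ε B) (x : V) (h : ∀ y, B y x = 0) : x = 0 :=
  hB.sep x fun y => hB.eq_zero_comm (h y)

/-- Every linear functional is `B u` for some `u`. -/
theorem IsHermitianPolar.exists_eq [FiniteDimensional F V] (hB : IsHermitianPolar σ ε B) (f : V →ₗ[F] F) :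
    ∃ u, ∀ x, B u x = f x := by
  let M : Submodule F (Module.Dual F V) :=
    { carrier := Set.range fun u => B u
      add_mem' := by
        rintro _ _ ⟨a, rfl⟩ ⟨b, rfl⟩
        exact ⟨a + b, map_add B a b⟩
      zero_mem' := ⟨0, map_zero B⟩
      smul_mem' := by
        rintro c _ ⟨a, rfl⟩
        exact ⟨σ c • a, by simp only [map_smulₛₗ, hB.invol]⟩ }
  have h : M.dualCoannihilator = ⊥ := by
    rw [eq_bot_iff]
    intro x hx
    rw [Submodule.mem_dualCoannihilator] at hx
    rw [Submodule.mem_bot]
    exact hB.sep_right x fun y => hx (B y) ⟨y, rfl⟩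
  have hM : M = ⊤ := by
    have h' := congrArg Submodule.dualAnnihilator h
    rwa [Subspace.dualCoannihilator_dualAnnihilator_eq, Submodule.dualAnnihilator_bot] at h'
  obtain ⟨u, hu⟩ : f ∈ M := hM ▸ Submodule.mem_top
  exact ⟨u, fun x => by rw [← hu]⟩

/-- For `v` outside `S` there is `u` orthogonal to `S` with `B u v = 1`. -/
theorem IsHermitianPolar.exists_perp [FiniteDimensional F V] (hB : IsHermitianPolar σ ε B) {S : Submodule F V}
    {v : V} (hv : v ∉ S) : ∃ u, (∀ s ∈ S, B u s = 0) ∧ B u v = 1 := by
  obtain ⟨f, hfv, hfS⟩ := Submodule.exists_dual_map_eq_bot_of_notMem hv inferInstance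
  obtain ⟨u, hu⟩ := hB.exists_eq ((f v)⁻¹ • f)
  refine ⟨u, fun s hs => ?_, ?_⟩
  · rw [hu]
    have : f s = 0 := by
      have h : f s ∈ S.map f := ⟨s, hs, rfl⟩
      rwa [hfS, Submodule.mem_bot] at h
    simp [this]
  · rw [hu]
    simp [hfv]

/-- A linear map preserving a non-degenerate form is an isometry. -/
theorem IsHermitianPolar.exists_isom [FiniteDimensional F V] (hB : IsHermitianPolar σ ε B) (T : V →ₗ[F] V)
    (hT : ∀ x y, B (T x) (T y) = B x y) : ∃ g ∈ isom F (form2 B), ∀ x, g x = T x := by
  have hinj : Function.Injective T := by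
    rw [injective_iff_map_eq_zero]
    intro x hx
    exact hB.sep x fun y => by rw [← hT, hx, map_zero, LinearMap.zero_apply]
  exact ⟨LinearEquiv.ofInjectiveEndo T hinj, fun u v => hT u v, fun x => rfl⟩

/-- An isotropic `d` orthogonal to `H` and to `v` can be added to `v`, if `v ∉ H + ⟨d⟩`. -/
theorem IsHermitianPolar.exists_shift [FiniteDimensional F V] (hB : IsHermitianPolar σ ε B) {H : Submodule F V}
    {v d : V} (hv : v ∉ H ⊔ Submodule.span F {d}) (hdH : ∀ h ∈ H, B d h = 0) (hdv : B d v = 0)
    (hdd : B d d = 0) : ∃ g ∈ isom F (form2 B), (∀ h ∈ H, g h = h) ∧ g v = v + d := by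
  obtain ⟨u, hu, huv⟩ := hB.exists_perp hv
  have hud : B u d = 0 := hu d (Submodule.mem_sup_right (Submodule.mem_span_singleton_self d))
  have hdu : B d u = 0 := hB.eq_zero_comm hud
  obtain ⟨τ, hτ⟩ := hB.trace u
  obtain ⟨g, hg, hgx⟩ := hB.exists_isom
    (LinearMap.id + (B u).smulRight d + (B d).smulRight ((- σ ε) • u + (- σ τ) • d)) (by
      intro x y
      simp only [LinearMap.add_apply, LinearMap.id_apply, LinearMap.smulRight_apply, map_add,
        map_smulₛₗ, map_smul, LinearMap.smul_apply, smul_eq_mul, RingHom.id_apply, hdd, hdu, hud, hτ,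
        map_neg, hB.invol, mul_zero, add_zero, zero_add]
      rw [hB.swap d x, hB.swap u x]
      linear_combination (σ (B d x) * B d y * τ + σ (B d x) * B d y * ε * σ τ
        - σ (B u x) * B d y) * hB.eps)
  refine ⟨g, hg, fun h hh => ?_, ?_⟩
  · simp [hgx, hdH h hh, hu h (Submodule.mem_sup_left hh)]
  · simp [hgx, huv, hdv]

/-- One step of Witt's theorem. -/
theorem IsHermitianPolar.step [FiniteDimensional F V] (hB : IsHermitianPolar σ ε B) (H : Submodule F V)
    (v w : V) (hv : v ∉ H) (hw : w ∉ H) (hl : ∀ h ∈ H, B v h = B w h) (hvw : B v v = B w w) :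
    ∃ g ∈ isom F (form2 B), (∀ h ∈ H, g h = h) ∧ g v = w := by
  obtain ⟨d, rfl⟩ : ∃ d, w = v + d := ⟨w - v, by abel⟩
  have hdH : ∀ h ∈ H, B d h = 0 := fun h hh => by
    have := hl h hh
    simp only [map_add, LinearMap.add_apply] at this
    linear_combination -this
  have hdd : B d d = -(B d v + ε * σ (B d v)) := by
    simp only [map_add, LinearMap.add_apply, hB.swap d v] at hvw
    linear_combination -hvw
  by_cases hb : B d v = 0
  · have hdd0 : B d d = 0 := by simp [hdd, hb]
    by_cases hv' : v ∈ H ⊔ Submodule.span F {d}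
    · by_cases hw' : v + d ∈ H ⊔ Submodule.span F {-d}
      · obtain ⟨h0, hh0, z, hz, hsum⟩ := Submodule.mem_sup.1 hv'
        obtain ⟨c, rfl⟩ := Submodule.mem_span_singleton.1 hz
        have hc : c ≠ 0 := by
          rintro rfl
          exact hv (by simpa [← hsum] using hh0)
        have hc1 : c + 1 ≠ 0 := by
          intro hc1
          refine hw ?_
          have : v + d = h0 + (c + 1) • d := by rw [← hsum, add_smul, one_smul, add_assoc]
          simpa [this, hc1] using hh0
        have hdH' : d ∉ H := by
          intro hd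
          exact hv (hsum ▸ H.add_mem hh0 (H.smul_mem c hd))
        obtain ⟨u, hu, hud⟩ := hB.exists_perp hdH'
        obtain ⟨τ, hτ⟩ := hB.trace u
        have hdu : B d u = ε := by rw [hB.swap u d, hud, map_one, mul_one]
        let u' := u - τ • d
        have hud' : B u' d = 1 := by simp [u', map_sub, map_smulₛₗ, hud, hdd0]
        have hdu' : B d u' = ε := by rw [hB.swap u' d, hud', map_one, mul_one]
        have huu' : B u' u' = 0 := by
          simp only [u', map_sub, map_smulₛₗ, LinearMap.sub_apply, LinearMap.smul_apply, smul_eq_mul,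
            RingHom.id_apply, hud, hdu, hdd0, hτ]
          ring
        have hu' : ∀ h ∈ H, B u' h = 0 := fun h hh => by
          simp [u', map_sub, map_smulₛₗ, hu h hh, hdH h hh]
        obtain ⟨lam, hlam, hlamc⟩ : ∃ lam : F, lam ≠ 0 ∧ lam * c = c + 1 :=
          ⟨(c + 1) / c, div_ne_zero hc1 hc, div_mul_cancel₀ _ hc⟩
        have hσlam : σ lam ≠ 0 := (map_ne_zero σ).2 hlam
        have hε : ε ≠ 0 := left_ne_zero_of_mul_eq_one hB.eps
        have hσε : σ ε = ε⁻¹ := eq_inv_of_mul_eq_one_right hB.eps
        obtain ⟨g, hg, hgx⟩ := hB.exists_isom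
          (LinearMap.id + (B u').smulRight ((lam - 1) • d)
            + (B d).smulRight ((-(σ lam - 1) / (ε * σ lam)) • u')) (by
          intro x y
          simp only [LinearMap.add_apply, LinearMap.id_apply, LinearMap.smulRight_apply, map_add,
            map_smulₛₗ, map_smul, LinearMap.smul_apply, smul_eq_mul, RingHom.id_apply, hdd0, hdu', hud',
            huu', hB.invol, mul_zero, add_zero, zero_add]
          rw [hB.swap d x, hB.swap u' x]
          simp only [map_div₀, map_neg, map_sub, map_mul, map_one, hB.invol, hσε]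
          field_simp
          ring)
        refine ⟨g, hg, fun h hh => ?_, ?_⟩
        · simp [hgx, hdH h hh, hu' h hh]
        · have hgd : g d = lam • d := by
            simp [hgx, hud', hdd0, sub_smul]
          have hgh : g h0 = h0 := by simp [hgx, hdH h0 hh0, hu' h0 hh0]
          rw [← hsum, map_add, map_smul, hgd, hgh, smul_smul, mul_comm, hlamc, add_smul, one_smul,
            add_assoc]
      · obtain ⟨g, hg, hgH, hgw⟩ := hB.exists_shift hw'
          (fun h hh => by simp [hdH h hh]) (by simp [hb, hdd0]) (by simp [hdd0])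
        refine ⟨g⁻¹, inv_mem hg, fun h hh => ?_, ?_⟩
        · show g.symm h = h
          rw [LinearEquiv.symm_apply_eq, hgH h hh]
        · show g.symm v = v + d
          rw [LinearEquiv.symm_apply_eq, hgw]
          abel
    · exact hB.exists_shift hv' hdH hb hdd0
  · have hσb : σ (B d v) ≠ 0 := (map_ne_zero σ).2 hb
    obtain ⟨g, hg, hgx⟩ := hB.exists_isom (LinearMap.id + (B d).smulRight ((B d v)⁻¹ • d)) (by
      intro x y
      simp only [LinearMap.add_apply, LinearMap.id_apply, LinearMap.smulRight_apply, map_add,
        map_smulₛₗ, map_smul, LinearMap.smul_apply, smul_eq_mul, RingHom.id_apply, hdd]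
      rw [hB.swap d x]
      simp only [map_inv₀]
      field_simp
      ring)
    refine ⟨g, hg, fun h hh => ?_, ?_⟩
    · simp [hgx, hdH h hh]
    · simp [hgx, smul_smul, hb]

/-- Witt's theorem for trace-valued `ε`-hermitian forms. -/
theorem witt_hermitian [FiniteDimensional F V] (hB : IsHermitianPolar σ ε B) (X : Submodule F V)
    (φ : X →ₗ[F] V) (hinj : Function.Injective φ) (hφ : ∀ x y : X, B (φ x) (φ y) = B x y) :
    ∃ g ∈ isom F (form2 B), ∀ x : X, g x = φ x :=
  witt_of_step (form2 B) (fun H v w hv hw hl _ hvw => hB.step H v w hv hw hl hvw) X φ hinj hφ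

/-- The isometry group is transitive on independent tuples with the same Gram matrix. -/
theorem witt_hermitian_tuple [FiniteDimensional F V] (hB : IsHermitianPolar σ ε B) {ι : Type*} {v w : ι → V}
    (hv : LinearIndependent F v) (hw : LinearIndependent F w) (h : ∀ i j, B (w i) (w j) = B (v i) (v j)) :
    ∃ g ∈ isom F (form2 B), ∀ i, g (v i) = w i := by
  refine witt_tuple (form2 B) (fun X φ => witt_hermitian hB X φ) hv hw fun a b => ?_
  simp only [form2, Finsupp.linearCombination_apply, Finsupp.sum, map_sum, LinearMap.sum_apply,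
    map_smulₛₗ, LinearMap.smul_apply, smul_eq_mul, RingHom.id_apply, h]

end Sesq

/-! ### Quadratic forms -/

section Quadratic

variable {Q : QuadraticForm F V}

/-- The isometry group of a quadratic form. -/
abbrev isomQ (Q : QuadraticForm F V) : Subgroup (V ≃ₗ[F] V) := isom F (fun u _ => Q u : V → V → F)

theorem polar_map_of_mem_isomQ {g : V ≃ₗ[F] V} (hg : g ∈ isomQ Q) (u v : V) :
    QuadraticMap.polar Q (g u) (g v) = QuadraticMap.polar Q u v := by
  have h : ∀ x, Q (g x) = Q x := fun x => hg x 0
  simp only [QuadraticMap.polar, ← map_add, h]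

theorem quadratic_map_add (x y : V) : Q (x + y) = Q x + Q y + QuadraticMap.polarBilin Q x y := by
  simp [QuadraticMap.polar]

theorem polarBilin_self (x : V) : QuadraticMap.polarBilin Q x x = 2 * Q x := by
  simp [QuadraticMap.polar_self, two_mul]

theorem polarBilin_swap (x y : V) : QuadraticMap.polarBilin Q y x = QuadraticMap.polarBilin Q x y := by
  simp [QuadraticMap.polar_comm]

theorem quadratic_exists_perp [FiniteDimensional F V] (hQ : (QuadraticMap.polarBilin Q).Nondegenerate)
    {S : Submodule F V} {v : V} (hv : v ∉ S) :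
    ∃ u, (∀ s ∈ S, QuadraticMap.polarBilin Q u s = 0) ∧ QuadraticMap.polarBilin Q u v = 1 := by
  obtain ⟨f, hfv, hfS⟩ := Submodule.exists_dual_map_eq_bot_of_notMem hv inferInstance
  obtain ⟨u, hu⟩ : ∃ u, ∀ x, QuadraticMap.polarBilin Q u x = ((f v)⁻¹ • f) x :=
    ⟨(LinearMap.BilinForm.toDual (QuadraticMap.polarBilin Q) hQ).symm ((f v)⁻¹ • f), fun x =>
      LinearMap.BilinForm.apply_toDual_symm_apply (B := QuadraticMap.polarBilin Q) (hB := hQ) _ _⟩
  refine ⟨u, fun s hs => ?_, ?_⟩
  · rw [hu]
    have : f s = 0 := by
      have h : f s ∈ S.map f := ⟨s, hs, rfl⟩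
      rwa [hfS, Submodule.mem_bot] at h
    simp [this]
  · rw [hu]
    simp [hfv]

theorem quadratic_exists_isom [FiniteDimensional F V] (hQ : (QuadraticMap.polarBilin Q).Nondegenerate)
    (T : V →ₗ[F] V) (hT : ∀ x, Q (T x) = Q x) : ∃ g ∈ isomQ Q, ∀ x, g x = T x := by
  have hinj : Function.Injective T := by
    rw [injective_iff_map_eq_zero]
    intro x hx
    refine hQ.1 x fun y => ?_
    show Q (x + y) - Q x - Q y = 0
    rw [← hT (x + y), ← hT x, ← hT y, map_add, hx, zero_add, QuadraticMap.map_zero, sub_zero, sub_self]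
  exact ⟨LinearEquiv.ofInjectiveEndo T hinj, fun u _ => hT u, fun x => rfl⟩

theorem quadratic_exists_shift [FiniteDimensional F V] (hQ : (QuadraticMap.polarBilin Q).Nondegenerate)
    {H : Submodule F V} {v d : V} (hv : v ∉ H ⊔ Submodule.span F {d})
    (hdH : ∀ h ∈ H, QuadraticMap.polarBilin Q d h = 0) (hdv : QuadraticMap.polarBilin Q d v = 0)
    (hdd : Q d = 0) : ∃ g ∈ isomQ Q, (∀ h ∈ H, g h = h) ∧ g v = v + d := by
  obtain ⟨u, hu, huv⟩ := quadratic_exists_perp hQ hv
  have hud : QuadraticMap.polarBilin Q u d = 0 :=
    hu d (Submodule.mem_sup_right (Submodule.mem_span_singleton_self d))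
  obtain ⟨g, hg, hgx⟩ := quadratic_exists_isom hQ
    (LinearMap.id + (QuadraticMap.polarBilin Q u).smulRight d
      + (QuadraticMap.polarBilin Q d).smulRight (-u + (-Q u) • d)) (by
      intro x
      simp only [LinearMap.add_apply, LinearMap.id_apply, LinearMap.smulRight_apply, smul_add, smul_smul,
        smul_neg, quadratic_map_add, QuadraticMap.map_smul, QuadraticMap.map_neg, map_add, map_smul,
        map_neg, LinearMap.neg_apply, LinearMap.smul_apply, smul_eq_mul, hdd, hud,
        polarBilin_self, polarBilin_swap u d, polarBilin_swap u x, polarBilin_swap d x]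
      ring)
  refine ⟨g, hg, fun h hh => ?_, ?_⟩
  · simp only [hgx, LinearMap.add_apply, LinearMap.id_apply, LinearMap.smulRight_apply, hdH h hh,
      hu h (Submodule.mem_sup_left hh), zero_smul, add_zero]
  · simp only [hgx, LinearMap.add_apply, LinearMap.id_apply, LinearMap.smulRight_apply, hdv, huv,
      zero_smul, add_zero, one_smul]

/-- One step of Witt's theorem for a quadratic form. -/
theorem quadratic_step [FiniteDimensional F V] (hQ : (QuadraticMap.polarBilin Q).Nondegenerate)
    (H : Submodule F V) (v w : V) (hv : v ∉ H) (hw : w ∉ H)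
    (hl : ∀ h ∈ H, QuadraticMap.polarBilin Q v h = QuadraticMap.polarBilin Q w h) (hvw : Q v = Q w) :
    ∃ g ∈ isomQ Q, (∀ h ∈ H, g h = h) ∧ g v = w := by
  obtain ⟨d, rfl⟩ : ∃ d, w = v + d := ⟨w - v, by abel⟩
  have hdH : ∀ h ∈ H, QuadraticMap.polarBilin Q d h = 0 := fun h hh => by
    have := hl h hh
    simp only [map_add, LinearMap.add_apply] at this
    linear_combination -this
  have hdd : Q d = -QuadraticMap.polarBilin Q d v := by
    rw [quadratic_map_add, polarBilin_swap d v] at hvw
    linear_combination -hvw
  by_cases hb : QuadraticMap.polarBilin Q d v = 0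
  · have hdd0 : Q d = 0 := by simp [hdd, hb, -QuadraticMap.polarBilin_apply_apply]
    by_cases hv' : v ∈ H ⊔ Submodule.span F {d}
    · by_cases hw' : v + d ∈ H ⊔ Submodule.span F {-d}
      · obtain ⟨h0, hh0, z, hz, hsum⟩ := Submodule.mem_sup.1 hv'
        obtain ⟨c, rfl⟩ := Submodule.mem_span_singleton.1 hz
        have hc : c ≠ 0 := by
          rintro rfl
          exact hv (by simpa [← hsum] using hh0)
        have hc1 : c + 1 ≠ 0 := by
          intro hc1
          refine hw ?_
          have : v + d = h0 + (c + 1) • d := by rw [← hsum, add_smul, one_smul, add_assoc]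
          simpa [this, hc1] using hh0
        have hdH' : d ∉ H := by
          intro hd
          exact hv (hsum ▸ H.add_mem hh0 (H.smul_mem c hd))
        obtain ⟨u, hu, hud⟩ := quadratic_exists_perp hQ hdH'
        have hdd2 : QuadraticMap.polarBilin Q d d = 0 := by rw [polarBilin_self, hdd0, mul_zero]
        let u' := u + (-Q u) • d
        have hud' : QuadraticMap.polarBilin Q u' d = 1 := by
          simp only [u', map_add, map_smul, LinearMap.add_apply, LinearMap.smul_apply, hud, hdd2,
            smul_eq_mul, mul_zero, add_zero]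
        have huu' : Q u' = 0 := by
          simp only [u', quadratic_map_add, QuadraticMap.map_smul, map_smul, smul_eq_mul, hud, hdd0]
          ring
        have hu' : ∀ h ∈ H, QuadraticMap.polarBilin Q u' h = 0 := fun h hh => by
          simp only [u', map_add, map_smul, LinearMap.add_apply, LinearMap.smul_apply, hu h hh, hdH h hh,
            smul_eq_mul, mul_zero, add_zero]
        obtain ⟨lam, hlam, hlamc⟩ : ∃ lam : F, lam ≠ 0 ∧ lam * c = c + 1 :=
          ⟨(c + 1) / c, div_ne_zero hc1 hc, div_mul_cancel₀ _ hc⟩
        obtain ⟨g, hg, hgx⟩ := quadratic_exists_isom hQ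
          (LinearMap.id + (QuadraticMap.polarBilin Q u').smulRight ((lam - 1) • d)
            + (QuadraticMap.polarBilin Q d).smulRight ((lam⁻¹ - 1) • u')) (by
          intro x
          simp only [LinearMap.add_apply, LinearMap.id_apply, LinearMap.smulRight_apply, smul_smul,
            quadratic_map_add, QuadraticMap.map_smul, map_add, map_smul, LinearMap.smul_apply, smul_eq_mul,
            hdd0, huu', hud', polarBilin_swap u' d, polarBilin_swap u' x, polarBilin_swap d x]
          field_simp
          ring)
        have hfix : ∀ h ∈ H, g h = h := fun h hh => by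
          simp only [hgx, LinearMap.add_apply, LinearMap.id_apply, LinearMap.smulRight_apply, hdH h hh,
            hu' h hh, zero_smul, add_zero]
        refine ⟨g, hg, hfix, ?_⟩
        have hgd : g d = lam • d := by
          simp only [hgx, LinearMap.add_apply, LinearMap.id_apply, LinearMap.smulRight_apply, hud', hdd2,
            zero_smul, add_zero, one_smul, sub_smul, add_sub_cancel]
        rw [← hsum, map_add, map_smul, hgd, hfix h0 hh0, smul_smul, mul_comm, hlamc, add_smul, one_smul,
          add_assoc]
      · obtain ⟨g, hg, hgH, hgw⟩ := quadratic_exists_shift hQ hw'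
          (fun h hh => by rw [map_neg, LinearMap.neg_apply, hdH h hh, neg_zero])
          (by rw [map_neg, LinearMap.neg_apply, map_add, hb, polarBilin_self, hdd0, mul_zero, add_zero,
            neg_zero])
          (by rw [QuadraticMap.map_neg, hdd0])
        refine ⟨g⁻¹, inv_mem hg, fun h hh => ?_, ?_⟩
        · show g.symm h = h
          rw [LinearEquiv.symm_apply_eq, hgH h hh]
        · show g.symm v = v + d
          rw [LinearEquiv.symm_apply_eq, hgw]
          abel
    · exact quadratic_exists_shift hQ hv' hdH hb hdd0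
  · obtain ⟨g, hg, hgx⟩ := quadratic_exists_isom hQ
      (LinearMap.id + (QuadraticMap.polarBilin Q d).smulRight ((QuadraticMap.polarBilin Q d v)⁻¹ • d)) (by
      intro x
      simp only [LinearMap.add_apply, LinearMap.id_apply, LinearMap.smulRight_apply, smul_smul,
        quadratic_map_add, QuadraticMap.map_smul, map_smul, smul_eq_mul, hdd, polarBilin_swap d x]
      field_simp
      ring)
    refine ⟨g, hg, fun h hh => ?_, ?_⟩
    · simp only [hgx, LinearMap.add_apply, LinearMap.id_apply, LinearMap.smulRight_apply, hdH h hh,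
        zero_smul, add_zero]
    · simp only [hgx, LinearMap.add_apply, LinearMap.id_apply, LinearMap.smulRight_apply, smul_smul,
        mul_inv_cancel₀ hb, one_smul]

/-- Witt's theorem for a quadratic form with non-degenerate polar form. -/
theorem witt_quadratic [FiniteDimensional F V] (hQ : (QuadraticMap.polarBilin Q).Nondegenerate)
    (X : Submodule F V) (φ : X →ₗ[F] V) (hinj : Function.Injective φ) (hφ : ∀ x : X, Q (φ x) = Q x) :
    ∃ g ∈ isomQ Q, ∀ x : X, g x = φ x := by
  let K : V → V → F × F := fun u v => (Q u, QuadraticMap.polarBilin Q u v)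
  obtain ⟨g, hg, hgx⟩ := witt_of_step K
    (fun H v w hv hw hl _ hvw => by
      obtain ⟨g, hg, h⟩ := quadratic_step hQ H v w hv hw (fun h hh => congrArg Prod.snd (hl h hh))
        (congrArg Prod.fst hvw)
      exact ⟨g, fun a b => Prod.ext (hg a b) (polar_map_of_mem_isomQ hg a b), h⟩)
    X φ hinj (fun x y => Prod.ext (hφ x) <| by
      show Q (φ x + φ y) - Q (φ x) - Q (φ y) = Q ((x : V) + y) - Q x - Q y
      rw [← map_add, hφ, hφ, hφ, Submodule.coe_add])
  exact ⟨g, fun a b => congrArg Prod.fst (hg a b), hgx⟩

theorem quadratic_linearCombination_eq {ι : Type*} {v w : ι → V} (h : ∀ i, Q (w i) = Q (v i))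
    (h' : ∀ i j, QuadraticMap.polarBilin Q (w i) (w j) = QuadraticMap.polarBilin Q (v i) (v j))
    (a : ι →₀ F) : Q (Finsupp.linearCombination F w a) = Q (Finsupp.linearCombination F v a) := by
  induction a using Finsupp.induction_linear with
  | zero => simp
  | add a b ha hb =>
    have key : ∀ c d : ι →₀ F, QuadraticMap.polarBilin Q (Finsupp.linearCombination F w c)
        (Finsupp.linearCombination F w d) = QuadraticMap.polarBilin Q (Finsupp.linearCombination F v c)
        (Finsupp.linearCombination F v d) := fun c d => by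
      simp only [Finsupp.linearCombination_apply, Finsupp.sum, map_sum, LinearMap.sum_apply,
        map_smul, LinearMap.smul_apply, smul_eq_mul, h']
    simp only [map_add, quadratic_map_add, ha, hb, key]
  | single i c => simp [QuadraticMap.map_smul, h i]

/-- The isometry group is transitive on independent tuples with the same norms and polar values. -/
theorem witt_quadratic_tuple [FiniteDimensional F V] (hQ : (QuadraticMap.polarBilin Q).Nondegenerate)
    {ι : Type*} {v w : ι → V} (hv : LinearIndependent F v) (hw : LinearIndependent F w)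
    (h : ∀ i, Q (w i) = Q (v i))
    (h' : ∀ i j, QuadraticMap.polarBilin Q (w i) (w j) = QuadraticMap.polarBilin Q (v i) (v j)) :
    ∃ g ∈ isomQ Q, ∀ i, g (v i) = w i :=
  witt_tuple (fun u _ => Q u) (fun X φ hinj hφ => witt_quadratic hQ X φ hinj fun x => hφ x x) hv hw
    fun a _ => quadratic_linearCombination_eq h h' a

end Quadratic

end Cfsg.Agent.Forms
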