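/-
Area Forms: instances of `IsHermitianPolar`, the symplectic form of `Def_ClassicalGeometry`, transitivity and the
order of the symplectic group over a finite field.
-/
import Cfsg.Agent.Lib.Forms.Witt

set_option autoImplicit false

namespace Cfsg.Agent.Forms

open scoped Matrix

variable {F : Type*} [Field F] {V : Type*} [AddCommGroup V] [Module F V]

/-! ### Instances of `IsHermitianPolar` -/

theorem isHermitianPolar_of_isAlt {B : LinearMap.BilinForm F V} (hA : B.IsAlt) (hB : B.Nondegenerate) :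
    IsHermitianPolar (RingHom.id F) (-1) B where
  swap x y := by simpa using (LinearMap.BilinForm.IsAlt.neg_eq hA x y).symm
  trace x := ⟨0, by simp [show B x x = 0 from hA x]⟩
  invol _ := rfl
  eps := by simp
  sep x h := hB.1 x h

theorem isHermitianPolar_of_isSymm {B : LinearMap.BilinForm F V} (h2 : (2 : F) ≠ 0) (hS : B.IsSymm)
    (hB : B.Nondegenerate) : IsHermitianPolar (RingHom.id F) 1 B where
  swap x y := by rw [one_mul]; exact (hS.eq x y).symm
  trace x := ⟨B x x / 2, by
    haveI : NeZero (2 : F) := ⟨h2⟩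
    rw [one_mul, RingHom.id_apply, add_halves]⟩
  invol _ := rfl
  eps := by simp
  sep x h := hB.1 x h

/-- A non-identity involutive endomorphism has an element of trace one. -/
theorem exists_trace_one {σ : F →+* F} (hσ : σ ≠ RingHom.id F) (hσ2 : ∀ a, σ (σ a) = a) :
    ∃ t : F, t + σ t = 1 := by
  obtain ⟨a, ha⟩ : ∃ a : F, a + σ a ≠ 0 := by
    by_contra h
    simp only [not_exists, not_not] at h
    have h1 : (1 : F) + 1 = 0 := by simpa using h 1
    exact hσ (RingHom.ext fun x => by
      show σ x = x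
      linear_combination h x - x * h1)
  refine ⟨a / (a + σ a), ?_⟩
  rw [map_div₀, map_add, hσ2, add_comm (σ a) a, ← add_div, div_self ha]

theorem isHermitianPolar_of_conj {σ : F →+* F} (hσ : σ ≠ RingHom.id F) (hσ2 : ∀ a, σ (σ a) = a)
    {B : V →ₛₗ[σ] V →ₗ[F] F} (hS : ∀ x y, σ (B x y) = B y x) (hB : ∀ x, (∀ y, B x y = 0) → x = 0) :
    IsHermitianPolar σ 1 B where
  swap x y := by rw [one_mul, hS]
  trace x := by
    obtain ⟨t, ht⟩ := exists_trace_one hσ hσ2
    refine ⟨t * B x x, ?_⟩
    rw [map_mul, hS, one_mul, ← add_mul, ht, one_mul]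
  invol := hσ2
  eps := by simp
  sep := hB

/-- The level sets of a non-zero functional over a finite field. -/
theorem card_functional_fibre [Finite F] [FiniteDimensional F V] {f : V →ₗ[F] F} (hf : f ≠ 0) (c : F) :
    Nat.card {v // f v = c} = Nat.card F ^ (Module.finrank F V - 1) := by
  obtain ⟨v₀, hv₀⟩ := (LinearMap.surjective hf) c
  let E : {v // f v = c} ≃ LinearMap.ker f :=
    { toFun := fun v => ⟨v.1 - v₀, by simp [v.2, hv₀]⟩
      invFun := fun k => ⟨k.1 + v₀, by rw [map_add, k.2, zero_add, hv₀]⟩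
      left_inv := fun v => Subtype.ext (sub_add_cancel _ _)
      right_inv := fun k => Subtype.ext (add_sub_cancel_right _ _) }
  rw [Nat.card_congr E, Module.natCard_eq_pow_finrank (K := F)]
  congr 1
  have h := LinearMap.finrank_range_add_finrank_ker f
  rw [LinearMap.range_eq_top.2 (LinearMap.surjective hf), finrank_top, Module.finrank_self] at h
  omega

/-! ### The symplectic form -/

/-- `sympForm` as a bilinear form. -/
noncomputable def sympB (m : ℕ) (F : Type*) [Field F] : LinearMap.BilinForm F (Fin m ⊕ Fin m → F) :=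
  Matrix.toBilin' (Matrix.J (Fin m) F)

theorem sympB_apply {m : ℕ} (u v : Fin m ⊕ Fin m → F) : sympB m F u v = sympForm m F u v :=
  Matrix.toBilin'_apply' _ u v

theorem form2_sympB (m : ℕ) : form2 (sympB m F) = sympForm m F :=
  funext fun u => funext fun v => sympB_apply u v

theorem sympForm_eq_sum {m : ℕ} (u v : Fin m ⊕ Fin m → F) :
    sympForm m F u v = ∑ i : Fin m, (u (.inr i) * v (.inl i) - u (.inl i) * v (.inr i)) := by
  simp [sympForm, Matrix.J, Matrix.fromBlocks_mulVec, dotProduct, Fintype.sum_sum_type, Matrix.neg_mulVec,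
    sub_eq_add_neg, Finset.sum_add_distrib, add_comm]

theorem sympB_isAlt (m : ℕ) : (sympB m F).IsAlt := fun v => by
  rw [sympB_apply, sympForm_eq_sum]
  simp [mul_comm]

theorem sympB_nondegenerate (m : ℕ) : (sympB m F).Nondegenerate :=
  LinearMap.BilinForm.nondegenerate_toBilin'_of_det_ne_zero' _ (Matrix.isUnit_det_J _ _).ne_zero

theorem sympB_polar (m : ℕ) : IsHermitianPolar (RingHom.id F) (-1) (sympB m F) :=
  isHermitianPolar_of_isAlt (sympB_isAlt m) (sympB_nondegenerate m)

/-- Witt's theorem for tuples and `sympForm`. -/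
theorem witt_symp_tuple {m : ℕ} {ι : Type*} {v w : ι → (Fin m ⊕ Fin m → F)} (hv : LinearIndependent F v)
    (hw : LinearIndependent F w) (h : ∀ i j, sympForm m F (w i) (w j) = sympForm m F (v i) (v j)) :
    ∃ g ∈ isom F (sympForm m F), ∀ i, g (v i) = w i := by
  rw [← form2_sympB]
  exact witt_hermitian_tuple (sympB_polar m) hv hw fun i j => by rw [sympB_apply, sympB_apply, h]

theorem mem_symplecticGroup_iff_form {m : ℕ} {A : Matrix (Fin m ⊕ Fin m) (Fin m ⊕ Fin m) F} :
    A ∈ Matrix.symplecticGroup (Fin m) F ↔ ∀ u v, sympForm m F (A *ᵥ u) (A *ᵥ v) = sympForm m F u v := by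
  rw [SymplecticGroup.mem_iff', ← Matrix.toBilin'.injective.eq_iff, LinearMap.ext_iff₂]
  refine forall_congr' fun u => forall_congr' fun v => ?_
  simp only [Matrix.toBilin'_apply', sympForm, ← Matrix.mulVec_mulVec, Matrix.dotProduct_mulVec _ Aᵀ,
    Matrix.vecMul_transpose]

/-- Mathlib's symplectic group as a subgroup of `GL`. -/
noncomputable def spEquivPreserving (m : ℕ) (F : Type*) [Field F] :
    Matrix.symplecticGroup (Fin m) F ≃* spGL m F :=
  MulEquiv.ofBijective
    (((Matrix.symplecticGroup (Fin m) F).subtype.toHomUnits).codRestrict (spGL m F) fun A =>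
      mem_symplecticGroup_iff_form.1 A.2)
    ⟨fun _ _ h => Subtype.ext (congrArg Units.val (congrArg Subtype.val h)),
      fun g => ⟨⟨(g.1 : Matrix _ _ F), (mem_symplecticGroup_iff_form (A := (g.1 : Matrix (Fin m ⊕ Fin m) (Fin m ⊕ Fin m) F))).2 fun u v => g.2 u v⟩, Subtype.ext (Units.ext rfl)⟩⟩

/-- Mathlib's symplectic group is the isometry group of `sympForm`. -/
noncomputable def spEquiv (m : ℕ) (F : Type*) [Field F] :
    Matrix.symplecticGroup (Fin m) F ≃* isom F (sympForm m F) :=
  (spEquivPreserving m F).trans (preservingEquiv _)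

theorem spEquiv_apply {m : ℕ} (A : Matrix.symplecticGroup (Fin m) F) (v : Fin m ⊕ Fin m → F) :
    (spEquiv m F A : _ ≃ₗ[F] _) v = (A : Matrix (Fin m ⊕ Fin m) (Fin m ⊕ Fin m) F) *ᵥ v :=
  rfl

/-- The symplectic group is transitive on independent tuples with the same Gram matrix. -/
theorem exists_symplectic_map {m : ℕ} {ι : Type*} {v w : ι → (Fin m ⊕ Fin m → F)} (hv : LinearIndependent F v)
    (hw : LinearIndependent F w) (h : ∀ i j, sympForm m F (w i) (w j) = sympForm m F (v i) (v j)) :
    ∃ A : Matrix.symplecticGroup (Fin m) F, ∀ i, (A : Matrix _ _ F) *ᵥ (v i) = w i := by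
  obtain ⟨g, hg, hgv⟩ := witt_symp_tuple hv hw h
  refine ⟨(spEquiv m F).symm ⟨g, hg⟩, fun i => ?_⟩
  rw [← spEquiv_apply, MulEquiv.apply_symm_apply]
  exact hgv i

/-! ### Splitting off a hyperbolic pair -/

/-- Coordinates `(x₀, y₀)` and the remaining ones. -/
def splitPair (m : ℕ) (F : Type*) [Field F] :
    (Fin (m + 1) ⊕ Fin (m + 1) → F) ≃ₗ[F] (F × F) × (Fin m ⊕ Fin m → F) where
  toFun v := ((v (.inl 0), v (.inr 0)), fun i => v (Sum.map Fin.succ Fin.succ i))
  invFun p := Sum.elim (Fin.cons p.1.1 fun i => p.2 (.inl i)) (Fin.cons p.1.2 fun i => p.2 (.inr i))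
  map_add' _ _ := rfl
  map_smul' _ _ := rfl
  left_inv v := by
    ext (i | i) <;> refine Fin.cases ?_ (fun j => ?_) i <;> simp
  right_inv p := by
    ext (i | i) <;> simp

/-- The symplectic form in the coordinates of `splitPair`. -/
def sympSplit (m : ℕ) (F : Type*) [Field F] :
    (F × F) × (Fin m ⊕ Fin m → F) → (F × F) × (Fin m ⊕ Fin m → F) → F :=
  fun p p' => p.1.2 * p'.1.1 - p.1.1 * p'.1.2 + sympForm m F p.2 p'.2

theorem sympSplit_apply {m : ℕ} (u v : Fin (m + 1) ⊕ Fin (m + 1) → F) :
    sympSplit m F (splitPair m F u) (splitPair m F v) = sympForm (m + 1) F u v := by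
  simp [sympSplit, sympForm_eq_sum, Fin.sum_univ_succ, splitPair]
  abel

/-- Ordered hyperbolic pairs of the symplectic form. -/
theorem card_sympPairs [Fintype F] (m : ℕ) :
    Nat.card {v : Fin 2 → (Fin m ⊕ Fin m → F) // sympForm m F (v 0) (v 1) = 1}
      = (Fintype.card F ^ (2 * m) - 1) * Fintype.card F ^ (2 * m - 1) := by
  classical
  have hne : ∀ u v : Fin m ⊕ Fin m → F, sympForm m F u v = 1 → u ≠ 0 := by
    intro u v h h0
    simp [h0, sympForm] at h
  let E : {v : Fin 2 → (Fin m ⊕ Fin m → F) // sympForm m F (v 0) (v 1) = 1}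
      ≃ Σ u : {u : Fin m ⊕ Fin m → F // u ≠ 0}, {w // sympB m F u.1 w = 1} :=
    { toFun := fun v => ⟨⟨v.1 0, hne _ _ v.2⟩, v.1 1, by rw [sympB_apply]; exact v.2⟩
      invFun := fun p => ⟨![p.1.1, p.2.1], by
        have := p.2.2
        rw [sympB_apply] at this
        simpa using this⟩
      left_inv := fun v => Subtype.ext (by funext i; fin_cases i <;> rfl)
      right_inv := fun p => rfl }
  have hd : Module.finrank F (Fin m ⊕ Fin m → F) = 2 * m := by simp [two_mul]
  have hfib : ∀ u : {u : Fin m ⊕ Fin m → F // u ≠ 0},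
      Nat.card {w // sympB m F u.1 w = 1} = Fintype.card F ^ (2 * m - 1) := by
    intro u
    rw [card_functional_fibre (fun h => u.2 ((sympB_nondegenerate m).1 _ fun y => by rw [h]; rfl)),
      hd, Nat.card_eq_fintype_card]
  rw [Nat.card_congr E, Nat.card_sigma]
  simp only [hfib, Finset.sum_const, smul_eq_mul, Finset.card_univ]
  rw [Fintype.card_subtype_compl, Fintype.card_subtype_eq, Fintype.card_fun, Fintype.card_sum,
    Fintype.card_fin, ← two_mul]

theorem card_sympPairs_fix (m : ℕ) :
    Nat.card {g : _ ≃ₗ[F] _ // g ∈ isom F (sympSplit m F) ∧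
      ∀ i : Fin 2, g (![((0, 1), 0), ((1, 0), 0)] i) = ![((0, 1), 0), ((1, 0), 0)] i}
      = Nat.card (isom F (sympForm m F)) := by
  have key : ∀ g : ((F × F) × (Fin m ⊕ Fin m → F)) ≃ₗ[F] ((F × F) × (Fin m ⊕ Fin m → F)),
      (∀ i : Fin 2, g (![((0, 1), 0), ((1, 0), 0)] i) = ![((0, 1), 0), ((1, 0), 0)] i) ↔
        ∀ a : F × F, g (a, 0) = (a, 0) := by
    intro g
    constructor
    · intro h a
      have h0 : g ((0, 1), 0) = ((0, 1), 0) := h 0
      have h1 : g ((1, 0), 0) = ((1, 0), 0) := h 1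
      have ha : ((a, 0) : (F × F) × (Fin m ⊕ Fin m → F)) = a.1 • ((1, 0), 0) + a.2 • ((0, 1), 0) := by
        simp
      rw [ha, map_add, map_smul, map_smul, h0, h1]
    · intro h i
      fin_cases i <;> simp [h]
  rw [Nat.card_congr (Equiv.subtypeEquivRight fun g => and_congr_right fun _ => key g)]
  refine (Nat.card_congr (fixEquiv (fC := sympForm m F) ?_ ?_)).symm
  · intro g hg hfix c
    have h1 := hg ((1, 0), 0) (0, c)
    have h2 := hg ((0, 1), 0) (0, c)
    rw [hfix] at h1 h2
    ext
    · simpa [sympSplit, sympForm] using h2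
    · simpa [sympSplit, sympForm] using h1
  · intro h
    refine ⟨fun hh u v => by simp [sympSplit, hh u.2 v.2], fun hh u v => ?_⟩
    simpa [sympSplit] using hh (0, u) (0, v)

/-- One step of the order formula. -/
theorem card_isom_sympForm_succ [Fintype F] (m : ℕ) :
    Nat.card (isom F (sympForm (m + 1) F)) = (Fintype.card F ^ (2 * (m + 1)) - 1)
      * Fintype.card F ^ (2 * m + 1) * Nat.card (isom F (sympForm m F)) := by
  classical
  let e := splitPair m F
  rw [card_isom_congr e (fun u v => sympSplit_apply u v)]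
  rw [card_eq_orbit_mul_fix (isom F (sympSplit m F)) ![((0, 1), 0), ((1, 0), 0)]
    {v | sympSplit m F (v 0) (v 1) = 1}]
  · rw [card_sympPairs_fix]
    congr 1
    have E : {v : Fin 2 → (Fin (m + 1) ⊕ Fin (m + 1) → F) // sympForm (m + 1) F (v 0) (v 1) = 1}
        ≃ {v : Fin 2 → (F × F) × (Fin m ⊕ Fin m → F) | sympSplit m F (v 0) (v 1) = 1} :=
      Equiv.subtypeEquiv (Equiv.piCongrRight fun _ => e.toEquiv) fun v => by
        simp [Equiv.piCongrRight, e, sympSplit_apply]
    rw [← Nat.card_congr E, card_sympPairs]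
    norm_num [show 2 * (m + 1) - 1 = 2 * m + 1 by omega]
  · intro g hg
    show sympSplit m F (g _) (g _) = 1
    rw [hg]
    simp [sympSplit, sympForm]
  · intro v hv
    have hind : ∀ w : Fin 2 → (Fin (m + 1) ⊕ Fin (m + 1) → F), sympForm (m + 1) F (w 0) (w 1) = 1 →
        LinearIndependent F w := by
      intro w hw
      rw [show w = ![w 0, w 1] by funext i; fin_cases i <;> rfl, LinearIndependent.pair_iff]
      intro a b h
      have h0 := congrArg (sympB (m + 1) F (w 0)) h
      have h1 := congrArg (sympB (m + 1) F (w 1)) h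
      simp only [map_add, map_smul, map_zero, smul_eq_mul, show ∀ x, sympB (m + 1) F x x = 0 from sympB_isAlt (m + 1),
        ← LinearMap.BilinForm.IsAlt.neg_eq (sympB_isAlt (m + 1)) (w 0) (w 1), sympB_apply, hw] at h0 h1
      have hz : ∀ x, sympForm (m + 1) F x x = 0 := fun x => by rw [← sympB_apply]; exact sympB_isAlt (m + 1) x
      simp only [hz, mul_zero, zero_add, add_zero] at h0 h1
      exact ⟨by linear_combination -h1, by linear_combination h0⟩
    have h1 : ∀ a b, sympForm (m + 1) F (e.symm a) (e.symm b) = sympSplit m F a b := fun a b => by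
      rw [← sympSplit_apply, e.apply_symm_apply, e.apply_symm_apply]
    have hv' : sympSplit m F (v 0) (v 1) = 1 := hv
    have he' : sympSplit m F ((0, 1), 0) ((1, 0), 0) = 1 := by simp [sympSplit, sympForm]
    have hal : ∀ a, sympSplit m F a a = 0 := fun a => by
      rw [← h1, ← sympB_apply]
      exact sympB_isAlt (m + 1) _
    have hsw : ∀ a b, sympSplit m F b a = -sympSplit m F a b := fun a b => by
      rw [← h1, ← h1, ← sympB_apply, ← sympB_apply, LinearMap.BilinForm.IsAlt.neg_eq (sympB_isAlt (m + 1))]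
    obtain ⟨g, hg, hgv⟩ := witt_symp_tuple (v := fun i => e.symm (![((0, 1), 0), ((1, 0), 0)] i))
      (w := fun i => e.symm (v i)) (hind _ (by rw [h1]; exact he')) (hind _ (by rw [h1]; exact hv'))
      (fun i j => by
        rw [h1, h1]
        fin_cases i <;> fin_cases j <;> simp [hal, he', hv', hsw _ (v 1), hsw ((0, 1), 0) ((1, 0), 0),
          hsw (v 0) (v 1)])
    refine ⟨(isomCongr e (fun u v => sympSplit_apply u v) ⟨g, hg⟩).1, Subtype.property _, fun i => ?_⟩
    show e (g (e.symm _)) = v i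
    rw [hgv i, e.apply_symm_apply]

/-- The order of the symplectic group over a finite field. -/
theorem card_isom_sympForm [Fintype F] (m : ℕ) :
    Nat.card (isom F (sympForm m F))
      = Fintype.card F ^ (m ^ 2) * ∏ i ∈ Finset.range m, (Fintype.card F ^ (2 * (i + 1)) - 1) := by
  induction m with
  | zero =>
    haveI : Subsingleton ((Fin 0 ⊕ Fin 0 → F) ≃ₗ[F] (Fin 0 ⊕ Fin 0 → F)) :=
      ⟨fun a b => LinearEquiv.ext fun x => Subsingleton.elim _ _⟩
    simp
  | succ m ih =>
    rw [card_isom_sympForm_succ, ih, Finset.prod_range_succ, show (m + 1) ^ 2 = m ^ 2 + (2 * m + 1) by ring,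
      pow_add]
    ring

theorem card_symplecticGroup [Fintype F] (m : ℕ) :
    Nat.card (Matrix.symplecticGroup (Fin m) F)
      = Fintype.card F ^ (m ^ 2) * ∏ i ∈ Finset.range m, (Fintype.card F ^ (2 * (i + 1)) - 1) := by
  rw [Nat.card_congr (spEquiv m F).toEquiv, card_isom_sympForm]

theorem card_spGL [Fintype F] (m : ℕ) :
    Nat.card (spGL m F)
      = Fintype.card F ^ (m ^ 2) * ∏ i ∈ Finset.range m, (Fintype.card F ^ (2 * (i + 1)) - 1) := by
  rw [← Nat.card_congr (spEquivPreserving m F).toEquiv, card_symplecticGroup]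

end Cfsg.Agent.Forms
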