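/-
Area Forms: the standard Hermitian form over the field with q² elements: norm fibres, isotropic and norm-one
vectors, the orders of GU and SU.
-/
import Cfsg.Agent.Lib.Forms.Symp
import Cfsg.Prelude.Def_LieClassical

set_option autoImplicit false

namespace Cfsg.Agent.Forms

open scoped Matrix

variable {F : Type*} [Field F] [Fintype F] {q : ℕ} (hF : Fintype.card F = q ^ 2)

/-! ### The field automorphism -/

include hF in
theorem one_lt_q : 1 < q := by
  have h := Fintype.one_lt_card (α := F)
  rw [hF] at h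
  rcases q with _ | _ | k
  · simp at h
  · simp at h
  · omega

include hF in
theorem pow_q_q (x : F) : (x ^ q) ^ q = x := by
  rw [← pow_mul, ← sq, ← hF, FiniteField.pow_card]

include hF in
theorem exists_prime_pow_q : ∃ p k : ℕ, p.Prime ∧ CharP F p ∧ q = p ^ k := by
  obtain ⟨p, hp⟩ := CharP.exists F
  obtain ⟨j, hpp, hj⟩ := FiniteField.card F p
  rw [hF] at hj
  obtain ⟨k, _, hk⟩ := (Nat.dvd_prime_pow hpp).1 (hj ▸ dvd_pow_self q two_ne_zero : q ∣ p ^ (j : ℕ))
  exact ⟨p, k, hpp, hp, hk⟩

/-- `x ↦ x ^ q` as a ring endomorphism. -/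
def qEnd : F →+* F where
  toFun x := x ^ q
  map_one' := one_pow q
  map_mul' x y := mul_pow x y q
  map_zero' := zero_pow (Nat.ne_of_gt (Nat.lt_of_succ_lt (one_lt_q hF)))
  map_add' x y := by
    obtain ⟨p, k, hpp, hp, hk⟩ := exists_prime_pow_q hF
    haveI := Fact.mk hpp
    subst hk
    exact add_pow_char_pow x y p k

theorem qEnd_apply (x : F) : qEnd hF x = x ^ q := rfl

theorem qEnd_qEnd (x : F) : qEnd hF (qEnd hF x) = x := pow_q_q hF x

include hF in
theorem units_card : Nat.card Fˣ = (q + 1) * (q - 1) := by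
  rw [Nat.card_units, Nat.card_eq_fintype_card, hF, ← Nat.sq_sub_sq, one_pow]

include hF in
theorem card_units_pow_eq_one {d : ℕ} (hd : d ∣ (q + 1) * (q - 1)) :
    Nat.card (powMonoidHom (α := Fˣ) d).ker = d := by
  rw [IsCyclic.card_powMonoidHom_ker, units_card hF]
  exact Nat.gcd_eq_right hd

include hF in
theorem card_norm_kernel : Nat.card (powMonoidHom (α := Fˣ) (q + 1)).ker = q + 1 :=
  card_units_pow_eq_one hF (dvd_mul_right _ _)

include hF in
/-- The norm is onto the subfield of order `q`. -/
theorem exists_norm_eq {c : F} (hc : c ≠ 0) (hcq : c ^ q = c) : ∃ x : F, x ≠ 0 ∧ x ^ (q + 1) = c := by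
  have hq := one_lt_q hF
  have hle : (powMonoidHom (α := Fˣ) (q + 1)).range ≤ (powMonoidHom (α := Fˣ) (q - 1)).ker := by
    rintro _ ⟨x, rfl⟩
    rw [MonoidHom.mem_ker, powMonoidHom_apply, powMonoidHom_apply, ← pow_mul, ← units_card hF]
    exact pow_card_eq_one'
  have hcard : Nat.card (powMonoidHom (α := Fˣ) (q + 1)).range = q - 1 := by
    have h := Subgroup.card_eq_card_quotient_mul_card_subgroup (powMonoidHom (α := Fˣ) (q + 1)).ker
    rw [Nat.card_congr (QuotientGroup.quotientKerEquivRange (powMonoidHom (α := Fˣ) (q + 1))).toEquiv,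
      card_norm_kernel hF, units_card hF, mul_comm (q + 1)] at h
    exact (Nat.eq_of_mul_eq_mul_right (Nat.succ_pos q) h).symm
  have heq := Subgroup.eq_of_le_of_card_ge hle
    (by rw [hcard, card_units_pow_eq_one hF (dvd_mul_left _ _)])
  have hmem : Units.mk0 c hc ∈ (powMonoidHom (α := Fˣ) (q - 1)).ker := by
    rw [MonoidHom.mem_ker, powMonoidHom_apply]
    refine Units.ext ?_
    show c ^ (q - 1) = 1
    refine mul_left_cancel₀ hc ?_
    rw [← pow_succ', Nat.sub_add_cancel hq.le, hcq, mul_one]
  rw [← heq] at hmem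
  obtain ⟨x, hx⟩ := hmem
  exact ⟨x, x.ne_zero, by simpa using congrArg Units.val hx⟩

include hF in
/-- Every non-zero norm has `q + 1` preimages. -/
theorem card_norm_fibre {c : F} (hc : c ≠ 0) (hcq : c ^ q = c) :
    Nat.card {x : F // x ^ (q + 1) = c} = q + 1 := by
  obtain ⟨x₀, hx₀, hx⟩ := exists_norm_eq hF hc hcq
  let E : (powMonoidHom (α := Fˣ) (q + 1)).ker ≃ {x : F // x ^ (q + 1) = c} :=
    { toFun := fun k => ⟨x₀ * (k.1 : F), by
        have hk : (k.1 : F) ^ (q + 1) = 1 := by simpa using congrArg Units.val k.2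
        rw [mul_pow, hx, hk, mul_one]⟩
      invFun := fun y => ⟨Units.mk0 (y.1 / x₀) (div_ne_zero (fun h => hc (by
          rw [← y.2, h, zero_pow (Nat.succ_ne_zero q)])) hx₀), Units.ext (by
        simp [div_pow, y.2, hx, hc])⟩
      left_inv := fun k => Subtype.ext (Units.ext (by simp [hx₀]))
      right_inv := fun y => Subtype.ext (by simp; field_simp) }
  rw [← Nat.card_congr E, card_norm_kernel hF]

theorem qEnd_ne_id : qEnd hF ≠ RingHom.id F := by
  intro h
  have hq := one_lt_q hF
  have hall : ∀ u : Fˣ, u ∈ (powMonoidHom (α := Fˣ) (q - 1)).ker := by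
    intro u
    rw [MonoidHom.mem_ker, powMonoidHom_apply]
    refine Units.ext ?_
    rw [Units.val_pow_eq_pow_val, Units.val_one]
    refine mul_left_cancel₀ u.ne_zero ?_
    rw [← pow_succ', Nat.sub_add_cancel hq.le, mul_one]
    exact RingHom.congr_fun h (u : F)
  have h1 := card_units_pow_eq_one hF (d := q - 1) (dvd_mul_left _ _)
  rw [Subgroup.eq_top_iff' _ |>.2 hall, Subgroup.card_top, units_card hF] at h1
  have h2 : (q + 1) * (q - 1) = 1 * (q - 1) := by rw [h1, one_mul]
  have := Nat.eq_of_mul_eq_mul_right (Nat.sub_pos_of_lt hq) h2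
  omega

/-! ### The form -/

/-- `hermForm` as a sesquilinear form, semilinear in the first variable: `hermB hF n u v = hermForm n F q v u`. -/
noncomputable def hermB (n : ℕ) :
    (Fin n → F) →ₛₗ[qEnd hF] (Fin n → F) →ₗ[F] F :=
  LinearMap.mk₂'ₛₗ (qEnd hF) (RingHom.id F) (fun u v => hermForm n F q v u)
    (fun a b c => by
      simp only [hermForm, Pi.add_apply, ← qEnd_apply hF, map_add, mul_add, Finset.sum_add_distrib])
    (fun c a b => by
      simp only [hermForm, Pi.smul_apply, smul_eq_mul, ← qEnd_apply hF, map_mul, Finset.mul_sum]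
      exact Finset.sum_congr rfl fun i _ => mul_left_comm _ _ _)
    (fun a b c => by simp only [hermForm, Pi.add_apply, add_mul, Finset.sum_add_distrib])
    (fun c a b => by
      simp only [hermForm, Pi.smul_apply, smul_eq_mul, RingHom.id_apply, Finset.mul_sum, mul_assoc])

theorem hermB_apply {n : ℕ} (u v : Fin n → F) : hermB hF n u v = hermForm n F q v u := rfl

include hF in
theorem hermForm_swap {n : ℕ} (u v : Fin n → F) : qEnd hF (hermForm n F q u v) = hermForm n F q v u := by
  simp only [hermForm, map_sum, map_mul]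
  refine Finset.sum_congr rfl fun i _ => ?_
  rw [qEnd_apply, qEnd_apply, pow_q_q hF, mul_comm]

include hF in
theorem hermForm_self_fixed {n : ℕ} (v : Fin n → F) : hermForm n F q v v ^ q = hermForm n F q v v := by
  rw [← qEnd_apply hF, hermForm_swap hF]

theorem hermForm_smul {n : ℕ} (c : F) (v : Fin n → F) :
    hermForm n F q (c • v) (c • v) = c ^ (q + 1) * hermForm n F q v v := by
  simp only [hermForm, Pi.smul_apply, smul_eq_mul, Finset.mul_sum, mul_pow, pow_succ']
  exact Finset.sum_congr rfl fun i _ => by ring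

theorem hermB_polar (n : ℕ) : IsHermitianPolar (qEnd hF) 1 (hermB hF n) :=
  isHermitianPolar_of_conj (qEnd_ne_id hF) (qEnd_qEnd hF)
    (fun x y => by rw [hermB_apply, hermB_apply, hermForm_swap hF])
    (fun x h => by
      funext i
      have hi := h (Pi.single i 1)
      simp [hermB_apply, hermForm, Pi.single_apply] at hi
      simpa using hi.1)

theorem isom_hermForm (n : ℕ) : isom F (hermForm n F q) = isom F (form2 (hermB hF n)) :=
  isom_eq_of_iff fun _ => ⟨fun h u v => h v u, fun h u v => h v u⟩

include hF in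
/-- Witt's theorem for tuples and `hermForm`. -/
theorem witt_herm_tuple {n : ℕ} {ι : Type*} {v w : ι → (Fin n → F)} (hv : LinearIndependent F v)
    (hw : LinearIndependent F w) (h : ∀ i j, hermForm n F q (w i) (w j) = hermForm n F q (v i) (v j)) :
    ∃ g ∈ isom F (hermForm n F q), ∀ i, g (v i) = w i := by
  rw [isom_hermForm hF]
  exact witt_hermitian_tuple (hermB_polar hF n) hv hw fun i j => h j i

/-- `GU` as a linear isometry group. -/
noncomputable def guEquiv (n : ℕ) (F : Type*) [Field F] (q : ℕ) : GU n F q ≃* isom F (hermForm n F q) :=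
  preservingEquiv _

/-- First coordinate and the rest. -/
def splitFirst (n : ℕ) (F : Type*) [Field F] : (Fin (n + 1) → F) ≃ₗ[F] F × (Fin n → F) where
  toFun v := (v 0, fun i => v i.succ)
  invFun p := Fin.cons p.1 p.2
  map_add' _ _ := rfl
  map_smul' _ _ := rfl
  left_inv v := by
    ext i
    refine Fin.cases ?_ (fun j => ?_) i <;> simp
  right_inv p := by ext <;> simp

/-- The Hermitian form in the coordinates of `splitFirst`. -/
def hermSplit (n : ℕ) (F : Type*) [Field F] (q : ℕ) : F × (Fin n → F) → F × (Fin n → F) → F :=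
  fun p p' => p.1 * p'.1 ^ q + hermForm n F q p.2 p'.2

theorem hermSplit_apply {n : ℕ} (u v : Fin (n + 1) → F) :
    hermSplit n F q (splitFirst n F u) (splitFirst n F v) = hermForm (n + 1) F q u v := by
  simp [hermSplit, hermForm, Fin.sum_univ_succ, splitFirst]

/-! ### Counts -/

include hF in
/-- All non-zero norms are taken equally often. -/
theorem card_herm_fibre {n : ℕ} {c : F} (hc : c ≠ 0) (hcq : c ^ q = c) :
    Nat.card {v : Fin n → F // hermForm n F q v v = c} = Nat.card {v : Fin n → F // hermForm n F q v v = 1} := by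
  obtain ⟨x, hx, hxc⟩ := exists_norm_eq hF hc hcq
  refine Nat.card_congr
    { toFun := fun v => ⟨x⁻¹ • v.1, by rw [hermForm_smul, inv_pow, hxc, v.2, inv_mul_cancel₀ hc]⟩
      invFun := fun v => ⟨x • v.1, by rw [hermForm_smul, hxc, v.2, mul_one]⟩
      left_inv := fun v => Subtype.ext (smul_inv_smul₀ hx _)
      right_inv := fun v => Subtype.ext (inv_smul_smul₀ hx _) }

include hF in
/-- Counting `v` by its first coordinate. -/
theorem card_herm_succ (n : ℕ) {c : F} (hc : c ^ q = c) {k : ℕ}
    (hk : Nat.card {x : F // x ^ (q + 1) = c} = k) :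
    Nat.card {v : Fin (n + 1) → F // hermForm (n + 1) F q v v = c}
      = k * Nat.card {w : Fin n → F // hermForm n F q w w = 0}
        + (q ^ 2 - k) * Nat.card {w : Fin n → F // hermForm n F q w w = 1} := by
  classical
  let e : {v : Fin (n + 1) → F // hermForm (n + 1) F q v v = c}
      ≃ Σ x : F, {w : Fin n → F // hermForm n F q w w = c - x ^ (q + 1)} :=
    { toFun := fun v => ⟨v.1 0, fun i => v.1 i.succ, by
        have h := v.2
        rw [← hermSplit_apply] at h
        rw [eq_sub_iff_add_eq', pow_succ']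
        exact h⟩
      invFun := fun p => ⟨(splitFirst n F).symm (p.1, p.2.1), by
        rw [← hermSplit_apply, LinearEquiv.apply_symm_apply]
        show p.1 * p.1 ^ q + _ = c
        rw [p.2.2, ← pow_succ', add_sub_cancel]⟩
      left_inv := fun v => Subtype.ext ((splitFirst n F).symm_apply_apply v.1)
      right_inv := fun p => rfl }
  have hfix : ∀ x : F, (c - x ^ (q + 1)) ^ q = c - x ^ (q + 1) := by
    intro x
    rw [← qEnd_apply hF, map_sub, map_pow, qEnd_apply, qEnd_apply, hc, pow_succ (x ^ q), pow_q_q hF,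
      ← pow_succ']
  rw [Nat.card_congr e, Nat.card_sigma,
    ← Finset.sum_filter_add_sum_filter_not Finset.univ (fun x => x ^ (q + 1) = c)]
  have h1 : ∀ x ∈ Finset.univ.filter (fun x : F => x ^ (q + 1) = c),
      Nat.card {w : Fin n → F // hermForm n F q w w = c - x ^ (q + 1)}
        = Nat.card {w : Fin n → F // hermForm n F q w w = 0} := by
    intro x hx
    rw [(Finset.mem_filter.1 hx).2, sub_self]
  have h2 : ∀ x ∈ Finset.univ.filter (fun x : F => ¬ x ^ (q + 1) = c),
      Nat.card {w : Fin n → F // hermForm n F q w w = c - x ^ (q + 1)}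
        = Nat.card {w : Fin n → F // hermForm n F q w w = 1} := by
    intro x hx
    exact card_herm_fibre hF (sub_ne_zero.2 (Ne.symm (Finset.mem_filter.1 hx).2)) (hfix x)
  rw [Finset.sum_congr rfl h1, Finset.sum_congr rfl h2, Finset.sum_const, Finset.sum_const, smul_eq_mul,
    smul_eq_mul]
  rw [Nat.card_eq_fintype_card, Fintype.card_subtype] at hk
  rw [hk, Finset.filter_not, Finset.card_sdiff_of_subset (Finset.subset_univ _), hk, Finset.card_univ, hF]

include hF in
theorem card_herm_aux (n : ℕ) :
    (q : ℤ) * Nat.card {v : Fin n → F // hermForm n F q v v = 0} = (q : ℤ) ^ (2 * n) + (-q : ℤ) ^ n * (q - 1) ∧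
      (q : ℤ) * Nat.card {v : Fin n → F // hermForm n F q v v = 1} = (q : ℤ) ^ (2 * n) - (-q : ℤ) ^ n := by
  induction n with
  | zero =>
    haveI : Unique {v : Fin 0 → F // hermForm 0 F q v v = 0} :=
      ⟨⟨⟨0, by simp [hermForm]⟩⟩, fun z => Subtype.ext (Subsingleton.elim _ _)⟩
    haveI : IsEmpty {v : Fin 0 → F // hermForm 0 F q v v = 1} :=
      ⟨fun z => zero_ne_one (α := F) (by simpa [hermForm] using z.2)⟩
    simp [Nat.card_unique]
  | succ n ih =>
    have hq := one_lt_q hF
    have hz : Nat.card {x : F // x ^ (q + 1) = (0 : F)} = 1 := by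
      haveI : Unique {x : F // x ^ (q + 1) = (0 : F)} :=
        ⟨⟨⟨0, zero_pow (Nat.succ_ne_zero q)⟩⟩, fun z => Subtype.ext (by simpa using z.2)⟩
      exact Nat.card_unique
    have h1 : 1 ≤ q ^ 2 := Nat.one_le_pow _ _ (by omega)
    have h2 : q + 1 ≤ q ^ 2 := by nlinarith
    rw [card_herm_succ hF n (c := 0) (zero_pow (by omega)) hz,
      card_herm_succ hF n (c := 1) (one_pow q) (card_norm_fibre hF one_ne_zero (one_pow q))]
    push_cast [Nat.cast_sub h1, Nat.cast_sub h2]
    constructor
    · linear_combination ih.1 + ((q : ℤ) ^ 2 - 1) * ih.2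
    · linear_combination ((q : ℤ) + 1) * ih.1 + ((q : ℤ) ^ 2 - q - 1) * ih.2

include hF in
/-- Norm-one vectors. -/
theorem card_herm_norm_one (n : ℕ) : Nat.card {v : Fin n → F // hermForm n F q v v = 1}
    = if Even n then q ^ (n - 1) * (q ^ n - 1) else q ^ (n - 1) * (q ^ n + 1) := by
  rcases n with _ | k
  · haveI : IsEmpty {v : Fin 0 → F // hermForm 0 F q v v = 1} :=
      ⟨fun z => zero_ne_one (α := F) (by simpa [hermForm] using z.2)⟩
    simp
  · have hq := one_lt_q hF
    have h := (card_herm_aux hF (k + 1)).2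
    have hpos : 1 ≤ q ^ (k + 1) := Nat.one_le_pow _ _ (by omega)
    refine Nat.eq_of_mul_eq_mul_left (by omega : 0 < q) ?_
    rcases Nat.even_or_odd (k + 1) with he | ho
    · rw [if_pos he]
      rw [he.neg_pow] at h
      simp only [Nat.add_sub_cancel]
      zify [hpos]
      linear_combination h
    · rw [if_neg (Nat.not_even_iff_odd.2 ho)]
      rw [ho.neg_pow] at h
      simp only [Nat.add_sub_cancel]
      zify
      linear_combination h

include hF in
/-- Isotropic vectors, the zero vector included. -/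
theorem card_herm_isotropic (n : ℕ) : Nat.card {v : Fin n → F // hermForm n F q v v = 0}
    = (if Even n then (q ^ n - 1) * (q ^ (n - 1) + 1) else (q ^ n + 1) * (q ^ (n - 1) - 1)) + 1 := by
  rcases n with _ | k
  · haveI : Unique {v : Fin 0 → F // hermForm 0 F q v v = 0} :=
      ⟨⟨⟨0, by simp [hermForm]⟩⟩, fun z => Subtype.ext (Subsingleton.elim _ _)⟩
    simp [Nat.card_unique]
  · have hq := one_lt_q hF
    have h := (card_herm_aux hF (k + 1)).1
    have hpos : 1 ≤ q ^ (k + 1) := Nat.one_le_pow _ _ (by omega)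
    have hpos' : 1 ≤ q ^ k := Nat.one_le_pow _ _ (by omega)
    refine Nat.eq_of_mul_eq_mul_left (by omega : 0 < q) ?_
    rcases Nat.even_or_odd (k + 1) with he | ho
    · rw [if_pos he]
      rw [he.neg_pow] at h
      simp only [Nat.add_sub_cancel]
      zify [hpos]
      linear_combination h
    · rw [if_neg (Nat.not_even_iff_odd.2 ho)]
      rw [ho.neg_pow] at h
      simp only [Nat.add_sub_cancel]
      zify [hpos']
      linear_combination h

/-! ### Orders -/

include hF in
/-- One step of the order formula of `GU`. -/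
theorem card_isom_hermForm_succ (n : ℕ) : Nat.card (isom F (hermForm (n + 1) F q))
    = Nat.card {v : Fin (n + 1) → F // hermForm (n + 1) F q v v = 1} * Nat.card (isom F (hermForm n F q)) := by
  classical
  let e := splitFirst n F
  have hq0 : q ≠ 0 := by have := one_lt_q hF; omega
  rw [card_isom_congr e (fun u v => hermSplit_apply u v),
    card_eq_orbit_mul_fix (isom F (hermSplit n F q)) (fun _ : Unit => ((1 : F), (0 : Fin n → F)))
      {v | hermSplit n F q (v ()) (v ()) = 1}]
  · congr 1
    · exact Nat.card_congr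
        { toFun := fun v => ⟨e.symm (v.1 ()), by rw [← hermSplit_apply, e.apply_symm_apply]; exact v.2⟩
          invFun := fun v => ⟨fun _ => e v.1, by
            show hermSplit n F q (e v.1) (e v.1) = 1
            rw [hermSplit_apply, v.2]⟩
          left_inv := fun v => Subtype.ext (funext fun u => e.apply_symm_apply _)
          right_inv := fun v => Subtype.ext (e.symm_apply_apply _) }
    · have key : ∀ g : (F × (Fin n → F)) ≃ₗ[F] (F × (Fin n → F)),
          (∀ _i : Unit, g (1, 0) = (1, 0)) ↔ ∀ a : F, g (a, 0) = (a, 0) := by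
        intro g
        refine ⟨fun h a => ?_, fun h _ => h 1⟩
        have ha : ((a, 0) : F × (Fin n → F)) = a • (1, 0) := by simp
        rw [ha, map_smul, h ()]
      rw [Nat.card_congr (Equiv.subtypeEquivRight fun g => and_congr_right fun _ => key g)]
      refine (Nat.card_congr (fixEquiv (fC := hermForm n F q) ?_ ?_)).symm
      · intro g hg hfix c
        have h1 := hg (0, c) ((1 : F), 0)
        rw [hfix] at h1
        simpa [hermSplit, hermForm, zero_pow hq0] using h1
      · intro h
        refine ⟨fun hh u v => by simp [hermSplit, hh u.2 v.2], fun hh u v => ?_⟩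
        simpa [hermSplit, zero_pow hq0] using hh (0, u) (0, v)
  · intro g hg
    show hermSplit n F q (g _) (g _) = 1
    rw [hg]
    simp [hermSplit, hermForm, zero_pow hq0]
  · intro v hv
    have hv' : hermSplit n F q (v ()) (v ()) = 1 := hv
    have h1 : ∀ a b, hermForm (n + 1) F q (e.symm a) (e.symm b) = hermSplit n F q a b := fun a b => by
      rw [← hermSplit_apply, e.apply_symm_apply, e.apply_symm_apply]
    have hne : ∀ a, hermSplit n F q a a = 1 → e.symm a ≠ 0 := by
      intro a ha h0
      rw [← h1, h0] at ha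
      simp [hermForm] at ha
    have he0 : hermSplit n F q (1, 0) (1, 0) = 1 := by simp [hermSplit, hermForm, zero_pow hq0]
    obtain ⟨g, hg, hgv⟩ := witt_herm_tuple hF (v := fun _ : Unit => e.symm (1, 0))
      (w := fun _ : Unit => e.symm (v ())) (linearIndependent_unique_iff.2 (hne _ he0))
      (linearIndependent_unique_iff.2 (hne _ hv')) (fun _ _ => by rw [h1, h1, he0, hv'])
    refine ⟨(isomCongr e (fun u v => hermSplit_apply u v) ⟨g, hg⟩).1, Subtype.property _, fun i => ?_⟩
    show e (g (e.symm _)) = v i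
    rw [hgv i, e.apply_symm_apply]

include hF in
/-- The order of `GU_n(q)`. -/
theorem card_GU (n : ℕ) : Nat.card (GU n F q)
    = q ^ (n * (n - 1) / 2) * ∏ i ∈ Finset.range n, (if Even i then q ^ (i + 1) + 1 else q ^ (i + 1) - 1) := by
  rw [Nat.card_congr (guEquiv n F q).toEquiv]
  induction n with
  | zero =>
    haveI : Subsingleton ((Fin 0 → F) ≃ₗ[F] (Fin 0 → F)) :=
      ⟨fun a b => LinearEquiv.ext fun x => Subsingleton.elim _ _⟩
    simp
  | succ n ih =>
    have he : (n + 1) * n / 2 = n * (n - 1) / 2 + n := by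
      rcases n with _ | k
      · rfl
      · simp only [Nat.add_sub_cancel]
        rw [show (k + 1 + 1) * (k + 1) = (k + 1) * k + (k + 1) * 2 by ring,
          Nat.add_mul_div_right _ _ (by norm_num : 0 < 2)]
    rw [card_isom_hermForm_succ hF, ih, card_herm_norm_one hF, Finset.prod_range_succ,
      show n + 1 - 1 = n from rfl, he, pow_add]
    simp only [Nat.even_add_one]
    by_cases hn : Even n <;> simp [hn] <;> ring

/-- The determinant on `GU`. -/
noncomputable def guDet (n : ℕ) (F : Type*) [Field F] (q : ℕ) : GU n F q →* Fˣ :=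
  Matrix.GeneralLinearGroup.det.comp (GU n F q).subtype

include hF in
theorem det_pow_of_mem_GU {n : ℕ} {g : Matrix.GeneralLinearGroup (Fin n) F} (hg : g ∈ GU n F q) :
    (g : Matrix (Fin n) (Fin n) F).det ^ (q + 1) = 1 := by
  have hq0 : q ≠ 0 := by have := one_lt_q hF; omega
  have hM : (g : Matrix (Fin n) (Fin n) F)ᵀ * (g : Matrix (Fin n) (Fin n) F).map (qEnd hF) = 1 := by
    ext i j
    have h : hermForm n F q ((g : Matrix (Fin n) (Fin n) F) *ᵥ Pi.single i 1)
        ((g : Matrix (Fin n) (Fin n) F) *ᵥ Pi.single j 1)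
        = hermForm n F q (Pi.single i 1) (Pi.single j 1) := hg _ _
    rw [Matrix.mulVec_single_one, Matrix.mulVec_single_one] at h
    have h2 : hermForm n F q (Pi.single i (1 : F)) (Pi.single j 1) = (1 : Matrix (Fin n) (Fin n) F) i j := by
      simp [hermForm, Pi.single_apply, Matrix.one_apply, zero_pow hq0, eq_comm]
    rw [h2] at h
    rw [← h, Matrix.mul_apply]
    rfl
  have h := congrArg Matrix.det hM
  rw [Matrix.det_mul, Matrix.det_transpose, Matrix.det_one, ← RingHom.mapMatrix_apply, ← RingHom.map_det,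
    qEnd_apply] at h
  rwa [pow_succ']

include hF in
/-- `SU` is the kernel of the determinant on `GU`. -/
theorem range_guDet {n : ℕ} (hn : 1 ≤ n) : (guDet n F q).range = (powMonoidHom (α := Fˣ) (q + 1)).ker := by
  apply le_antisymm
  · rintro _ ⟨g, rfl⟩
    refine Units.ext ?_
    rw [powMonoidHom_apply, Units.val_pow_eq_pow_val]
    exact det_pow_of_mem_GU hF g.2
  · intro l hl
    have hl' : (l : F) ^ (q + 1) = 1 := by simpa using congrArg Units.val hl
    let d : Fin n → F := Function.update 1 ⟨0, hn⟩ (l : F)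
    have hdet : (Matrix.diagonal d).det = l := by
      rw [Matrix.det_diagonal, Finset.prod_update_of_mem (Finset.mem_univ _)]
      simp
    have hne : (Matrix.diagonal d).det ≠ 0 := hdet.symm ▸ l.ne_zero
    refine ⟨⟨Matrix.GeneralLinearGroup.mkOfDetNeZero _ hne, fun u v => ?_⟩, Units.ext hdet⟩
    show hermForm n F q (Matrix.diagonal d *ᵥ u) (Matrix.diagonal d *ᵥ v) = hermForm n F q u v
    refine Finset.sum_congr rfl fun i _ => ?_
    rw [Matrix.mulVec_diagonal, Matrix.mulVec_diagonal]
    by_cases hi : i = ⟨0, hn⟩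
    · simp only [d, hi, Function.update_self, mul_pow]
      linear_combination (u ⟨0, hn⟩ * v ⟨0, hn⟩ ^ q) * hl'
    · simp [d, hi]

/-- `SU` and the kernel of `guDet`. -/
noncomputable def suEquivKer (n : ℕ) (F : Type*) [Field F] (q : ℕ) : SU n F q ≃* (guDet n F q).ker where
  toFun g := ⟨⟨Matrix.SpecialLinearGroup.toGL g.1, g.2⟩, Units.ext g.1.2⟩
  invFun g := ⟨⟨(g.1.1 : Matrix (Fin n) (Fin n) F), congrArg Units.val g.2⟩, g.1.2⟩
  left_inv g := rfl
  right_inv g := Subtype.ext (Subtype.ext (Units.ext rfl))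
  map_mul' g h := Subtype.ext (Subtype.ext (Units.ext rfl))

include hF in
theorem card_SU_mul {n : ℕ} (hn : 1 ≤ n) : (q + 1) * Nat.card (SU n F q) = Nat.card (GU n F q) := by
  rw [Nat.card_congr (suEquivKer n F q).toEquiv,
    Subgroup.card_eq_card_quotient_mul_card_subgroup (guDet n F q).ker,
    Nat.card_congr (QuotientGroup.quotientKerEquivRange (guDet n F q)).toEquiv, range_guDet hF hn,
    card_norm_kernel hF]

end Cfsg.Agent.Forms
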