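/-
Area Forms: normal forms of alternating, Hermitian and symmetric forms; the subfield fixed by an involution of a
finite field; well-definedness of the Witt index.
-/
import Cfsg.Agent.Lib.Forms.Herm

set_option autoImplicit false

namespace Cfsg.Agent.Forms

variable {F : Type*} [Field F] {V : Type*} [AddCommGroup V] [Module F V]

/-! ### Restriction and orthogonal splitting -/

/-- A sesquilinear form restricted to a subspace. -/
def restrictForm {σ : F →+* F} (B : V →ₛₗ[σ] V →ₗ[F] F) (C : Submodule F V) : C →ₛₗ[σ] C →ₗ[F] F :=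
  LinearMap.mk₂'ₛₗ σ (RingHom.id F) (fun x y => B x y)
    (fun a b c => by simp) (fun r a b => by simp [map_smulₛₗ]) (fun a b c => by simp) (fun r a b => by simp)

theorem restrictForm_apply {σ : F →+* F} (B : V →ₛₗ[σ] V →ₗ[F] F) (C : Submodule F V) (x y : C) :
    restrictForm B C x y = B x y := rfl

/-- Splitting along a vector with `B v v = 1`. -/
noncomputable def unitSplit {σ : F →+* F} (B : V →ₛₗ[σ] V →ₗ[F] F) {v : V} (hv : B v v = 1) :
    V ≃ₗ[F] F × LinearMap.ker (B v) where
  toFun x := (B v x, ⟨x - B v x • v, by simp [map_sub, map_smul, hv]⟩)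
  invFun p := p.1 • v + (p.2 : V)
  map_add' x y := by
    refine Prod.ext (map_add _ _ _) (Subtype.ext ?_)
    simp [add_smul]
    abel
  map_smul' r x := by
    refine Prod.ext (map_smul _ _ _) (Subtype.ext ?_)
    simp [smul_sub, smul_smul]
  left_inv x := by simp
  right_inv p := by
    have h : B v (p.1 • v + (p.2 : V)) = p.1 := by
      rw [map_add, map_smul, hv, LinearMap.mem_ker.1 p.2.2, smul_eq_mul, mul_one, add_zero]
    refine Prod.ext h (Subtype.ext ?_)
    show p.1 • v + (p.2 : V) - B v (p.1 • v + (p.2 : V)) • v = p.2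
    rw [h, add_sub_cancel_left]

theorem unitSplit_form {σ : F →+* F} {B : V →ₛₗ[σ] V →ₗ[F] F} (hS : ∀ x y, σ (B x y) = B y x) {v : V}
    (hv : B v v = 1) (x y : V) :
    B x y = σ (unitSplit B hv x).1 * (unitSplit B hv y).1
      + restrictForm B (LinearMap.ker (B v)) (unitSplit B hv x).2 (unitSplit B hv y).2 := by
  show B x y = σ (B v x) * B v y + B (x - B v x • v) (y - B v y • v)
  simp only [map_sub, map_smulₛₗ, map_smul, LinearMap.sub_apply, LinearMap.smul_apply, smul_eq_mul,
    RingHom.id_apply, hv, ← hS v x]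
  ring

theorem restrictForm_sep {σ : F →+* F} {B : V →ₛₗ[σ] V →ₗ[F] F} (hS : ∀ x y, σ (B x y) = B y x)
    (hB : ∀ x, (∀ y, B x y = 0) → x = 0) {v : V} (hv : B v v = 1) :
    ∀ x, (∀ y, restrictForm B (LinearMap.ker (B v)) x y = 0) → x = 0 := by
  intro x hx
  refine Subtype.ext (hB x fun y => ?_)
  have hxv : B x v = 0 := by rw [← hS v x, LinearMap.mem_ker.1 x.2, map_zero]
  have h := hx (unitSplit B hv y).2
  rw [restrictForm_apply] at h
  have h' : B x (y - B v y • v) = 0 := h
  rwa [map_sub, map_smul, hxv, smul_zero, sub_zero] at h'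

theorem finrank_ker_unit [FiniteDimensional F V] {σ : F →+* F} (B : V →ₛₗ[σ] V →ₗ[F] F) {v : V}
    (hv : B v v = 1) : Module.finrank F V = Module.finrank F (LinearMap.ker (B v)) + 1 := by
  rw [(unitSplit B hv).finrank_eq, Module.finrank_prod, Module.finrank_self, add_comm]

/-! ### Alternating forms -/

/-- Every alternating form is `sympForm` (arguments swapped) in some coordinates, plus a radical. -/
theorem exists_alt_coords [FiniteDimensional F V] (B : LinearMap.BilinForm F V) (hA : B.IsAlt) :
    ∃ (m k : ℕ) (e : V ≃ₗ[F] ((Fin m ⊕ Fin m) ⊕ Fin k → F)),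
      ∀ u v, B u v = sympForm m F (fun i => e v (.inl i)) (fun i => e u (.inl i)) := by
  generalize hn : Module.finrank F V = n
  induction n using Nat.strong_induction_on generalizing V with
  | _ n ih =>
    by_cases h0 : ∀ u v, B u v = 0
    · refine ⟨0, n, (Module.finBasisOfFinrankEq F V hn).equivFun.trans
        (LinearEquiv.funCongrLeft F F (Equiv.emptySum (Fin 0 ⊕ Fin 0) (Fin n))), fun u v => ?_⟩
      rw [h0, sympForm_eq_sum]
      simp
    · simp only [not_forall] at h0
      obtain ⟨a, b, hab⟩ := h0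
      obtain ⟨e0, f0, hef⟩ : ∃ e0 f0, B e0 f0 = 1 :=
        ⟨(B a b)⁻¹ • a, b, by simp [inv_mul_cancel₀ hab]⟩
      have hz : ∀ x, B x x = 0 := hA
      have hsw : ∀ x y, B y x = -B x y := fun x y => (LinearMap.BilinForm.IsAlt.neg_eq hA x y).symm
      let C : Submodule F V := LinearMap.ker (B e0) ⊓ LinearMap.ker (B f0)
      have hmem : ∀ x, x - (B x f0) • e0 + (B x e0) • f0 ∈ C := fun x => by
        simp [C, Submodule.mem_inf, hz, hef, hsw e0 f0, hsw x e0, hsw x f0]
      let s : V ≃ₗ[F] (F × F) × C :=
        { toFun := fun x => ((B x f0, - B x e0), ⟨x - (B x f0) • e0 + (B x e0) • f0, hmem x⟩)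
          invFun := fun p => p.1.1 • e0 + p.1.2 • f0 + (p.2 : V)
          map_add' := fun x y => by
            refine Prod.ext (Prod.ext ?_ ?_) (Subtype.ext ?_)
            · simp
            · simp; ring
            · simp [add_smul]; abel
          map_smul' := fun r x => by
            refine Prod.ext (Prod.ext ?_ ?_) (Subtype.ext ?_)
            · simp
            · simp
            · simp [smul_add, smul_sub, smul_smul]
          left_inv := fun x => by
            show (B x f0) • e0 + (- B x e0) • f0 + (x - (B x f0) • e0 + (B x e0) • f0) = x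
            rw [neg_smul]
            abel
          right_inv := fun p => by
            have h1 : B e0 (p.2 : V) = 0 := (Submodule.mem_inf.1 p.2.2).1
            have h2 : B f0 (p.2 : V) = 0 := (Submodule.mem_inf.1 p.2.2).2
            have h3 : B (p.1.1 • e0 + p.1.2 • f0 + (p.2 : V)) f0 = p.1.1 := by
              simp [hz, hef, hsw f0 (p.2 : V), h2]
            have h4 : B (p.1.1 • e0 + p.1.2 • f0 + (p.2 : V)) e0 = -p.1.2 := by
              simp [hz, hsw e0 f0, hef, hsw e0 (p.2 : V), h1]
            refine Prod.ext (Prod.ext h3 ?_) (Subtype.ext ?_)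
            · show - B (p.1.1 • e0 + p.1.2 • f0 + (p.2 : V)) e0 = p.1.2
              rw [h4, neg_neg]
            · show (p.1.1 • e0 + p.1.2 • f0 + (p.2 : V))
                - (B (p.1.1 • e0 + p.1.2 • f0 + (p.2 : V)) f0) • e0
                + (B (p.1.1 • e0 + p.1.2 • f0 + (p.2 : V)) e0) • f0 = p.2
              rw [h3, h4, neg_smul]
              abel }
      let BC : LinearMap.BilinForm F C := restrictForm B C
      have hBC : BC.IsAlt := fun x => hz x
      have hlt : Module.finrank F C < n := by
        rw [← hn, s.finrank_eq, Module.finrank_prod, Module.finrank_prod, Module.finrank_self]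
        omega
      obtain ⟨m, k, e, he⟩ := ih _ hlt BC hBC rfl
      let cons : ((F × F) × ((Fin m ⊕ Fin m) ⊕ Fin k → F)) ≃ₗ[F] ((Fin (m + 1) ⊕ Fin (m + 1)) ⊕ Fin k → F) :=
        { toFun := fun p => Sum.elim ((splitPair m F).symm (p.1, fun i => p.2 (.inl i))) fun j => p.2 (.inr j)
          invFun := fun w => ((w (.inl (.inl 0)), w (.inl (.inr 0))),
            fun i => w (Sum.map (Sum.map Fin.succ Fin.succ) id i))
          map_add' := fun p p' => by
            ext ((i | i) | j)
            · refine Fin.cases ?_ (fun l => ?_) i <;> simp [splitPair]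
            · refine Fin.cases ?_ (fun l => ?_) i <;> simp [splitPair]
            · rfl
          map_smul' := fun r p => by
            ext ((i | i) | j)
            · refine Fin.cases ?_ (fun l => ?_) i <;> simp [splitPair]
            · refine Fin.cases ?_ (fun l => ?_) i <;> simp [splitPair]
            · rfl
          left_inv := fun p => by
            refine Prod.ext (Prod.ext ?_ ?_) ?_
            · simp [splitPair]
            · simp [splitPair]
            · ext ((i | i) | j) <;> simp [splitPair]
          right_inv := fun w => by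
            ext ((i | i) | j)
            · refine Fin.cases ?_ (fun l => ?_) i <;> simp [splitPair]
            · refine Fin.cases ?_ (fun l => ?_) i <;> simp [splitPair]
            · simp }
      refine ⟨m + 1, k, s.trans ((LinearEquiv.prodCongr (LinearEquiv.refl F (F × F)) e).trans cons),
        fun u v => ?_⟩
      show B u v = sympForm (m + 1) F ((splitPair m F).symm ((s v).1, fun i => e (s v).2 (.inl i)))
        ((splitPair m F).symm ((s u).1, fun i => e (s u).2 (.inl i)))
      rw [← sympSplit_apply, LinearEquiv.apply_symm_apply, LinearEquiv.apply_symm_apply, sympSplit, ← he]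
      show B u v = (- B v e0) * B u f0 - B v f0 * (- B u e0)
        + B (u - (B u f0) • e0 + (B u e0) • f0) (v - (B v f0) • e0 + (B v e0) • f0)
      simp [hz, hef, hsw e0 f0, hsw v e0, hsw v f0]
      ring

/-! ### Involutions of finite fields -/

/-- A non-identity involution of a finite field is `x ↦ x ^ q` where `#F = q²`. -/
theorem exists_q_of_invol [Fintype F] {σ : F →+* F} (hσ : σ ≠ RingHom.id F) (hσ2 : ∀ a, σ (σ a) = a) :
    ∃ q : ℕ, Fintype.card F = q ^ 2 ∧ ∀ x, σ x = x ^ q := by
  classical
  obtain ⟨a, ha⟩ : ∃ a, σ a ≠ a := by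
    by_contra h
    simp only [not_exists, not_not] at h
    exact hσ (RingHom.ext h)
  let K : Subfield F := RingHom.eqLocusField σ (RingHom.id F)
  have hK : ∀ x, x ∈ K ↔ σ x = x := fun x => Iff.rfl
  have hd : a - σ a ≠ 0 := sub_ne_zero.2 (Ne.symm ha)
  have hβ : ∀ y, (y - σ y) / (a - σ a) ∈ K := fun y => by
    rw [hK, map_div₀, map_sub, map_sub, hσ2, hσ2, ← neg_sub y, ← neg_sub a, neg_div_neg_eq]
  have hα : ∀ y, y - (y - σ y) / (a - σ a) * a ∈ K := fun y => by
    rw [hK, map_sub, map_mul, (hK _).1 (hβ y)]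
    linear_combination div_mul_cancel₀ (y - σ y) hd
  let E : F ≃ K × K :=
    { toFun := fun y => (⟨_, hα y⟩, ⟨_, hβ y⟩)
      invFun := fun p => (p.1 : F) + (p.2 : F) * a
      left_inv := fun y => by simp
      right_inv := fun p => by
        have h2 : ((p.1 : F) + (p.2 : F) * a - σ ((p.1 : F) + (p.2 : F) * a)) / (a - σ a) = p.2 := by
          rw [map_add, map_mul, (hK _).1 p.1.2, (hK _).1 p.2.2, div_eq_iff hd]
          ring
        refine Prod.ext (Subtype.ext ?_) (Subtype.ext h2)
        show (p.1 : F) + (p.2 : F) * a - ((p.1 : F) + (p.2 : F) * a - σ ((p.1 : F) + (p.2 : F) * a))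
          / (a - σ a) * a = p.1
        rw [h2, add_sub_cancel_right] }
  refine ⟨Fintype.card K, ?_, ?_⟩
  · rw [Fintype.card_congr E, Fintype.card_prod, sq]
  · intro x
    have hfix : ∀ c, σ c = c → c ^ Fintype.card K = c := fun c hc => by
      have h := FiniteField.pow_card (⟨c, hc⟩ : K)
      exact congrArg Subtype.val h
    obtain ⟨p, hp⟩ := CharP.exists F
    obtain ⟨j, hpp, hj⟩ := FiniteField.card F p
    haveI := Fact.mk hpp
    have hdvd : Fintype.card K ∣ p ^ (j : ℕ) := by
      rw [← hj, Fintype.card_congr E, Fintype.card_prod]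
      exact dvd_mul_right _ _
    obtain ⟨i, _, hi⟩ := (Nat.dvd_prime_pow hpp).1 hdvd
    have ha' : a ^ Fintype.card K = σ a := by
      have hs : σ (a + σ a) = a + σ a := by rw [map_add, hσ2, add_comm]
      have hm : σ (a * σ a) = a * σ a := by rw [map_mul, hσ2, mul_comm]
      have h1 := hfix _ hs
      have h2 := hfix _ hm
      rw [hi, add_pow_char_pow, ← hi] at h1
      rw [mul_pow] at h2
      have hroot : (a ^ Fintype.card K - a) * (a ^ Fintype.card K - σ a) = 0 := by
        linear_combination a ^ Fintype.card K * h1 - h2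
      refine sub_eq_zero.1 ((mul_eq_zero.1 hroot).resolve_left fun h => ha ?_)
      have hmem : a ∈ K := by
        by_contra hmem
        have hsub : Fintype.card {x : F // x ^ Fintype.card K = x} ≤ Fintype.card K := by
          have hdeg : (Polynomial.X ^ Fintype.card K - Polynomial.X : Polynomial F).natDegree = Fintype.card K :=
            FiniteField.X_pow_card_sub_X_natDegree_eq F Fintype.one_lt_card
          rw [Fintype.card_subtype]
          refine le_trans (Finset.card_le_card fun x hx => ?_) (le_trans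
            (Multiset.toFinset_card_le _) ((Polynomial.card_roots' _).trans hdeg.le))
          rw [Multiset.mem_toFinset, Polynomial.mem_roots
            (FiniteField.X_pow_card_sub_X_ne_zero F Fintype.one_lt_card)]
          simpa [sub_eq_zero] using (Finset.mem_filter.1 hx).2
        let f : Option K → {x : F // x ^ Fintype.card K = x} := fun o => match o with
          | none => ⟨a, sub_eq_zero.1 h⟩
          | some c => ⟨c.1, hfix c.1 c.2⟩
        have hf : Function.Injective f := by
          rintro (_ | c) (_ | d) hcd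
          · rfl
          · exact absurd (show a ∈ K by have h' : a = (d.1 : F) := congrArg Subtype.val hcd; rw [h']; exact d.2) hmem
          · exact absurd (show a ∈ K by have h' : (c.1 : F) = a := congrArg Subtype.val hcd; rw [← h']; exact c.2) hmem
          · exact congrArg some (Subtype.ext (congrArg (fun z : {x : F // x ^ Fintype.card K = x} => z.1) hcd))
        have := Fintype.card_le_of_injective f hf
        rw [Fintype.card_option] at this
        omega
      exact (hK a).1 hmem
    obtain ⟨⟨c, d⟩, rfl⟩ := E.symm.surjective x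
    show σ ((c : F) + (d : F) * a) = ((c : F) + (d : F) * a) ^ Fintype.card K
    rw [map_add, map_mul, (hK _).1 c.2, (hK _).1 d.2, hi, add_pow_char_pow, ← hi, mul_pow, hfix _ c.2,
      hfix _ d.2, ha']

/-- Some vector has non-zero norm. -/
theorem exists_self_ne_zero {σ : F →+* F} (hσ : σ ≠ RingHom.id F) {B : V →ₛₗ[σ] V →ₗ[F] F}
    (hS : ∀ x y, σ (B x y) = B y x) (hB : ∀ x, (∀ y, B x y = 0) → x = 0) [Nontrivial V] :
    ∃ v, B v v ≠ 0 := by
  by_contra h
  simp only [not_exists, not_not] at h
  obtain ⟨x, hx⟩ := exists_ne (0 : V)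
  refine hx (hB x fun y => ?_)
  obtain ⟨a, ha⟩ : ∃ a, σ a ≠ a := by
    by_contra h'
    simp only [not_exists, not_not] at h'
    exact hσ (RingHom.ext h')
  have h1 := h (x + y)
  have h2 := h (x + a • y)
  simp only [map_add, LinearMap.add_apply, map_smulₛₗ, LinearMap.smul_apply, smul_eq_mul, RingHom.id_apply,
    h, ← hS x y, zero_add, add_zero, mul_zero] at h1 h2
  exact (mul_eq_zero.1 (by linear_combination σ a * h1 - h2 : (σ a - a) * B x y = 0)).resolve_left
    (sub_ne_zero.2 ha)

/-- A non-degenerate Hermitian form over a finite field is the standard one in some coordinates. -/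
theorem exists_herm_coords [Fintype F] [FiniteDimensional F V] {q : ℕ} (hF : Fintype.card F = q ^ 2)
    {B : V →ₛₗ[qEnd hF] V →ₗ[F] F} (hS : ∀ x y, qEnd hF (B x y) = B y x)
    (hB : ∀ x, (∀ y, B x y = 0) → x = 0) :
    ∃ e : V ≃ₗ[F] (Fin (Module.finrank F V) → F),
      ∀ x y, B x y = hermForm (Module.finrank F V) F q (e y) (e x) := by
  suffices ∀ n, Module.finrank F V = n → ∃ e : V ≃ₗ[F] (Fin n → F), ∀ x y, B x y = hermForm n F q (e y) (e x)
    from this _ rfl
  intro n hn
  induction n generalizing V with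
  | zero =>
    haveI : Subsingleton V := Module.finrank_zero_iff.1 hn
    exact ⟨(Module.finBasisOfFinrankEq F V hn).equivFun, fun x y => by
      simp [Subsingleton.elim x 0, hermForm]⟩
  | succ n ih =>
    haveI : Nontrivial V := Module.nontrivial_of_finrank_eq_succ hn
    obtain ⟨v, hv⟩ := exists_self_ne_zero (qEnd_ne_id hF) hS hB
    have hfix : B v v ^ q = B v v := by rw [← qEnd_apply hF, hS]
    obtain ⟨c, hc, hcv⟩ := exists_norm_eq hF hv hfix
    have hv1 : B (c⁻¹ • v) (c⁻¹ • v) = 1 := by
      simp only [map_smulₛₗ, LinearMap.smul_apply, smul_eq_mul, RingHom.id_apply, map_inv₀, qEnd_apply]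
      rw [← hcv]
      field_simp
      ring
    obtain ⟨e, he⟩ := ih (B := restrictForm B (LinearMap.ker (B (c⁻¹ • v)))) (fun x y => hS x y)
      (restrictForm_sep hS hB hv1)
      (by have := finrank_ker_unit B hv1; omega)
    refine ⟨(unitSplit B hv1).trans ((LinearEquiv.prodCongr (LinearEquiv.refl F F) e).trans
      (splitFirst n F).symm), fun x y => ?_⟩
    rw [unitSplit_form hS hv1 x y, he, ← hermSplit_apply]
    simp only [LinearEquiv.trans_apply, LinearEquiv.apply_symm_apply, hermSplit,
      LinearEquiv.prodCongr_apply, LinearEquiv.refl_apply, qEnd_apply]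
    ring

/-! ### Symmetric forms -/

/-- A non-degenerate symmetric form in dimension at least two represents one. -/
theorem exists_self_eq_one [Fintype F] [FiniteDimensional F V] (h2 : (2 : F) ≠ 0)
    {B : LinearMap.BilinForm F V} (hS : ∀ x y, B x y = B y x) (hB : ∀ x, (∀ y, B x y = 0) → x = 0)
    (hd : 2 ≤ Module.finrank F V) : ∃ v, B v v = 1 := by
  haveI : Nontrivial V := Module.nontrivial_of_finrank_pos (by omega : 0 < Module.finrank F V)
  have hne : ∀ (S : Submodule F V), (∀ x ∈ S, (∀ y ∈ S, B x y = 0) → x = 0) → (∃ x ∈ S, x ≠ 0) →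
      ∃ x ∈ S, B x x ≠ 0 := by
    rintro S hSn ⟨x, hx, hx0⟩
    by_contra h
    simp only [not_exists, not_and, not_not] at h
    refine hx0 (hSn x hx fun y hy => ?_)
    have h1 := h (x + y) (S.add_mem hx hy)
    simp only [map_add, LinearMap.add_apply, h x hx, h y hy, hS y x, zero_add, add_zero] at h1
    exact (mul_eq_zero.1 (by linear_combination h1 : (2 : F) * B x y = 0)).resolve_left h2
  obtain ⟨v₁, -, hv₁⟩ := hne ⊤ (fun x _ h => hB x fun y => h y Submodule.mem_top)
    (let ⟨x, hx⟩ := exists_ne (0 : V); ⟨x, Submodule.mem_top, hx⟩)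
  obtain ⟨v₂, hv₂m, hv₂⟩ := hne (LinearMap.ker (B v₁)) (fun x hx h => hB x fun y => by
      have hy : y - (B v₁ y / B v₁ v₁) • v₁ ∈ LinearMap.ker (B v₁) := by
        simp [div_mul_cancel₀ _ hv₁]
      have h' := h _ hy
      simpa [map_sub, map_smul, hS x v₁, LinearMap.mem_ker.1 hx] using h')
    (by
      have h := LinearMap.finrank_range_add_finrank_ker (B v₁)
      have hle : Module.finrank F (LinearMap.range (B v₁)) ≤ 1 :=
        le_trans (Submodule.finrank_le _) (Module.finrank_self F).le
      obtain ⟨x, hx, hx0⟩ := Submodule.exists_mem_ne_zero_of_ne_bot (p := LinearMap.ker (B v₁)) (by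
        intro hbot
        rw [hbot, finrank_bot] at h
        omega)
      exact ⟨x, hx, hx0⟩)
  have hodd : Fintype.card F % 2 = 1 :=
    FiniteField.odd_card_of_char_ne_two fun h => h2 (by simpa [h] using ringChar.Nat.cast_ringChar (R := F))
  obtain ⟨x, y, hxy⟩ := FiniteField.exists_root_sum_quadratic
    (f := Polynomial.C (B v₁ v₁) * Polynomial.X ^ 2)
    (g := Polynomial.C (B v₂ v₂) * Polynomial.X ^ 2 - Polynomial.C 1)
    (by rw [Polynomial.degree_C_mul_X_pow 2 hv₁]; rfl)
    (by rw [Polynomial.degree_sub_C (by rw [Polynomial.degree_C_mul_X_pow 2 hv₂]; decide),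
      Polynomial.degree_C_mul_X_pow 2 hv₂]; rfl) hodd
  simp only [Polynomial.eval_sub, Polynomial.eval_mul, Polynomial.eval_C, Polynomial.eval_pow,
    Polynomial.eval_X] at hxy
  refine ⟨x • v₁ + y • v₂, ?_⟩
  have h12 : B v₁ v₂ = 0 := hv₂m
  simp only [map_add, map_smul, LinearMap.add_apply, LinearMap.smul_apply, smul_eq_mul, hS v₂ v₁, h12,
    mul_zero, add_zero, zero_add]
  linear_combination hxy

/-- Normal form of a non-degenerate symmetric form over a finite field of odd order. -/
theorem exists_symm_coords [Fintype F] [FiniteDimensional F V] (h2 : (2 : F) ≠ 0)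
    {B : LinearMap.BilinForm F V} (hS : ∀ x y, B x y = B y x) (hB : ∀ x, (∀ y, B x y = 0) → x = 0)
    {n : ℕ} (hn : Module.finrank F V = n + 1) {α : F} (hα : ¬ IsSquare α) :
    ∃ (e : V ≃ₗ[F] (Fin (n + 1) → F)) (c : F), (c = 1 ∨ c = α) ∧
      ∀ x y, B x y = ∑ i, (if i = Fin.last n then c else 1) * (e x i * e y i) := by
  classical
  induction n generalizing V with
  | zero =>
    let b := Module.finBasisOfFinrankEq F V hn
    have hx : ∀ x, x = b.repr x 0 • b 0 := fun x => by
      conv_lhs => rw [← b.sum_repr x]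
      simp
    have hne : B (b 0) (b 0) ≠ 0 := fun h => b.ne_zero 0 (hB _ fun y => by rw [hx y]; simp [h])
    obtain ⟨c, s, hc, hs, hsc⟩ : ∃ c s : F, (c = 1 ∨ c = α) ∧ s ≠ 0 ∧ B (b 0) (b 0) = c * (s * s) := by
      by_cases hsq : IsSquare (B (b 0) (b 0))
      · obtain ⟨s, hs⟩ := hsq
        exact ⟨1, s, .inl rfl, fun h => hne (by simp [hs, h]), by rw [hs, one_mul]⟩
      · have hα0 : α ≠ 0 := fun h => hα (h ▸ IsSquare.zero)
        obtain ⟨s, hs⟩ : IsSquare (B (b 0) (b 0) / α) := by
          by_contra hh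
          have h1 : quadraticChar F α = -1 := quadraticChar_neg_one_iff_not_isSquare.2 hα
          have h3 : quadraticChar F (B (b 0) (b 0)) = -1 := quadraticChar_neg_one_iff_not_isSquare.2 hsq
          have h4 : quadraticChar F (B (b 0) (b 0) / α) = -1 := quadraticChar_neg_one_iff_not_isSquare.2 hh
          have h5 := congrArg (quadraticChar F) (div_mul_cancel₀ (B (b 0) (b 0)) hα0)
          rw [map_mul, h1, h3, h4] at h5
          norm_num at h5
        exact ⟨α, s, .inr rfl, fun h => hne (by
          have hz : B (b 0) (b 0) / α = 0 := by rw [hs, h, mul_zero]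
          exact (div_eq_zero_iff.1 hz).resolve_right hα0), by rw [← hs, mul_div_cancel₀ _ hα0]⟩
    refine ⟨b.equivFun.trans (LinearEquiv.smulOfUnit (Units.mk0 s hs)), c, hc, fun x y => ?_⟩
    have h1 : B x y = b.repr x 0 * b.repr y 0 * B (b 0) (b 0) := by
      conv_lhs => rw [hx x, hx y]
      simp
      ring
    have h3 : ∀ z : V, (b.equivFun.trans (LinearEquiv.smulOfUnit (Units.mk0 s hs))) z 0 = s * b.repr z 0 :=
      fun z => rfl
    rw [Fintype.sum_eq_single (0 : Fin (0 + 1))
      (fun i hi => absurd (Fin.ext (by omega : (i : ℕ) = ((0 : Fin (0 + 1)) : ℕ))) hi), if_pos (show (0 : Fin (0 + 1)) = Fin.last 0 from Fin.ext rfl), h1, h3, h3, hsc]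
    ring
  | succ n ih =>
    obtain ⟨v, hv⟩ := exists_self_eq_one h2 hS hB (by omega)
    have hS' : ∀ x y, (RingHom.id F) (B x y) = B y x := fun x y => hS x y
    obtain ⟨e, c, hc, he⟩ := ih (B := restrictForm B (LinearMap.ker (B v))) (fun x y => hS x y)
      (restrictForm_sep hS' hB hv) (by have := finrank_ker_unit B hv; omega)
    refine ⟨(unitSplit B hv).trans ((LinearEquiv.prodCongr (LinearEquiv.refl F F) e).trans
      (splitFirst (n + 1) F).symm), c, hc, fun x y => ?_⟩
    rw [unitSplit_form hS' hv x y, he, Fin.sum_univ_succ (n := n + 1)]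
    simp [splitFirst, ← Fin.succ_last, (Fin.succ_ne_zero (Fin.last n)).symm]

/-! ### The Witt index -/

/-- Maximal totally singular subspaces have the same dimension. -/
theorem witt_index_eq [FiniteDimensional F V] {Q : QuadraticForm F V}
    (hQ : (QuadraticMap.polarBilin Q).Nondegenerate) (W₁ W₂ : Submodule F V) (h₁ : ∀ w ∈ W₁, Q w = 0)
    (h₂ : ∀ w ∈ W₂, Q w = 0) (hmax₁ : ∀ W : Submodule F V, W₁ ≤ W → (∀ w ∈ W, Q w = 0) → W = W₁)
    (hmax₂ : ∀ W : Submodule F V, W₂ ≤ W → (∀ w ∈ W, Q w = 0) → W = W₂) :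
    Module.finrank F W₁ = Module.finrank F W₂ := by
  wlog h : Module.finrank F W₁ ≤ Module.finrank F W₂ generalizing W₁ W₂
  · exact (this W₂ W₁ h₂ h₁ hmax₂ hmax₁ (le_of_not_ge h)).symm
  have hpol : ∀ (W : Submodule F V), (∀ w ∈ W, Q w = 0) →
      ∀ a b : W, QuadraticMap.polarBilin Q (a : V) b = 0 := by
    intro W hW a b
    show Q ((a : V) + b) - Q a - Q b = 0
    rw [hW _ a.2, hW _ b.2, hW _ (W.add_mem a.2 b.2), sub_self, sub_self]
  let b₁ := Module.finBasis F W₁
  let b₂ := Module.finBasis F W₂
  let v : Fin (Module.finrank F W₁) → V := fun i => (b₁ i : V)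
  let w : Fin (Module.finrank F W₁) → V := fun i => (b₂ (Fin.castLE h i) : V)
  obtain ⟨g, hg, hgv⟩ := witt_quadratic_tuple hQ (v := v) (w := w)
    (b₁.linearIndependent.map' W₁.subtype W₁.ker_subtype)
    ((b₂.linearIndependent.comp _ (Fin.castLE_injective h)).map' W₂.subtype W₂.ker_subtype)
    (fun i => (h₂ _ (b₂ _).2).trans (h₁ _ (b₁ i).2).symm)
    (fun i j => (hpol W₂ h₂ _ _).trans (hpol W₁ h₁ _ _).symm)
  have hle : W₁ ≤ W₂.comap (g : V →ₗ[F] V) := by
    intro x hx
    have hx' := b₁.sum_repr ⟨x, hx⟩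
    have hxe : x = ∑ i, b₁.repr ⟨x, hx⟩ i • v i := by
      have h' := congrArg Subtype.val hx'
      rw [Submodule.coe_sum] at h'
      exact h'.symm
    show g x ∈ W₂
    rw [hxe, map_sum]
    refine W₂.sum_mem fun i _ => ?_
    rw [map_smul, hgv]
    exact W₂.smul_mem _ (b₂ _).2
  have he := hmax₁ _ hle fun x hx => (hg x x).symm.trans (h₂ _ hx)
  rw [← he]
  exact LinearEquiv.finrank_eq (g.ofSubmodule' W₂)

end Cfsg.Agent.Forms
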