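/-
Area Forms: the standard quadratic forms of `Def_Classical` as `QuadraticForm`s, non-degeneracy of their polar
forms, the hyperbolic extension, zero counts and the orders of the orthogonal groups.
-/
import Cfsg.Agent.Lib.Forms.Symp

set_option autoImplicit false

namespace Cfsg.Agent.Forms

variable {F : Type*} [Field F] {V W C : Type*} [AddCommGroup V] [Module F V] [AddCommGroup W] [Module F W]
  [AddCommGroup C] [Module F C]

/-! ### Hyperbolic extension -/

/-- `Q` plus a hyperbolic plane: `((a, b), c) ↦ a * b + Q c`. -/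
noncomputable def hypExt (Q : QuadraticForm F C) : QuadraticForm F ((F × F) × C) :=
  (QuadraticMap.linMulLin (LinearMap.fst F F F) (LinearMap.snd F F F)).prod Q

theorem hypExt_apply (Q : QuadraticForm F C) (p : (F × F) × C) : hypExt Q p = p.1.1 * p.1.2 + Q p.2 := by
  simp [hypExt]

theorem hypExt_polar (Q : QuadraticForm F C) (p p' : (F × F) × C) :
    QuadraticMap.polarBilin (hypExt Q) p p'
      = p.1.1 * p'.1.2 + p.1.2 * p'.1.1 + QuadraticMap.polarBilin Q p.2 p'.2 := by
  show hypExt Q (p + p') - hypExt Q p - hypExt Q p' = _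
  rw [hypExt_apply, hypExt_apply, hypExt_apply, Prod.fst_add, Prod.fst_add, Prod.snd_add, Prod.snd_add,
    quadratic_map_add]
  ring

theorem hypExt_nondegenerate {Q : QuadraticForm F C} (hQ : (QuadraticMap.polarBilin Q).Nondegenerate) :
    (QuadraticMap.polarBilin (hypExt Q)).Nondegenerate := by
  have key : ∀ p, (∀ p', QuadraticMap.polarBilin (hypExt Q) p p' = 0) → p = 0 := by
    intro p h
    have h1 := h ((1, 0), 0)
    have h2 := h ((0, 1), 0)
    have h3 : p.2 = 0 := hQ.1 _ fun y => by
      have h4 := h ((0, 0), y)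
      rw [hypExt_polar] at h4
      simpa using h4
    rw [hypExt_polar] at h1 h2
    refine Prod.ext (Prod.ext ?_ ?_) h3
    · simpa using h2
    · simpa using h1
  exact ⟨key, fun p h => key p fun p' => by rw [polarBilin_swap]; exact h p'⟩

/-- Transport of non-degeneracy along an isometry. -/
theorem polar_nondegenerate_of_equiv {Q : QuadraticForm F V} {Q' : QuadraticForm F W} (e : V ≃ₗ[F] W)
    (h : ∀ v, Q' (e v) = Q v) (hQ : (QuadraticMap.polarBilin Q').Nondegenerate) :
    (QuadraticMap.polarBilin Q).Nondegenerate := by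
  have hp : ∀ u v, QuadraticMap.polarBilin Q u v = QuadraticMap.polarBilin Q' (e u) (e v) := fun u v => by
    show Q (u + v) - Q u - Q v = Q' (e u + e v) - Q' (e u) - Q' (e v)
    rw [← map_add e, h, h, h]
  refine ⟨fun u hu => e.injective ?_, fun u hu => e.injective ?_⟩
  · rw [map_zero]
    refine hQ.1 _ fun y => ?_
    rw [← e.apply_symm_apply y, ← hp]
    exact hu _
  · rw [map_zero]
    refine hQ.2 _ fun y => ?_
    rw [← e.apply_symm_apply y, ← hp]
    exact hu _

theorem card_zeros_congr {Q : QuadraticForm F V} {Q' : QuadraticForm F W} (e : V ≃ₗ[F] W)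
    (h : ∀ v, Q' (e v) = Q v) : Nat.card {v // Q v = 0} = Nat.card {w // Q' w = 0} :=
  Nat.card_congr (Equiv.subtypeEquiv e.toEquiv fun v => by simp [h])

theorem card_isomQ_congr {Q : QuadraticForm F V} {Q' : QuadraticForm F W} (e : V ≃ₗ[F] W)
    (h : ∀ v, Q' (e v) = Q v) : Nat.card (isomQ Q) = Nat.card (isomQ Q') :=
  card_isom_congr e fun u _ => h u

/-- Zeros of a hyperbolic extension. -/
theorem card_zeros_hypExt [Fintype F] [Finite C] (Q : QuadraticForm F C) :
    Nat.card {p // hypExt Q p = 0}
      = Fintype.card F * Nat.card {c // Q c = 0} + (Fintype.card F - 1) * Nat.card C := by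
  classical
  let E : {p // hypExt Q p = 0} ≃ (F × {c // Q c = 0}) ⊕ ({a : F // a ≠ 0} × C) :=
    { toFun := fun p =>
        if h : p.1.1.1 = 0 then .inl (p.1.1.2, ⟨p.1.2, by
          have := p.2
          rw [hypExt_apply, h, zero_mul, zero_add] at this
          exact this⟩)
        else .inr (⟨p.1.1.1, h⟩, p.1.2)
      invFun := fun x => match x with
        | .inl (b, c) => ⟨((0, b), c.1), by simp [hypExt_apply, c.2]⟩
        | .inr (a, c) => ⟨((a.1, -Q c / a.1), c), by
            rw [hypExt_apply, mul_div_cancel₀ _ a.2, neg_add_cancel]⟩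
      left_inv := by
        rintro ⟨⟨⟨a, b⟩, c⟩, hp⟩
        rw [hypExt_apply] at hp
        simp only at hp
        by_cases h : a = 0
        · simp [h]
        · simp only [h, dite_false, Subtype.mk.injEq, Prod.mk.injEq, true_and, and_true]
          field_simp
          linear_combination -hp
      right_inv := by
        rintro (⟨b, c⟩ | ⟨a, c⟩)
        · simp
        · simp [a.2] }
  have ha : Nat.card {a : F // a ≠ 0} = Fintype.card F - 1 := by
    rw [Nat.card_eq_fintype_card, Fintype.card_subtype_compl, Fintype.card_subtype_eq]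
  rw [Nat.card_congr E, Nat.card_sum, Nat.card_prod, Nat.card_prod, ha, Nat.card_eq_fintype_card]

/-! ### Hyperbolic pairs -/

/-- Ordered singular pairs with polar value one. -/
theorem card_hypPairs [Fintype F] [FiniteDimensional F V] {Q : QuadraticForm F V}
    (hQ : (QuadraticMap.polarBilin Q).Nondegenerate) :
    Fintype.card F * Nat.card {v : Fin 2 → V // Q (v 0) = 0 ∧ Q (v 1) = 0 ∧
        QuadraticMap.polarBilin Q (v 0) (v 1) = 1}
      = (Nat.card {v // Q v = 0} - 1) * Fintype.card F ^ (Module.finrank F V - 1) := by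
  classical
  haveI : Finite V := Module.finite_of_finite F
  haveI := Fintype.ofFinite V
  let E : F × {v : Fin 2 → V // Q (v 0) = 0 ∧ Q (v 1) = 0 ∧ QuadraticMap.polarBilin Q (v 0) (v 1) = 1}
      ≃ Σ u : {u : V // Q u = 0 ∧ u ≠ 0}, {w // QuadraticMap.polarBilin Q u.1 w = 1} :=
    { toFun := fun x => ⟨⟨x.2.1 0, x.2.2.1, fun h0 => by
          have := x.2.2.2.2
          rw [h0, map_zero, LinearMap.zero_apply] at this
          exact zero_ne_one this⟩,
        x.2.1 1 + x.1 • x.2.1 0, by
          show QuadraticMap.polarBilin Q (x.2.1 0) (x.2.1 1 + x.1 • x.2.1 0) = 1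
          rw [map_add, map_smul, x.2.2.2.2, polarBilin_self, x.2.2.1, mul_zero, smul_zero, add_zero]⟩
      invFun := fun p => (Q p.2.1, ⟨![p.1.1, p.2.1 - Q p.2.1 • p.1.1], by
        refine ⟨p.1.2.1, ?_, ?_⟩
        · show Q (p.2.1 - Q p.2.1 • p.1.1) = 0
          rw [sub_eq_add_neg, ← neg_smul, quadratic_map_add, QuadraticMap.map_smul, map_smul, p.1.2.1,
            polarBilin_swap p.1.1, p.2.2, smul_eq_mul, smul_eq_mul]
          ring
        · show QuadraticMap.polarBilin Q p.1.1 (p.2.1 - Q p.2.1 • p.1.1) = 1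
          rw [map_sub, map_smul, p.2.2, polarBilin_self, p.1.2.1, mul_zero, smul_zero, sub_zero]⟩)
      left_inv := by
        rintro ⟨t, v, h0, h1, h01⟩
        have hQt : Q (v 1 + t • v 0) = t := by
          rw [quadratic_map_add, QuadraticMap.map_smul, map_smul, h0, h1, polarBilin_swap (v 0), h01]
          simp
        refine Prod.ext hQt (Subtype.ext (funext fun i => ?_))
        fin_cases i
        · rfl
        · show (v 1 + t • v 0) - Q (v 1 + t • v 0) • v 0 = v 1
          rw [hQt, add_sub_cancel_right]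
      right_inv := by
        rintro ⟨u, w⟩
        refine Sigma.ext rfl (heq_of_eq (Subtype.ext ?_))
        show (w.1 - Q w.1 • u.1) + Q w.1 • u.1 = w.1
        rw [sub_add_cancel] }
  have hfib : ∀ u : {u : V // Q u = 0 ∧ u ≠ 0},
      Nat.card {w // QuadraticMap.polarBilin Q u.1 w = 1} = Fintype.card F ^ (Module.finrank F V - 1) := by
    intro u
    rw [card_functional_fibre (fun h => u.2.2 (hQ.1 _ fun y => by rw [h]; rfl)), Nat.card_eq_fintype_card]
  have hU : Nat.card {u : V // Q u = 0 ∧ u ≠ 0} = Nat.card {v // Q v = 0} - 1 := by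
    rw [Nat.card_congr (Equiv.subtypeSubtypeEquivSubtypeInter (fun u : V => Q u = 0) (· ≠ 0)).symm,
      Nat.card_eq_fintype_card, Nat.card_eq_fintype_card, Fintype.card_subtype_compl]
    congr 1
    exact Fintype.card_eq_one_iff.2
      ⟨⟨⟨0, QuadraticMap.map_zero Q⟩, rfl⟩, fun x => Subtype.ext (Subtype.ext x.2)⟩
  have hcard := Nat.card_congr E
  rw [Nat.card_prod, Nat.card_eq_fintype_card, Nat.card_sigma] at hcard
  rw [hcard]
  simp only [hfib, Finset.sum_const, smul_eq_mul, Finset.card_univ]
  rw [← Nat.card_eq_fintype_card, hU]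

/-- Singular pairs with polar value one are independent. -/
theorem hypPair_linearIndependent {Q : QuadraticForm F V} {v : Fin 2 → V}
    (h : Q (v 0) = 0 ∧ Q (v 1) = 0 ∧ QuadraticMap.polarBilin Q (v 0) (v 1) = 1) : LinearIndependent F v := by
  rw [show v = ![v 0, v 1] by funext i; fin_cases i <;> rfl, LinearIndependent.pair_iff]
  intro a b hab
  have h0 := congrArg (QuadraticMap.polarBilin Q (v 0)) hab
  have h1 := congrArg (QuadraticMap.polarBilin Q (v 1)) hab
  simp only [map_add, map_smul, map_zero, smul_eq_mul, polarBilin_self, h.1, h.2.1, h.2.2,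
    polarBilin_swap (v 0) (v 1), mul_zero, zero_add, add_zero, mul_one] at h0 h1
  exact ⟨h1, h0⟩

/-- The order of the isometry group of a hyperbolic extension. -/
theorem card_isomQ_hypExt [Fintype F] [FiniteDimensional F C] {Q : QuadraticForm F C}
    (hQ : (QuadraticMap.polarBilin Q).Nondegenerate) :
    Nat.card (isomQ (hypExt Q))
      = (Nat.card {p // hypExt Q p = 0} - 1) * Fintype.card F ^ Module.finrank F C * Nat.card (isomQ Q) := by
  classical
  have hQ' := hypExt_nondegenerate hQ
  let e : Fin 2 → (F × F) × C := ![((1, 0), 0), ((0, 1), 0)]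
  have he : hypExt Q (e 0) = 0 ∧ hypExt Q (e 1) = 0 ∧
      QuadraticMap.polarBilin (hypExt Q) (e 0) (e 1) = 1 := by
    simp [e, hypExt_apply, hypExt_polar, -QuadraticMap.polarBilin_apply_apply]
  rw [card_eq_orbit_mul_fix (isomQ (hypExt Q)) e {v | hypExt Q (v 0) = 0 ∧ hypExt Q (v 1) = 0 ∧
    QuadraticMap.polarBilin (hypExt Q) (v 0) (v 1) = 1}]
  · congr 1
    · have h := card_hypPairs hQ'
      have hd : Module.finrank F ((F × F) × C) - 1 = Module.finrank F C + 1 := by
        simp [Module.finrank_prod]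
        omega
      rw [hd, pow_succ, ← mul_assoc, mul_comm (_ * _) (Fintype.card F)] at h
      exact Nat.eq_of_mul_eq_mul_left Fintype.card_pos h
    · have key : ∀ g : ((F × F) × C) ≃ₗ[F] ((F × F) × C),
          (∀ i : Fin 2, g (e i) = e i) ↔ ∀ a : F × F, g (a, 0) = (a, 0) := by
        intro g
        constructor
        · intro h a
          have h0 : g ((1, 0), 0) = ((1, 0), 0) := h 0
          have h1 : g ((0, 1), 0) = ((0, 1), 0) := h 1
          have ha : ((a, 0) : (F × F) × C) = a.1 • ((1, 0), 0) + a.2 • ((0, 1), 0) := by simp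
          rw [ha, map_add, map_smul, map_smul, h0, h1]
        · intro h i
          fin_cases i <;> simp [e, h]
      rw [Nat.card_congr (Equiv.subtypeEquivRight fun g => and_congr_right fun _ => key g)]
      refine (Nat.card_congr (fixEquiv (fC := fun u _ => Q u) ?_ ?_)).symm
      · intro g hg hfix c
        have h1 := polar_map_of_mem_isomQ hg (((1 : F), 0), 0) (0, c)
        have h2 := polar_map_of_mem_isomQ hg ((0, (1 : F)), 0) (0, c)
        simp only [← QuadraticMap.polarBilin_apply_apply, hfix, hypExt_polar] at h1 h2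
        ext
        · simpa using h2
        · simpa using h1
      · intro h
        refine ⟨fun hh u _ => ?_, fun hh u _ => ?_⟩
        · show hypExt Q ((u.1, h u.2)) = hypExt Q u
          rw [hypExt_apply, hypExt_apply, show Q (h u.2) = Q u.2 from hh u.2 u.2]
        · have h4 := hh ((0, 0), u) ((0, 0), u)
          simpa [hypExt_apply] using h4
  · intro g hg
    refine ⟨?_, ?_, ?_⟩
    · exact (hg (e 0) 0).trans he.1
    · exact (hg (e 1) 0).trans he.2.1
    · show QuadraticMap.polar (hypExt Q) (g (e 0)) (g (e 1)) = 1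
      rw [polar_map_of_mem_isomQ hg]
      exact he.2.2
  · intro v hv
    refine witt_quadratic_tuple hQ' (hypPair_linearIndependent he) (hypPair_linearIndependent hv) ?_ ?_
    · intro i
      fin_cases i
      · exact hv.1.trans he.1.symm
      · exact hv.2.1.trans he.2.1.symm
    · intro i j
      fin_cases i <;> fin_cases j
      · simp [polarBilin_self, hv.1, he.1, -QuadraticMap.polarBilin_apply_apply]
      · exact hv.2.2.trans he.2.2.symm
      · exact (polarBilin_swap _ _).trans (hv.2.2.trans (he.2.2.symm.trans (polarBilin_swap _ _).symm))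
      · simp [polarBilin_self, hv.2.1, he.2.1, -QuadraticMap.polarBilin_apply_apply]

/-! ### The standard forms -/

/-- `quadFormPlus` as a quadratic form. -/
noncomputable def quadPlus (m : ℕ) (F : Type*) [Field F] : QuadraticForm F (Fin m ⊕ Fin m → F) :=
  ∑ i : Fin m, QuadraticMap.proj (.inl i) (.inr i)

theorem quadPlus_apply {m : ℕ} (v : Fin m ⊕ Fin m → F) : quadPlus m F v = quadFormPlus m F v := by
  simp [quadPlus, quadFormPlus]

/-- `quadFormOdd` as a quadratic form. -/
noncomputable def quadOdd (m : ℕ) (F : Type*) [Field F] :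
    QuadraticForm F (Unit ⊕ (Fin m ⊕ Fin m) → F) :=
  QuadraticMap.proj (.inl ()) (.inl ()) + ∑ i : Fin m, QuadraticMap.proj (.inr (.inl i)) (.inr (.inr i))

theorem quadOdd_apply {m : ℕ} (v : Unit ⊕ (Fin m ⊕ Fin m) → F) : quadOdd m F v = quadFormOdd m F v := by
  simp [quadOdd, quadFormOdd, sq]

/-- `quadFormMinus` as a quadratic form. -/
noncomputable def quadMinus (m : ℕ) (F : Type*) [Field F] (a b : F) :
    QuadraticForm F ((Fin m ⊕ Fin m) ⊕ Fin 2 → F) :=
  ∑ i : Fin m, QuadraticMap.proj (.inl (.inl i)) (.inl (.inr i))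
    + (QuadraticMap.proj (.inr 0) (.inr 0) + a • QuadraticMap.proj (.inr 0) (.inr 1)
      + b • QuadraticMap.proj (.inr 1) (.inr 1))

theorem quadMinus_apply {m : ℕ} {a b : F} (v : (Fin m ⊕ Fin m) ⊕ Fin 2 → F) :
    quadMinus m F a b v = quadFormMinus m F a b v := by
  simp [quadMinus, quadFormMinus, sq, mul_assoc]

/-- The orthogonal group of `Def_Classical` as an `isomQ`. -/
noncomputable def isometryGroupEquivQ {ι : Type} [Fintype ι] [DecidableEq ι] {f : (ι → F) → F}
    (Q : QuadraticForm F (ι → F)) (h : ∀ v, Q v = f v) : isometryGroup F f ≃* isomQ Q :=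
  (isometryGroupEquiv f).trans <| MulEquiv.subgroupCongr <| isom_eq_of_iff fun g => by
    simp only [h]

theorem card_isometryGroup {ι : Type} [Fintype ι] [DecidableEq ι] {f : (ι → F) → F}
    (Q : QuadraticForm F (ι → F)) (h : ∀ v, Q v = f v) :
    Nat.card (isometryGroup F f) = Nat.card (isomQ Q) :=
  Nat.card_congr (isometryGroupEquivQ Q h).toEquiv

theorem quadPlus_succ {m : ℕ} (v : Fin (m + 1) ⊕ Fin (m + 1) → F) :
    hypExt (quadPlus m F) (splitPair m F v) = quadPlus (m + 1) F v := by
  simp [hypExt_apply, quadPlus, Fin.sum_univ_succ, splitPair]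

/-- Coordinates for splitting off a hyperbolic pair in odd dimension. -/
def splitOdd (m : ℕ) (F : Type*) [Field F] :
    (Unit ⊕ (Fin (m + 1) ⊕ Fin (m + 1)) → F) ≃ₗ[F] (F × F) × (Unit ⊕ (Fin m ⊕ Fin m) → F) where
  toFun v := ((v (.inr (.inl 0)), v (.inr (.inr 0))), fun i => v (Sum.map id (Sum.map Fin.succ Fin.succ) i))
  invFun p := Sum.elim (fun _ => p.2 (.inl ()))
    (Sum.elim (Fin.cons p.1.1 fun i => p.2 (.inr (.inl i))) (Fin.cons p.1.2 fun i => p.2 (.inr (.inr i))))
  map_add' _ _ := rfl
  map_smul' _ _ := rfl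
  left_inv v := by
    ext (⟨⟩ | i | i) <;> first | rfl | (refine Fin.cases ?_ (fun j => ?_) i <;> simp)
  right_inv p := by
    ext (⟨⟩ | i | i) <;> simp

theorem quadOdd_succ {m : ℕ} (v : Unit ⊕ (Fin (m + 1) ⊕ Fin (m + 1)) → F) :
    hypExt (quadOdd m F) (splitOdd m F v) = quadOdd (m + 1) F v := by
  simp [hypExt_apply, quadOdd, Fin.sum_univ_succ, splitOdd]
  ring

/-- Coordinates for splitting off a hyperbolic pair in the minus case. -/
def splitMinus (m : ℕ) (F : Type*) [Field F] :
    ((Fin (m + 1) ⊕ Fin (m + 1)) ⊕ Fin 2 → F) ≃ₗ[F] (F × F) × ((Fin m ⊕ Fin m) ⊕ Fin 2 → F) where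
  toFun v := ((v (.inl (.inl 0)), v (.inl (.inr 0))), fun i => v (Sum.map (Sum.map Fin.succ Fin.succ) id i))
  invFun p := Sum.elim
    (Sum.elim (Fin.cons p.1.1 fun i => p.2 (.inl (.inl i))) (Fin.cons p.1.2 fun i => p.2 (.inl (.inr i))))
    fun j => p.2 (.inr j)
  map_add' _ _ := rfl
  map_smul' _ _ := rfl
  left_inv v := by
    ext ((i | i) | j) <;> first | rfl | (refine Fin.cases ?_ (fun k => ?_) i <;> simp)
  right_inv p := by
    ext ((i | i) | j) <;> simp

theorem quadMinus_succ {m : ℕ} {a b : F} (v : (Fin (m + 1) ⊕ Fin (m + 1)) ⊕ Fin 2 → F) :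
    hypExt (quadMinus m F a b) (splitMinus m F v) = quadMinus (m + 1) F a b v := by
  simp [hypExt_apply, quadMinus, Fin.sum_univ_succ, splitMinus]
  ring

/-! ### Non-degeneracy -/

theorem quadPlus_nondegenerate (m : ℕ) : (QuadraticMap.polarBilin (quadPlus m F)).Nondegenerate := by
  induction m with
  | zero => exact ⟨fun x _ => Subsingleton.elim _ _, fun x _ => Subsingleton.elim _ _⟩
  | succ m ih => exact polar_nondegenerate_of_equiv (splitPair m F) quadPlus_succ (hypExt_nondegenerate ih)

theorem quadOdd_nondegenerate (h2 : (2 : F) ≠ 0) (m : ℕ) :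
    (QuadraticMap.polarBilin (quadOdd m F)).Nondegenerate := by
  induction m with
  | zero =>
    have key : ∀ x, (∀ y, QuadraticMap.polarBilin (quadOdd 0 F) x y = 0) → x = 0 := by
      intro x h
      have h1 := h x
      rw [polarBilin_self] at h1
      have h2' : quadOdd 0 F x = 0 := (mul_eq_zero.1 h1).resolve_left h2
      simp [quadOdd] at h2'
      funext i
      rcases i with ⟨⟩ | i | i
      · simpa using h2'
      · exact i.elim0
      · exact i.elim0
    exact ⟨key, fun x h => key x fun y => by rw [polarBilin_swap]; exact h y⟩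
  | succ m ih => exact polar_nondegenerate_of_equiv (splitOdd m F) quadOdd_succ (hypExt_nondegenerate ih)

/-- Anisotropy of a binary form makes its discriminant non-zero. -/
theorem disc_ne_zero [Finite F] {a b : F}
    (hab : ∀ z₁ z₂ : F, z₁ ^ 2 + a * z₁ * z₂ + b * z₂ ^ 2 = 0 → z₁ = 0 ∧ z₂ = 0) : 4 * b - a ^ 2 ≠ 0 := by
  intro h
  by_cases h2 : (2 : F) = 0
  · have ha : a = 0 := by
      have h4 : a ^ 2 = 0 := by linear_combination 2 * b * h2 - h
      simpa using h4
    haveI := Fintype.ofFinite F
    have hchar : ringChar F = 2 := by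
      by_contra hne
      exact Ring.two_ne_zero hne h2
    obtain ⟨s, hs⟩ := (FiniteField.isSquare_of_char_two hchar b)
    have := hab s 1 (by rw [ha, hs]; linear_combination s * s * h2)
    exact one_ne_zero this.2
  · have := hab (-a) 2 (by linear_combination h)
    exact h2 this.2

theorem quadMinus_nondegenerate [Finite F] (m : ℕ) {a b : F}
    (hab : ∀ z₁ z₂ : F, z₁ ^ 2 + a * z₁ * z₂ + b * z₂ ^ 2 = 0 → z₁ = 0 ∧ z₂ = 0) :
    (QuadraticMap.polarBilin (quadMinus m F a b)).Nondegenerate := by
  induction m with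
  | zero =>
    have key : ∀ x, (∀ y, QuadraticMap.polarBilin (quadMinus 0 F a b) x y = 0) → x = 0 := by
      intro x h
      have h1 : quadMinus 0 F a b (x + Pi.single (.inr 0) 1) - quadMinus 0 F a b x
          - quadMinus 0 F a b (Pi.single (.inr 0) 1) = 0 := h _
      have h2 : quadMinus 0 F a b (x + Pi.single (.inr 1) 1) - quadMinus 0 F a b x
          - quadMinus 0 F a b (Pi.single (.inr 1) 1) = 0 := h _
      simp [quadMinus] at h1 h2
      have hd := disc_ne_zero hab
      have hx0 : (4 * b - a ^ 2) * x (.inr 0) = 0 := by linear_combination 2 * b * h1 - a * h2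
      have hx1 : (4 * b - a ^ 2) * x (.inr 1) = 0 := by linear_combination 2 * h2 - a * h1
      funext i
      rcases i with (i | i) | j
      · exact i.elim0
      · exact i.elim0
      · fin_cases j
        · exact (mul_eq_zero.1 hx0).resolve_left hd
        · exact (mul_eq_zero.1 hx1).resolve_left hd
    exact ⟨key, fun x h => key x fun y => by rw [polarBilin_swap]; exact h y⟩
  | succ m ih => exact polar_nondegenerate_of_equiv (splitMinus m F) quadMinus_succ (hypExt_nondegenerate ih)

end Cfsg.Agent.Forms
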