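/-
Involutions of the symplectic group in characteristic two (Aschbacher-Seitz): symmetric forms over a finite
field of characteristic two, and the form `(u, v) ↦ f(u, (a - 1) v)` attached to an involution `a`.
-/
import Cfsg.Agent.Lib.Forms.Classify
import Cfsg.Agent.Lib.Forms.Symp

set_option autoImplicit false

namespace Cfsg.Agent.Forms.SympTwo

open scoped Matrix
open Module (finrank)

variable {F : Type*} [Field F]

/-! ### Symmetric forms -/

section

variable {W : Type*} [AddCommGroup W] [Module F W] [FiniteDimensional F W]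

theorem exists_sqrt [Finite F] [CharP F 2] (c : F) : ∃ s : F, c = s * s :=
  FiniteField.isSquare_of_char_two (ringChar.eq F 2) c

/-- A non-degenerate alternating form is `sympForm` in some coordinates. -/
theorem exists_alt_equiv {β : LinearMap.BilinForm F W} (hA : β.IsAlt)
    (hB : ∀ x, (∀ y, β x y = 0) → x = 0) :
    ∃ (m : ℕ) (e : W ≃ₗ[F] (Fin m ⊕ Fin m → F)), finrank F W = 2 * m ∧
      ∀ u v, β u v = sympForm m F (e v) (e u) := by
  classical
  obtain ⟨m, k, e, he⟩ := exists_alt_coords β hA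
  rcases Nat.eq_zero_or_pos k with rfl | hk
  · refine ⟨m, e.trans (LinearEquiv.funCongrLeft F F (Equiv.sumEmpty _ (Fin 0)).symm), ?_, fun u v => ?_⟩
    · rw [e.finrank_eq, Module.finrank_fintype_fun_eq_card]
      simp [two_mul]
    · rw [he]; rfl
  · exfalso
    let w : (Fin m ⊕ Fin m) ⊕ Fin k → F := Pi.single (Sum.inr ⟨0, hk⟩) 1
    have h0 : e.symm w = 0 := by
      refine hB _ fun y => ?_
      rw [he, LinearEquiv.apply_symm_apply]
      rw [show (fun i => w (Sum.inl i)) = 0 from funext fun i => by simp [w], sympForm_eq_sum]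
      simp
    have := congrArg e h0
    rw [LinearEquiv.apply_symm_apply, map_zero] at this
    simpa [w] using congrFun this (Sum.inr ⟨0, hk⟩)

theorem even_finrank_of_isAlt {β : LinearMap.BilinForm F W} (hA : β.IsAlt)
    (hB : ∀ x, (∀ y, β x y = 0) → x = 0) : Even (finrank F W) := by
  obtain ⟨m, e, hm, -⟩ := exists_alt_equiv hA hB
  exact hm ▸ even_two_mul m

/-- A non-alternating symmetric non-degenerate form has a unit vector whose orthogonal is not alternating
either, unless it is zero. -/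
theorem exists_unit [Finite F] [CharP F 2] {β : LinearMap.BilinForm F W}
    (hS : ∀ x y, β x y = β y x) (hB : ∀ x, (∀ y, β x y = 0) → x = 0) (hna : ∃ v, β v v ≠ 0) :
    ∃ v, β v v = 1 ∧ ((∃ u : LinearMap.ker (β v), β u.1 u.1 ≠ 0) ∨ finrank F (LinearMap.ker (β v)) = 0) := by
  obtain ⟨v₀, hv₀⟩ := hna
  obtain ⟨s, hs⟩ := exists_sqrt (β v₀ v₀)
  have hs0 : s ≠ 0 := fun h => hv₀ (by rw [hs, h, zero_mul])
  have hv : β (s⁻¹ • v₀) (s⁻¹ • v₀) = 1 := by
    simp only [map_smul, LinearMap.smul_apply, smul_eq_mul, hs]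
    field_simp
  generalize hvd : s⁻¹ • v₀ = v at hv
  by_cases h : (∃ u : LinearMap.ker (β v), β u.1 u.1 ≠ 0) ∨ finrank F (LinearMap.ker (β v)) = 0
  · exact ⟨v, hv, h⟩
  push Not at h
  obtain ⟨halt, hpos⟩ := h
  obtain ⟨e, he⟩ := Module.finrank_pos_iff_exists_ne_zero.1 (Nat.pos_of_ne_zero hpos)
  obtain ⟨f, hf⟩ : ∃ f : LinearMap.ker (β v), β e.1 f.1 = 1 := by
    obtain ⟨f, hf⟩ : ∃ f : LinearMap.ker (β v), β e.1 f.1 ≠ 0 := by
      by_contra hne
      push Not at hne
      exact he (restrictForm_sep (σ := RingHom.id F) (fun x y => hS x y) hB hv e fun y => hne y)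
    exact ⟨(β e.1 f.1)⁻¹ • f, by simp [inv_mul_cancel₀ hf]⟩
  have hve : β v e.1 = 0 := e.2
  have hvf : β v f.1 = 0 := f.2
  have hev : β e.1 v = 0 := by rw [hS]; exact hve
  have hfv : β f.1 v = 0 := by rw [hS]; exact hvf
  refine ⟨v + e.1, ?_, Or.inl ⟨⟨v + f.1, ?_⟩, ?_⟩⟩
  · simp [hv, hve, hev, halt e]
  · simp [hv, hvf, hev, hf, CharTwo.add_self_eq_zero]
  · simp [hv, hvf, hfv, halt f]

/-- A non-alternating symmetric non-degenerate form has an orthonormal basis. -/
theorem exists_orthonormal [Finite F] [CharP F 2] {β : LinearMap.BilinForm F W}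
    (hS : ∀ x y, β x y = β y x) (hB : ∀ x, (∀ y, β x y = 0) → x = 0) (hna : ∃ v, β v v ≠ 0)
    {n : ℕ} (hn : finrank F W = n) :
    ∃ e : W ≃ₗ[F] (Fin n → F), ∀ x y, β x y = ∑ i, e x i * e y i := by
  induction n generalizing W with
  | zero =>
    obtain ⟨v, hv⟩ := hna
    haveI : Subsingleton W := Module.finrank_zero_iff.1 hn
    exact absurd (by rw [Subsingleton.elim v 0]; simp) hv
  | succ n ih =>
    obtain ⟨v, hv, hcase⟩ := exists_unit hS hB hna
    have hk := finrank_ker_unit β hv
    have hk' : finrank F (LinearMap.ker (β v)) = n := by omega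
    obtain ⟨e, he⟩ : ∃ e : LinearMap.ker (β v) ≃ₗ[F] (Fin n → F),
        ∀ x y, restrictForm β (LinearMap.ker (β v)) x y = ∑ i, e x i * e y i := by
      rcases hcase with h | h
      · exact ih (β := restrictForm β (LinearMap.ker (β v))) (fun x y => hS _ _)
          (restrictForm_sep (σ := RingHom.id F) (fun x y => hS x y) hB hv) h hk'
      · haveI : Subsingleton (LinearMap.ker (β v)) := Module.finrank_zero_iff.1 h
        obtain rfl : n = 0 := by omega
        refine ⟨(Module.finBasisOfFinrankEq F _ hk').equivFun, fun x y => ?_⟩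
        rw [Subsingleton.elim x 0]
        simp
    refine ⟨(unitSplit β hv).trans ((LinearEquiv.prodCongr (LinearEquiv.refl F F) e).trans
      (splitFirst n F).symm), fun x y => ?_⟩
    rw [unitSplit_form (σ := RingHom.id F) (fun x y => hS x y) hv x y, he, Fin.sum_univ_succ]
    simp [splitFirst]

/-- Two symmetric non-degenerate forms of the same dimension and type are isometric. -/
theorem exists_isometry [Finite F] [CharP F 2] {W' : Type*} [AddCommGroup W'] [Module F W']
    [FiniteDimensional F W'] {β : LinearMap.BilinForm F W} {β' : LinearMap.BilinForm F W'}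
    (hS : ∀ x y, β x y = β y x) (hB : ∀ x, (∀ y, β x y = 0) → x = 0)
    (hS' : ∀ x y, β' x y = β' y x) (hB' : ∀ x, (∀ y, β' x y = 0) → x = 0)
    (hd : finrank F W = finrank F W') (ht : (∀ v, β v v = 0) ↔ ∀ v, β' v v = 0) :
    ∃ e : W ≃ₗ[F] W', ∀ x y, β' (e x) (e y) = β x y := by
  by_cases hA : ∀ v, β v v = 0
  · obtain ⟨m, e, hm, he⟩ := exists_alt_equiv (β := β) hA hB
    obtain ⟨m', e', hm', he'⟩ := exists_alt_equiv (β := β') (ht.1 hA) hB'
    obtain rfl : m = m' := by omega
    exact ⟨e.trans e'.symm, fun x y => by simp [he, he']⟩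
  · have hA' : ¬ ∀ v, β' v v = 0 := fun h => hA (ht.2 h)
    push Not at hA hA'
    obtain ⟨e, he⟩ := exists_orthonormal hS hB hA rfl
    obtain ⟨e', he'⟩ := exists_orthonormal hS' hB' hA' hd.symm
    exact ⟨e.trans e'.symm, fun x y => by simp [he, he']⟩

end

/-! ### The form attached to an involution -/

variable {m : ℕ}

local notation "𝕍" => Fin m ⊕ Fin m → F

/-- `a - 1` as a linear map. -/
def nil (a : Matrix (Fin m ⊕ Fin m) (Fin m ⊕ Fin m) F) : 𝕍 →ₗ[F] 𝕍 := (a - 1).mulVecLin

theorem nil_apply (a : Matrix (Fin m ⊕ Fin m) (Fin m ⊕ Fin m) F) (v : 𝕍) :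
    nil a v = a *ᵥ v - v := by
  simp [nil, Matrix.sub_mulVec]

/-- `(u, v) ↦ f(u, (a - 1) v)`. -/
noncomputable def form (a : Matrix (Fin m ⊕ Fin m) (Fin m ⊕ Fin m) F) : LinearMap.BilinForm F 𝕍 :=
  (sympB m F).compl₂ (nil a)

theorem form_apply (a : Matrix (Fin m ⊕ Fin m) (Fin m ⊕ Fin m) F) (u v : 𝕍) :
    form a u v = sympForm m F u (nil a v) := by
  show sympB m F u (nil a v) = _
  rw [sympB_apply]

variable [CharP F 2] {a : Matrix (Fin m ⊕ Fin m) (Fin m ⊕ Fin m) F}
  (ha : a ∈ Matrix.symplecticGroup (Fin m) F) (hsq : a * a = 1)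

theorem symp_comm (u v : 𝕍) : sympForm m F u v = sympForm m F v u := by
  simp only [sympForm_eq_sum, CharTwo.sub_eq_add, mul_comm, add_comm]

theorem symp_self (v : 𝕍) : sympForm m F v v = 0 := by
  rw [← sympB_apply]; exact sympB_isAlt m v

theorem symp_add_right (u v w : 𝕍) :
    sympForm m F u (v + w) = sympForm m F u v + sympForm m F u w := by
  simp only [← sympB_apply, map_add]

omit [CharP F 2] in
theorem symp_sep {x : 𝕍} (h : ∀ y, sympForm m F x y = 0) : x = 0 :=
  (sympB_nondegenerate m).1 x fun y => by rw [sympB_apply]; exact h y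

include hsq in
theorem nil_nil (v : 𝕍) : nil a (nil a v) = 0 := by
  show (a - 1) *ᵥ ((a - 1) *ᵥ v) = 0
  rw [Matrix.mulVec_mulVec]
  have : (a - 1) * (a - 1) = 0 := by
    rw [sub_mul, mul_sub, mul_sub, hsq, one_mul, mul_one, one_mul]
    have : (2 : Matrix (Fin m ⊕ Fin m) (Fin m ⊕ Fin m) F) = 0 := by
      rw [show (2 : Matrix (Fin m ⊕ Fin m) (Fin m ⊕ Fin m) F) = algebraMap F _ 2 from (map_ofNat _ 2).symm,
        CharTwo.two_eq_zero, map_zero]
    calc 1 - a - (a - 1) = 2 * (1 - a) := by rw [two_mul]; abel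
      _ = 0 := by rw [this, zero_mul]
  rw [this, Matrix.zero_mulVec]

include ha hsq in
theorem nil_adjoint (u v : 𝕍) : sympForm m F (nil a u) v = sympForm m F u (nil a v) := by
  have key : sympForm m F (a *ᵥ u) v = sympForm m F u (a *ᵥ v) := by
    conv_lhs => rw [show v = a *ᵥ (a *ᵥ v) by rw [Matrix.mulVec_mulVec, hsq, Matrix.one_mulVec]]
    exact mem_symplecticGroup_iff_form.1 ha _ _
  rw [nil_apply, nil_apply, ← sympB_apply, ← sympB_apply, map_sub, map_sub, LinearMap.sub_apply,
    sympB_apply, sympB_apply, sympB_apply, key]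

include ha hsq in
theorem form_symm (u v : 𝕍) : form a u v = form a v u := by
  rw [form_apply, form_apply, ← nil_adjoint ha hsq, symp_comm]

theorem form_self (v : 𝕍) : form a v v = sympForm m F v (a *ᵥ v) := by
  rw [form_apply, nil_apply, ← sympB_apply, map_sub, sympB_apply, sympB_apply, symp_self, sub_zero]

include ha hsq in
theorem form_self_add (u v : 𝕍) : form a (u + v) (u + v) = form a u u + form a v v := by
  simp only [map_add, LinearMap.add_apply, form_symm ha hsq v u]
  linear_combination CharTwo.add_self_eq_zero (form a u v)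

/-- `V(a)` as a subspace. -/
def radSub : Submodule F 𝕍 where
  carrier := {v | form a v v = 0}
  add_mem' {u v} hu hv := by
    show form a (u + v) (u + v) = 0
    rw [form_self_add ha hsq, hu, hv, add_zero]
  zero_mem' := by simp
  smul_mem' c v hv := by
    have h : form a v v = 0 := hv
    show form a (c • v) (c • v) = 0
    simp [h]

include ha hsq in
/-- `V(a)` is everything or has index `#F`. -/
theorem card_self_zero [Fintype F] :
    ((∀ v, form a v v = 0) → Nat.card {v : 𝕍 // form a v v = 0} = Fintype.card F ^ (2 * m)) ∧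
      ((¬ ∀ v, form a v v = 0) →
        Nat.card {v : 𝕍 // form a v v = 0} * Fintype.card F = Fintype.card F ^ (2 * m)) := by
  have hV : Nat.card 𝕍 = Fintype.card F ^ (2 * m) := by
    rw [Nat.card_fun, Nat.card_eq_fintype_card, Nat.card_eq_fintype_card]
    simp [two_mul]
  refine ⟨fun h => ?_, fun h => ?_⟩
  · rw [← hV]
    exact Nat.card_congr (Equiv.subtypeUnivEquiv h)
  · push Not at h
    obtain ⟨v₀, hv₀⟩ := h
    obtain ⟨s, hs⟩ := exists_sqrt (form a v₀ v₀)
    have hs0 : s ≠ 0 := fun e => hv₀ (by rw [hs, e, zero_mul])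
    choose r hr using fun v : 𝕍 => exists_sqrt (form a v v)
    let E : 𝕍 ≃ {v : 𝕍 // form a v v = 0} × F :=
      { toFun := fun v => (⟨v + (r v / s) • v₀, by
          rw [form_self_add ha hsq]
          simp only [map_smul, LinearMap.smul_apply, smul_eq_mul, hr v, hs]
          field_simp
          rw [CharTwo.add_self_eq_zero, mul_zero]⟩, r v / s)
        invFun := fun p => p.1.1 + p.2 • v₀
        left_inv := fun v => by
          show v + (r v / s) • v₀ + (r v / s) • v₀ = v
          rw [add_assoc, ← add_smul, CharTwo.add_self_eq_zero, zero_smul, add_zero]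
        right_inv := fun p => by
          have h1 : r (p.1.1 + p.2 • v₀) / s = p.2 := by
            rw [div_eq_iff hs0]
            refine frobenius_inj F 2 ?_
            simp only [frobenius_def]
            have := hr (p.1.1 + p.2 • v₀)
            rw [form_self_add ha hsq, p.1.2] at this
            simp only [map_smul, LinearMap.smul_apply, smul_eq_mul, hs, zero_add] at this
            linear_combination -this
          refine Prod.ext (Subtype.ext ?_) h1
          show p.1.1 + p.2 • v₀ + (r (p.1.1 + p.2 • v₀) / s) • v₀ = p.1.1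
          rw [h1, add_assoc, ← add_smul, CharTwo.add_self_eq_zero, zero_smul, add_zero] }
    rw [← hV, Nat.card_congr E, Nat.card_prod, Nat.card_eq_fintype_card (α := F)]

omit [CharP F 2] in
theorem finrank_compl {C : Submodule F 𝕍} (hC : IsCompl (LinearMap.ker (nil a)) C) :
    finrank F C = (a - 1).rank := by
  have h1 := Submodule.finrank_add_eq_of_isCompl hC
  have h2 := LinearMap.finrank_range_add_finrank_ker (nil a)
  show finrank F C = finrank F (LinearMap.range (nil a))
  omega

include ha hsq in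
theorem compl_sep {C : Submodule F 𝕍} (hC : IsCompl (LinearMap.ker (nil a)) C) :
    ∀ x, (∀ y, restrictForm (form a) C x y = 0) → x = 0 := by
  intro x hx
  have hNx : nil a x.1 = 0 := by
    refine symp_sep fun y => ?_
    obtain ⟨k, hk, c, hc, rfl⟩ := Submodule.mem_sup.1
      (hC.sup_eq_top ▸ Submodule.mem_top : y ∈ LinearMap.ker (nil a) ⊔ C)
    rw [nil_adjoint ha hsq, map_add, LinearMap.mem_ker.1 hk, zero_add, ← form_apply]
    exact hx ⟨c, hc⟩
  have : x.1 ∈ LinearMap.ker (nil a) ⊓ C := ⟨LinearMap.mem_ker.2 hNx, x.2⟩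
  rw [hC.inf_eq_bot] at this
  exact Subtype.ext ((Submodule.mem_bot F).1 this)

include ha hsq in
theorem self_zero_iff {C : Submodule F 𝕍} (hC : IsCompl (LinearMap.ker (nil a)) C) :
    (∀ v, form a v v = 0) ↔ ∀ v, restrictForm (form a) C v v = 0 := by
  refine ⟨fun h v => h v, fun h v => ?_⟩
  obtain ⟨k, hk, c, hc, rfl⟩ := Submodule.mem_sup.1
    (hC.sup_eq_top ▸ Submodule.mem_top : v ∈ LinearMap.ker (nil a) ⊔ C)
  rw [form_self_add ha hsq]
  have h1 : form a k k = 0 := by
    rw [form_apply, LinearMap.mem_ker.1 hk, ← sympB_apply, map_zero]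
  have h2 := h ⟨c, hc⟩
  rw [restrictForm_apply] at h2
  rw [h1, h2, add_zero]

include ha hsq in
theorem even_rank (h : ∀ v, form a v v = 0) : Even (a - 1).rank := by
  obtain ⟨C, hC⟩ := Submodule.exists_isCompl (LinearMap.ker (nil a))
  rw [← finrank_compl hC]
  exact even_finrank_of_isAlt ((self_zero_iff ha hsq hC).1 h) (compl_sep ha hsq hC)

include ha hsq in
/-- A basis of a complement of the kernel may be moved to vectors which are mutually orthogonal. -/
theorem exists_adjusted {C : Submodule F 𝕍} (hC : IsCompl (LinearMap.ker (nil a)) C) {r : ℕ}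
    (w : Module.Basis (Fin r) F C) :
    ∃ u : Fin r → 𝕍, (∀ i, nil a (u i) = nil a (w i : 𝕍)) ∧ ∀ i j, sympForm m F (u i) (u j) = 0 := by
  classical
  let β : LinearMap.BilinForm F C := restrictForm (form a) C
  have hinj : Function.Injective (β : C →ₗ[F] Module.Dual F C) := by
    rw [← LinearMap.ker_eq_bot, LinearMap.ker_eq_bot']
    intro x hx
    exact compl_sep ha hsq hC x fun y => LinearMap.congr_fun hx y
  have hsurj := (LinearMap.injective_iff_surjective_of_finrank_eq_finrank
    (Subspace.dual_finrank_eq).symm).1 hinj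
  choose z hz using fun i => hsurj (w.constr F fun j =>
    if i < j then sympForm m F (w i : 𝕍) (w j : 𝕍) else 0)
  have hz' : ∀ i j, sympForm m F (z i : 𝕍) (nil a (w j : 𝕍)) =
      if i < j then sympForm m F (w i : 𝕍) (w j : 𝕍) else 0 := by
    intro i j
    rw [← form_apply]
    have := LinearMap.congr_fun (hz i) (w j)
    rw [Module.Basis.constr_basis] at this
    exact this
  refine ⟨fun i => (w i : 𝕍) + nil a (z i : 𝕍), fun i => by
    rw [map_add, nil_nil hsq, add_zero], fun i j => ?_⟩
  have e1 : sympForm m F (nil a (z i : 𝕍)) (w j : 𝕍) =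
      if i < j then sympForm m F (w i : 𝕍) (w j : 𝕍) else 0 := by
    rw [nil_adjoint ha hsq]; exact hz' i j
  have e2 : sympForm m F (w i : 𝕍) (nil a (z j : 𝕍)) =
      if j < i then sympForm m F (w j : 𝕍) (w i : 𝕍) else 0 := by
    rw [symp_comm, nil_adjoint ha hsq]; exact hz' j i
  have e3 : sympForm m F (nil a (z i : 𝕍)) (nil a (z j : 𝕍)) = 0 := by
    rw [nil_adjoint ha hsq, nil_nil hsq, ← sympB_apply, map_zero]
  simp only [← sympB_apply, map_add, LinearMap.add_apply] at e1 e2 e3 ⊢
  rw [e1, e2, e3]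
  rcases lt_trichotomy i j with h | rfl | h
  · simp [h, h.not_gt, CharTwo.add_self_eq_zero]
  · simp [sympB_apply, symp_self]
  · rw [if_neg h.not_gt, if_pos h, sympB_apply, sympB_apply, symp_comm (w j : 𝕍)]
    simp [CharTwo.add_self_eq_zero]

include hsq in
theorem pair_independent {C : Submodule F 𝕍} (hC : IsCompl (LinearMap.ker (nil a)) C) {r : ℕ}
    (w : Module.Basis (Fin r) F C) {u : Fin r → 𝕍} (hu : ∀ i, nil a (u i) = nil a (w i : 𝕍)) :
    LinearIndependent F (Sum.elim u fun i => nil a (u i)) := by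
  have key : ∀ c : Fin r → F, ∑ i, c i • nil a (w i : 𝕍) = 0 → ∀ i, c i = 0 := by
    intro c hc i
    have h1 : ((∑ i, c i • w i : C) : 𝕍) ∈ LinearMap.ker (nil a) := by
      simp only [LinearMap.mem_ker, Submodule.coe_sum, Submodule.coe_smul, map_sum, map_smul, hc]
    have h2 : ((∑ i, c i • w i : C) : 𝕍) ∈ LinearMap.ker (nil a) ⊓ C := ⟨h1, SetLike.coe_mem _⟩
    rw [hC.inf_eq_bot, Submodule.mem_bot] at h2
    have h3 : ∑ i, c i • w i = 0 := Subtype.ext h2
    have h4 := congrArg (fun x => w.repr x i) h3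
    simpa [Module.Basis.repr_self, Finsupp.single_apply] using h4
  rw [Fintype.linearIndependent_iff]
  intro g hg
  simp only [Fintype.sum_sum_type, Sum.elim_inl, Sum.elim_inr] at hg
  have h1 : ∀ i, g (Sum.inl i) = 0 := key _ (by
    have := congrArg (nil a) hg
    simpa [map_add, map_sum, nil_nil hsq, hu] using this)
  simp only [h1, zero_smul, Finset.sum_const_zero, zero_add, hu] at hg
  rintro (i | i)
  · exact h1 i
  · exact key _ hg i

include ha hsq in
/-- An isometry matching adjusted bases and their images intertwines the involutions. -/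
theorem intertwine {b : Matrix (Fin m ⊕ Fin m) (Fin m ⊕ Fin m) F}
    (hb : b ∈ Matrix.symplecticGroup (Fin m) F) (hbsq : b * b = 1)
    {C C' : Submodule F 𝕍} (hC : IsCompl (LinearMap.ker (nil a)) C)
    (hC' : IsCompl (LinearMap.ker (nil b)) C') {r : ℕ} (w : Module.Basis (Fin r) F C)
    (w' : Module.Basis (Fin r) F C') {u u' : Fin r → 𝕍} (hu : ∀ i, nil a (u i) = nil a (w i : 𝕍))
    (hu' : ∀ i, nil b (u' i) = nil b (w' i : 𝕍)) (A : Matrix.symplecticGroup (Fin m) F)
    (hA₁ : ∀ i, A.1 *ᵥ u i = u' i) (hA₂ : ∀ i, A.1 *ᵥ nil a (u i) = nil b (u' i)) :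
    A.1 * a = b * A.1 := by
  have hker : ∀ k, nil a k = 0 → nil b (A.1 *ᵥ k) = 0 := by
    intro k hk
    refine symp_sep fun y => ?_
    obtain ⟨k', hk', c, hc, rfl⟩ := Submodule.mem_sup.1
      (hC'.sup_eq_top ▸ Submodule.mem_top : y ∈ LinearMap.ker (nil b) ⊔ C')
    rw [symp_comm, ← nil_adjoint hb hbsq, map_add, LinearMap.mem_ker.1 hk', zero_add]
    have hc' : c = ∑ i, w'.repr ⟨c, hc⟩ i • (w' i : 𝕍) := by
      have := congrArg Subtype.val (w'.sum_repr ⟨c, hc⟩)
      simpa only [Submodule.coe_sum, Submodule.coe_smul] using this.symm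
    rw [hc', map_sum, ← sympB_apply, map_sum, LinearMap.sum_apply]
    refine Finset.sum_eq_zero fun i _ => ?_
    rw [map_smul, map_smul, LinearMap.smul_apply, sympB_apply, ← hu' i]
    have h1 : sympForm m F (A.1 *ᵥ nil a (u i)) (A.1 *ᵥ k) = 0 := by
      rw [mem_symplecticGroup_iff_form.1 A.2, nil_adjoint ha hsq, hk, ← sympB_apply, map_zero]
    have h2 : nil b (u' i) = A.1 *ᵥ nil a (u i) := (hA₂ i).symm
    rw [h2, h1, smul_zero]
  refine Matrix.mulVec_injective (funext fun v => ?_)
  obtain ⟨k, hk, c, hc, rfl⟩ := Submodule.mem_sup.1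
    (hC.sup_eq_top ▸ Submodule.mem_top : v ∈ LinearMap.ker (nil a) ⊔ C)
  have hkey : A.1 *ᵥ nil a (k + c) = nil b (A.1 *ᵥ (k + c)) := by
    have hc' : c = ∑ i, w.repr ⟨c, hc⟩ i • (w i : 𝕍) := by
      have := congrArg Subtype.val (w.sum_repr ⟨c, hc⟩)
      simpa only [Submodule.coe_sum, Submodule.coe_smul] using this.symm
    have hstep : ∀ i, A.1 *ᵥ nil a (w i : 𝕍) = nil b (A.1 *ᵥ (w i : 𝕍)) := by
      intro i
      have h1 : nil a ((w i : 𝕍) - u i) = 0 := by rw [map_sub, hu, sub_self]
      have h2 := hker _ h1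
      rw [Matrix.mulVec_sub, map_sub, sub_eq_zero] at h2
      have h3 : A.1 *ᵥ nil a (u i) = nil b (u' i) := hA₂ i
      have h4 : A.1 *ᵥ u i = u' i := hA₁ i
      rw [← hu, h3, h2, h4]
    rw [map_add, LinearMap.mem_ker.1 hk, zero_add, Matrix.mulVec_add, map_add,
      hker k (LinearMap.mem_ker.1 hk), zero_add, hc']
    simp only [map_sum, map_smul, Matrix.mulVec_sum, Matrix.mulVec_smul, hstep]
  rw [nil_apply, nil_apply, Matrix.mulVec_sub, sub_left_inj] at hkey
  rw [← Matrix.mulVec_mulVec, ← Matrix.mulVec_mulVec]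
  exact hkey

include ha hsq in
/-- Involutions with the same rank and type are conjugate. -/
theorem exists_conj [Finite F] {b : Matrix (Fin m ⊕ Fin m) (Fin m ⊕ Fin m) F}
    (hb : b ∈ Matrix.symplecticGroup (Fin m) F) (hbsq : b * b = 1)
    (hr : (a - 1).rank = (b - 1).rank) (ht : (∀ v, form a v v = 0) ↔ ∀ v, form b v v = 0) :
    ∃ A : Matrix.symplecticGroup (Fin m) F, A.1 * a = b * A.1 := by
  obtain ⟨C, hC⟩ := Submodule.exists_isCompl (LinearMap.ker (nil a))
  obtain ⟨C', hC'⟩ := Submodule.exists_isCompl (LinearMap.ker (nil b))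
  obtain ⟨e, he⟩ := exists_isometry (β := restrictForm (form a) C) (β' := restrictForm (form b) C')
    (fun x y => form_symm ha hsq _ _) (compl_sep ha hsq hC) (fun x y => form_symm hb hbsq _ _)
    (compl_sep hb hbsq hC') (by rw [finrank_compl hC, finrank_compl hC', hr])
    ((self_zero_iff ha hsq hC).symm.trans (ht.trans (self_zero_iff hb hbsq hC')))
  let w := Module.finBasis F C
  let w' := w.map e
  obtain ⟨u, hu, huu⟩ := exists_adjusted ha hsq hC w
  obtain ⟨u', hu', huu'⟩ := exists_adjusted hb hbsq hC' w'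
  have gram : ∀ i j, sympForm m F (u' i) (nil b (u' j)) = sympForm m F (u i) (nil a (u j)) := by
    intro i j
    rw [hu' j, hu j, ← nil_adjoint hb hbsq, ← nil_adjoint ha hsq, hu' i, hu i,
      nil_adjoint hb hbsq, nil_adjoint ha hsq, ← form_apply, ← form_apply]
    have h1 : w' i = e (w i) := Module.Basis.map_apply _ _ _
    have h2 : w' j = e (w j) := Module.Basis.map_apply _ _ _
    rw [h1, h2]
    exact he (w i) (w j)
  obtain ⟨A, hA⟩ := exists_symplectic_map (pair_independent hsq hC w hu)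
    (pair_independent hbsq hC' w' hu') (by
      rintro (i | i) (j | j)
      · exact (huu' i j).trans (huu i j).symm
      · exact gram i j
      · show sympForm m F (nil b (u' i)) (u' j) = sympForm m F (nil a (u i)) (u j)
        rw [nil_adjoint hb hbsq, nil_adjoint ha hsq]
        exact gram i j
      · show sympForm m F (nil b (u' i)) (nil b (u' j)) = sympForm m F (nil a (u i)) (nil a (u j))
        rw [nil_adjoint hb hbsq, nil_adjoint ha hsq, nil_nil hsq, nil_nil hbsq, ← sympB_apply,
          ← sympB_apply, map_zero, map_zero])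
  exact ⟨A, intertwine ha hsq hb hbsq hC hC' w w' hu hu' A (fun i => hA (Sum.inl i)) fun i => hA (Sum.inr i)⟩

end Cfsg.Agent.Forms.SympTwo
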