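/-
Area Forms: anisotropic binary forms, zero counts and orders of the orthogonal groups of the standard forms over a
finite field.
-/
import Cfsg.Agent.Lib.Forms.Quad

set_option autoImplicit false

namespace Cfsg.Agent.Forms

variable {F : Type*} [Field F]

/-! ### Binary forms -/

/-- The binary form `z₁² + a z₁ z₂ + b z₂²`. -/
noncomputable def binQ (a b : F) : QuadraticForm F (F × F) :=
  QuadraticMap.linMulLin (LinearMap.fst F F F) (LinearMap.fst F F F)
    + a • QuadraticMap.linMulLin (LinearMap.fst F F F) (LinearMap.snd F F F)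
    + b • QuadraticMap.linMulLin (LinearMap.snd F F F) (LinearMap.snd F F F)

theorem binQ_apply (a b : F) (z : F × F) : binQ a b z = z.1 ^ 2 + a * z.1 * z.2 + b * z.2 ^ 2 := by
  simp [binQ, sq, mul_assoc]

theorem binQ_polar (a b : F) (z w : F × F) : QuadraticMap.polarBilin (binQ a b) z w
    = 2 * z.1 * w.1 + a * (z.1 * w.2 + z.2 * w.1) + 2 * b * (z.2 * w.2) := by
  show binQ a b (z + w) - binQ a b z - binQ a b w = _
  simp only [binQ_apply, Prod.fst_add, Prod.snd_add]
  ring

/-- The product making the binary form multiplicative. -/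
def binMul (a b : F) (z w : F × F) : F × F :=
  (z.1 * w.1 - b * (z.2 * w.2), z.1 * w.2 + z.2 * w.1 + a * (z.2 * w.2))

theorem binQ_binMul (a b : F) (z w : F × F) : binQ a b (binMul a b z w) = binQ a b z * binQ a b w := by
  simp only [binQ_apply, binMul]
  ring

theorem binMul_assoc (a b : F) (x y z : F × F) :
    binMul a b x (binMul a b y z) = binMul a b (binMul a b x y) z := by
  ext <;> simp only [binMul] <;> ring

/-- The conjugate for `binMul`. -/
def binConj (a : F) (z : F × F) : F × F := (z.1 + a * z.2, -z.2)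

theorem binMul_binConj (a b : F) (z : F × F) : binMul a b (binConj a z) z = (binQ a b z, 0) := by
  ext <;> simp only [binMul, binConj, binQ_apply] <;> ring

theorem binMul_binConj' (a b : F) (z : F × F) : binMul a b z (binConj a z) = (binQ a b z, 0) := by
  ext <;> simp only [binMul, binConj, binQ_apply] <;> ring

theorem binMul_one (a b : F) (z : F × F) : binMul a b (1, 0) z = z := by
  ext <;> simp [binMul]

/-- Anisotropic binary forms represent every scalar. -/
theorem binQ_surjective [Finite F] {a b : F}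
    (hab : ∀ z₁ z₂ : F, z₁ ^ 2 + a * z₁ * z₂ + b * z₂ ^ 2 = 0 → z₁ = 0 ∧ z₂ = 0) (c : F) :
    ∃ z, binQ a b z = c := by
  haveI := Fintype.ofFinite F
  by_cases h2 : (2 : F) = 0
  · have hchar : ringChar F = 2 := by
      by_contra hne
      exact Ring.two_ne_zero hne h2
    obtain ⟨s, hs⟩ := FiniteField.isSquare_of_char_two hchar c
    exact ⟨(s, 0), by simp [binQ_apply, hs, sq]⟩
  · obtain ⟨h, hh⟩ : ∃ h : F, h * 2 = a := ⟨a / 2, div_mul_cancel₀ a h2⟩
    have hD : b - h ^ 2 ≠ 0 := by
      intro hD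
      exact one_ne_zero (hab (-h) 1 (by linear_combination hD + h * hh)).2
    have hodd : Fintype.card F % 2 = 1 :=
      FiniteField.odd_card_of_char_ne_two fun h => h2 (by simpa [h] using ringChar.Nat.cast_ringChar (R := F))
    obtain ⟨x, y, hxy⟩ := FiniteField.exists_root_sum_quadratic (f := (Polynomial.X : Polynomial F) ^ 2)
      (g := Polynomial.C (b - h ^ 2) * Polynomial.X ^ 2 - Polynomial.C c)
      (by simp) (by
        rw [Polynomial.degree_sub_C (by rw [Polynomial.degree_C_mul hD]; simp), Polynomial.degree_C_mul hD,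
          Polynomial.degree_X_pow, Nat.cast_ofNat]) hodd
    refine ⟨(x - h * y, y), ?_⟩
    simp only [Polynomial.eval_pow, Polynomial.eval_X, Polynomial.eval_sub, Polynomial.eval_mul,
      Polynomial.eval_C] at hxy
    rw [binQ_apply]
    linear_combination hxy - (x - h * y) * y * hh

theorem binQ_eq_zero {a b : F}
    (hab : ∀ z₁ z₂ : F, z₁ ^ 2 + a * z₁ * z₂ + b * z₂ ^ 2 = 0 → z₁ = 0 ∧ z₂ = 0) {z : F × F}
    (h : binQ a b z = 0) : z = 0 :=
  Prod.ext (hab z.1 z.2 (by rwa [← binQ_apply])).1 (hab z.1 z.2 (by rwa [← binQ_apply])).2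

/-- An anisotropic binary form has `q + 1` vectors of each non-zero norm. -/
theorem card_binQ_fibre [Fintype F] {a b : F}
    (hab : ∀ z₁ z₂ : F, z₁ ^ 2 + a * z₁ * z₂ + b * z₂ ^ 2 = 0 → z₁ = 0 ∧ z₂ = 0) {c : F} (hc : c ≠ 0) :
    Nat.card {z // binQ a b z = c} = Fintype.card F + 1 := by
  classical
  have hsame : ∀ d : F, d ≠ 0 → Nat.card {z // binQ a b z = d} = Nat.card {z // binQ a b z = 1} := by
    intro d hd
    obtain ⟨w, hw⟩ := binQ_surjective hab d
    obtain ⟨w', hw'⟩ := binQ_surjective hab d⁻¹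
    have hinj : ∀ u : F × F, binQ a b u ≠ 0 → Function.Injective (binMul a b u) := by
      intro u hu x y hxy
      have h := congrArg (binMul a b (binConj a u)) hxy
      rw [binMul_assoc, binMul_assoc, binMul_binConj] at h
      simp only [binMul, Prod.mk.injEq] at h
      simp only [zero_mul, mul_zero, sub_zero, add_zero, mul_right_inj' hu] at h
      exact Prod.ext h.1 h.2
    apply le_antisymm
    · refine Nat.card_le_card_of_injective
        (fun z : {z // binQ a b z = d} => (⟨binMul a b w' z, by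
          rw [binQ_binMul, hw', z.2, inv_mul_cancel₀ hd]⟩ : {z // binQ a b z = 1})) fun x y h =>
        Subtype.ext (hinj w' (by rw [hw']; exact inv_ne_zero hd) (congrArg Subtype.val h))
    · refine Nat.card_le_card_of_injective
        (fun z : {z // binQ a b z = 1} => (⟨binMul a b w z, by
          rw [binQ_binMul, hw, z.2, mul_one]⟩ : {z // binQ a b z = d})) fun x y h =>
        Subtype.ext (hinj w (by rw [hw]; exact hd) (congrArg Subtype.val h))
  rw [hsame c hc]
  have h1 := Nat.card_congr (Equiv.sigmaFiberEquiv (binQ a b)).symm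
  rw [Nat.card_sigma, Nat.card_prod, Nat.card_eq_fintype_card,
    ← Finset.add_sum_erase _ _ (Finset.mem_univ (0 : F)),
    Finset.sum_congr rfl fun d hd => hsame d (Finset.mem_erase.1 hd).1, Finset.sum_const,
    Finset.card_erase_of_mem (Finset.mem_univ _), Finset.card_univ, smul_eq_mul] at h1
  haveI : Unique {z // binQ a b z = (0 : F)} :=
    ⟨⟨⟨0, QuadraticMap.map_zero _⟩⟩, fun z => Subtype.ext (binQ_eq_zero hab z.2)⟩
  rw [Nat.card_unique] at h1
  have hq : 1 < Fintype.card F := Fintype.one_lt_card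
  refine Nat.eq_of_mul_eq_mul_left (Nat.sub_pos_of_lt hq) ?_
  zify [hq.le] at h1 ⊢
  linear_combination -h1

/-- The orthogonal group of an anisotropic binary form has order `2 (q + 1)`. -/
theorem card_isomQ_binQ [Fintype F] {a b : F}
    (hab : ∀ z₁ z₂ : F, z₁ ^ 2 + a * z₁ * z₂ + b * z₂ ^ 2 = 0 → z₁ = 0 ∧ z₂ = 0) :
    Nat.card (isomQ (binQ a b)) = 2 * (Fintype.card F + 1) := by
  classical
  let T : Set ((F × F) × (F × F)) :=
    {p | binQ a b p.1 = 1 ∧ binQ a b p.2 = b ∧ QuadraticMap.polarBilin (binQ a b) p.1 p.2 = a}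
  have hb1 : binQ a b (1, 0) = 1 := by simp [binQ_apply]
  have hb2 : binQ a b (0, 1) = b := by simp [binQ_apply]
  have hb12 : QuadraticMap.polarBilin (binQ a b) (1, 0) (0, 1) = a := by rw [binQ_polar]; simp
  let L : (F × F) × (F × F) → (F × F) →ₗ[F] (F × F) := fun p =>
    (LinearMap.fst F F F).smulRight p.1 + (LinearMap.snd F F F).smulRight p.2
  have hL : ∀ p ∈ T, ∀ x, binQ a b (L p x) = binQ a b x := by
    rintro p ⟨h1, h2, h12⟩ x
    show binQ a b (x.1 • p.1 + x.2 • p.2) = _
    simp only [quadratic_map_add, QuadraticMap.map_smul, map_smul, LinearMap.smul_apply, smul_eq_mul, h1,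
      h2, h12, binQ_apply a b x]
    ring
  have hLinj : ∀ p ∈ T, Function.Injective (L p) := by
    intro p hp
    rw [injective_iff_map_eq_zero]
    intro x hx
    exact binQ_eq_zero hab (by rw [← hL p hp, hx, QuadraticMap.map_zero])
  have hlin : ∀ (g : (F × F) ≃ₗ[F] (F × F)) (x : F × F), g x = L (g (1, 0), g (0, 1)) x := by
    intro g x
    show g x = x.1 • g (1, 0) + x.2 • g (0, 1)
    rw [← map_smul, ← map_smul, ← map_add]
    simp
  let E : isomQ (binQ a b) ≃ T :=
    { toFun := fun g => ⟨(g.1 (1, 0), g.1 (0, 1)), (g.2 (1, 0) 0).trans hb1, (g.2 (0, 1) 0).trans hb2,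
        (polar_map_of_mem_isomQ g.2 _ _).trans hb12⟩
      invFun := fun p => ⟨LinearEquiv.ofInjectiveEndo (L p.1) (hLinj p.1 p.2), fun x _ => hL p.1 p.2 x⟩
      left_inv := fun g => Subtype.ext <| LinearEquiv.ext fun x => (hlin g.1 x).symm
      right_inv := fun p => Subtype.ext <| by
        refine Prod.ext ?_ ?_
        · show (1 : F) • p.1.1 + (0 : F) • p.1.2 = p.1.1
          simp
        · show (0 : F) • p.1.1 + (1 : F) • p.1.2 = p.1.2
          simp }
  let S : Set (F × F) := {s | binQ a b s = b ∧ QuadraticMap.polarBilin (binQ a b) (1, 0) s = a}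
  have hpol : ∀ u x y, QuadraticMap.polarBilin (binQ a b) (binMul a b u x) (binMul a b u y)
      = binQ a b u * QuadraticMap.polarBilin (binQ a b) x y := by
    intro u x y
    simp only [binQ_polar, binQ_apply, binMul]
    ring
  have hright : ∀ u, binMul a b u (1, 0) = u := fun u => by ext <;> simp [binMul]
  have hconj : ∀ u, binQ a b (binConj a u) = binQ a b u := fun u => by
    simp only [binQ_apply, binConj]
    ring
  let E2 : T ≃ {u // binQ a b u = 1} × S :=
    { toFun := fun p => (⟨p.1.1, p.2.1⟩, ⟨binMul a b (binConj a p.1.1) p.1.2, by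
          rw [binQ_binMul, hconj, p.2.1, p.2.2.1, one_mul], by
          have h : ((1 : F), (0 : F)) = binMul a b (binConj a p.1.1) p.1.1 := by
            rw [binMul_binConj, p.2.1]
          rw [h, hpol, hconj, p.2.1, p.2.2.2, one_mul]⟩)
      invFun := fun x => ⟨(x.1.1, binMul a b x.1.1 x.2.1), x.1.2,
        by show binQ a b (binMul a b x.1.1 x.2.1) = b; rw [binQ_binMul, x.1.2, x.2.2.1, one_mul],
        by
          show QuadraticMap.polarBilin (binQ a b) x.1.1 (binMul a b x.1.1 x.2.1) = a
          nth_rw 1 [← hright x.1.1]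
          rw [hpol, x.1.2, x.2.2.2, one_mul]⟩
      left_inv := fun p => Subtype.ext <| Prod.ext rfl <| by
        show binMul a b p.1.1 (binMul a b (binConj a p.1.1) p.1.2) = p.1.2
        rw [binMul_assoc, binMul_binConj', p.2.1, binMul_one]
      right_inv := fun x => Prod.ext rfl <| Subtype.ext <| by
        show binMul a b (binConj a x.1.1) (binMul a b x.1.1 x.2.1) = x.2.1
        rw [binMul_assoc, binMul_binConj, x.1.2, binMul_one] }
  have hS : S = {((0 : F), (1 : F)), (a, -1)} := by
    ext ⟨x, y⟩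
    simp only [S, Set.mem_ofPred_eq, binQ_apply, binQ_polar, Set.mem_insert_iff, Set.mem_singleton_iff,
      Prod.mk.injEq]
    constructor
    · rintro ⟨h1, h2⟩
      have hd := disc_ne_zero hab
      have hy : (y - 1) * (y + 1) = 0 :=
        (mul_eq_zero.1 (by linear_combination 4 * h1 - (2 * x + a * y + a) * h2 :
          (4 * b - a ^ 2) * ((y - 1) * (y + 1)) = 0)).resolve_left hd
      rcases mul_eq_zero.1 hy with h | h
      · have hy1 : y = 1 := sub_eq_zero.1 h
        subst hy1
        by_cases h2' : (2 : F) = 0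
        · have : x * (x + a) = 0 := by linear_combination h1
          rcases mul_eq_zero.1 this with hx | hx
          · exact .inl ⟨hx, rfl⟩
          · exact .inr ⟨by linear_combination hx - a * h2', by linear_combination h2'⟩
        · exact .inl ⟨(mul_eq_zero.1 (by linear_combination h2 : (2 : F) * x = 0)).resolve_left h2', rfl⟩
      · have hy1 : y = -1 := eq_neg_of_add_eq_zero_left h
        subst hy1
        by_cases h2' : (2 : F) = 0
        · have : x * (x - a) = 0 := by linear_combination h1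
          rcases mul_eq_zero.1 this with hx | hx
          · exact .inl ⟨hx, by linear_combination -h2'⟩
          · exact .inr ⟨sub_eq_zero.1 hx, rfl⟩
        · refine .inr ⟨sub_eq_zero.1 ?_, rfl⟩
          exact (mul_eq_zero.1 (by linear_combination h2 : (2 : F) * (x - a) = 0)).resolve_left h2'
    · rintro (⟨rfl, rfl⟩ | ⟨rfl, rfl⟩) <;> constructor <;> ring
  have hne : ((0 : F), (1 : F)) ≠ (a, -1) := by
    intro h
    obtain ⟨ha, h1⟩ := Prod.mk.inj h
    refine disc_ne_zero hab ?_
    rw [← ha]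
    linear_combination 2 * b * h1
  rw [Nat.card_congr (E.trans E2), Nat.card_prod, card_binQ_fibre hab one_ne_zero, hS,
    Nat.card_coe_set_eq, Set.ncard_pair hne, mul_comm]

/-! ### The base cases -/

/-- `quadMinus 0` in two coordinates. -/
def binCoord (F : Type*) [Field F] : ((Fin 0 ⊕ Fin 0) ⊕ Fin 2 → F) ≃ₗ[F] F × F where
  toFun v := (v (.inr 0), v (.inr 1))
  invFun z := Sum.elim 0 ![z.1, z.2]
  map_add' _ _ := rfl
  map_smul' _ _ := rfl
  left_inv v := by
    ext ((i | i) | j)
    · exact i.elim0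
    · exact i.elim0
    · fin_cases j <;> rfl
  right_inv z := rfl

theorem binQ_binCoord (a b : F) (v : (Fin 0 ⊕ Fin 0) ⊕ Fin 2 → F) :
    binQ a b (binCoord F v) = quadMinus 0 F a b v := by
  rw [show binCoord F v = (v (.inr 0), v (.inr 1)) from rfl]
  simp [binQ_apply, quadMinus, sq, mul_assoc]

theorem card_isomQ_quadOdd_zero (h2 : (2 : F) ≠ 0) : Nat.card (isomQ (quadOdd 0 F)) = 2 := by
  let i₀ : Unit ⊕ (Fin 0 ⊕ Fin 0) := .inl ()
  have hval : ∀ v, quadOdd 0 F v = v i₀ * v i₀ := fun v => by simp [quadOdd, i₀]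
  have hext : ∀ v w : Unit ⊕ (Fin 0 ⊕ Fin 0) → F, v i₀ = w i₀ → v = w := by
    intro v w h
    funext i
    rcases i with ⟨⟩ | i | i
    · exact h
    · exact i.elim0
    · exact i.elim0
  let n : isomQ (quadOdd 0 F) := ⟨LinearEquiv.neg F, fun u _ => by simp [hval]⟩
  have hall : ∀ g : isomQ (quadOdd 0 F), g = 1 ∨ g = n := by
    intro g
    let e : Unit ⊕ (Fin 0 ⊕ Fin 0) → F := fun _ => 1
    have hlin : ∀ v, g.1 v i₀ = v i₀ * g.1 e i₀ := by
      intro v
      have : v = v i₀ • e := hext _ _ (by simp [e])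
      conv_lhs => rw [this, map_smul]
      simp
    have hsq : g.1 e i₀ * g.1 e i₀ = 1 := by
      have := g.2 e 0
      simpa [hval, e] using this
    rcases mul_self_eq_one_iff.1 hsq with h | h
    · exact .inl <| Subtype.ext <| LinearEquiv.ext fun v => hext _ _ (by rw [hlin, h, mul_one]; rfl)
    · refine .inr <| Subtype.ext <| LinearEquiv.ext fun v => hext _ _ ?_
      rw [hlin, h]
      simp [n]
  refine Nat.card_eq_two_iff.2 ⟨1, n, ?_, Set.eq_univ_of_forall fun g => hall g⟩
  intro h
  have h1 := congrFun (LinearEquiv.congr_fun (congrArg Subtype.val h) fun _ => (1 : F)) i₀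
  simp [n] at h1
  exact h2 (by linear_combination h1)

/-! ### Zero counts -/

section Counts

variable [Fintype F]

theorem card_quadPlus_zeros_aux (m : ℕ) :
    (Fintype.card F : ℤ) * Nat.card {v // quadPlus m F v = 0}
      = (Fintype.card F : ℤ) ^ (2 * m) + (Fintype.card F : ℤ) ^ (m + 1) - (Fintype.card F : ℤ) ^ m := by
  induction m with
  | zero =>
    haveI : Unique {v // quadPlus 0 F v = 0} :=
      ⟨⟨⟨0, QuadraticMap.map_zero _⟩⟩, fun z => Subtype.ext (Subsingleton.elim _ _)⟩
    simp [Nat.card_unique]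
  | succ m ih =>
    have hq : 1 ≤ Fintype.card F := Fintype.card_pos
    rw [card_zeros_congr (splitPair m F) quadPlus_succ, card_zeros_hypExt, Nat.card_fun,
      Nat.card_eq_fintype_card (α := F), Nat.card_eq_fintype_card (α := Fin m ⊕ Fin m),
      Fintype.card_sum, Fintype.card_fin]
    push_cast [Nat.cast_sub hq]
    linear_combination (Fintype.card F : ℤ) * ih

theorem card_quadMinus_zeros_aux (m : ℕ) {a b : F}
    (hab : ∀ z₁ z₂ : F, z₁ ^ 2 + a * z₁ * z₂ + b * z₂ ^ 2 = 0 → z₁ = 0 ∧ z₂ = 0) :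
    (Fintype.card F : ℤ) * Nat.card {v // quadMinus m F a b v = 0}
      = (Fintype.card F : ℤ) ^ (2 * m + 2) + (Fintype.card F : ℤ) ^ (m + 1)
        - (Fintype.card F : ℤ) ^ (m + 2) := by
  induction m with
  | zero =>
    rw [card_zeros_congr (binCoord F) (binQ_binCoord a b)]
    haveI : Unique {v // binQ a b v = 0} :=
      ⟨⟨⟨0, QuadraticMap.map_zero _⟩⟩, fun z => Subtype.ext (binQ_eq_zero hab z.2)⟩
    simp [Nat.card_unique]
  | succ m ih =>
    have hq : 1 ≤ Fintype.card F := Fintype.card_pos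
    rw [card_zeros_congr (splitMinus m F) quadMinus_succ, card_zeros_hypExt, Nat.card_fun,
      Nat.card_eq_fintype_card (α := F), Nat.card_eq_fintype_card (α := (Fin m ⊕ Fin m) ⊕ Fin 2),
      Fintype.card_sum, Fintype.card_sum, Fintype.card_fin, Fintype.card_fin]
    push_cast [Nat.cast_sub hq]
    linear_combination (Fintype.card F : ℤ) * ih

/-- The zeros of `quadPlus m`, less the zero vector. -/
theorem card_quadPlus_zeros (m : ℕ) : Nat.card {v // quadPlus (m + 1) F v = 0}
    = (Fintype.card F ^ (m + 1) - 1) * (Fintype.card F ^ m + 1) + 1 := by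
  have h := card_quadPlus_zeros_aux (F := F) (m + 1)
  have hq : (Fintype.card F : ℤ) ≠ 0 := Nat.cast_ne_zero.2 Fintype.card_ne_zero
  have h1 : 1 ≤ Fintype.card F ^ (m + 1) := Nat.one_le_pow _ _ Fintype.card_pos
  zify [h1]
  refine mul_left_cancel₀ hq ?_
  linear_combination h

theorem card_quadMinus_zeros (m : ℕ) {a b : F}
    (hab : ∀ z₁ z₂ : F, z₁ ^ 2 + a * z₁ * z₂ + b * z₂ ^ 2 = 0 → z₁ = 0 ∧ z₂ = 0) :
    Nat.card {v // quadMinus m F a b v = 0}
      = (Fintype.card F ^ (m + 1) + 1) * (Fintype.card F ^ m - 1) + 1 := by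
  have h := card_quadMinus_zeros_aux m hab
  have hq : (Fintype.card F : ℤ) ≠ 0 := Nat.cast_ne_zero.2 Fintype.card_ne_zero
  have h1 : 1 ≤ Fintype.card F ^ m := Nat.one_le_pow _ _ Fintype.card_pos
  zify [h1]
  refine mul_left_cancel₀ hq ?_
  linear_combination h

theorem card_quadOdd_zeros (m : ℕ) :
    Nat.card {v // quadOdd m F v = 0} = Fintype.card F ^ (2 * m) := by
  induction m with
  | zero =>
    haveI : Unique {v // quadOdd 0 F v = 0} :=
      ⟨⟨⟨0, QuadraticMap.map_zero _⟩⟩, fun z => Subtype.ext <| by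
        have h := z.2
        simp [quadOdd] at h
        funext i
        rcases i with ⟨⟩ | i | i
        · exact h
        · exact i.elim0
        · exact i.elim0⟩
    simp [Nat.card_unique]
  | succ m ih =>
    have hq : 1 ≤ Fintype.card F := Fintype.card_pos
    rw [card_zeros_congr (splitOdd m F) quadOdd_succ, card_zeros_hypExt, ih, Nat.card_fun,
      Nat.card_eq_fintype_card (α := F), Nat.card_eq_fintype_card (α := Unit ⊕ (Fin m ⊕ Fin m)),
      Fintype.card_sum, Fintype.card_sum, Fintype.card_fin, Fintype.card_unit]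
    zify [hq]
    ring

/-! ### Orders -/

/-- The order of the orthogonal group of plus type in dimension `2 (m + 1)`. -/
theorem card_isomQ_quadPlus (m : ℕ) : Nat.card (isomQ (quadPlus (m + 1) F))
    = 2 * Fintype.card F ^ ((m + 1) * m) * (Fintype.card F ^ (m + 1) - 1)
      * ∏ i ∈ Finset.range m, (Fintype.card F ^ (2 * (i + 1)) - 1) := by
  have step : ∀ k, Nat.card (isomQ (quadPlus (k + 1) F)) = (Fintype.card F ^ (k + 1) - 1)
      * (Fintype.card F ^ k + 1) * Fintype.card F ^ (2 * k) * Nat.card (isomQ (quadPlus k F)) := by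
    intro k
    have hfr : Module.finrank F (Fin k ⊕ Fin k → F) = 2 * k := by simp [two_mul]
    rw [card_isomQ_congr (splitPair k F) quadPlus_succ, card_isomQ_hypExt (quadPlus_nondegenerate k),
      ← card_zeros_congr (splitPair k F) quadPlus_succ, card_quadPlus_zeros, Nat.add_sub_cancel, hfr]
  induction m with
  | zero =>
    haveI : Subsingleton ((Fin 0 ⊕ Fin 0 → F) ≃ₗ[F] (Fin 0 ⊕ Fin 0 → F)) :=
      ⟨fun a b => LinearEquiv.ext fun x => Subsingleton.elim _ _⟩
    rw [step]
    simp
    ring
  | succ m ih =>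
    rw [step, ih, Finset.prod_range_succ, show (m + 1 + 1) * (m + 1) = (m + 1) * m + 2 * (m + 1) by ring,
      pow_add, show Fintype.card F ^ (2 * (m + 1)) - 1
        = (Fintype.card F ^ (m + 1) + 1) * (Fintype.card F ^ (m + 1) - 1) by
          rw [← Nat.sq_sub_sq, one_pow, ← pow_mul, mul_comm (m + 1) 2]]
    ring

/-- The order of the orthogonal group of minus type in dimension `2 m + 2`. -/
theorem card_isomQ_quadMinus (m : ℕ) {a b : F}
    (hab : ∀ z₁ z₂ : F, z₁ ^ 2 + a * z₁ * z₂ + b * z₂ ^ 2 = 0 → z₁ = 0 ∧ z₂ = 0) :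
    Nat.card (isomQ (quadMinus m F a b))
      = 2 * Fintype.card F ^ ((m + 1) * m) * (Fintype.card F ^ (m + 1) + 1)
        * ∏ i ∈ Finset.range m, (Fintype.card F ^ (2 * (i + 1)) - 1) := by
  induction m with
  | zero =>
    rw [card_isomQ_congr (binCoord F) (binQ_binCoord a b), card_isomQ_binQ hab]
    simp
  | succ m ih =>
    have hfr : Module.finrank F ((Fin m ⊕ Fin m) ⊕ Fin 2 → F) = 2 * (m + 1) := by
      simp
      ring
    rw [card_isomQ_congr (splitMinus m F) quadMinus_succ, card_isomQ_hypExt (quadMinus_nondegenerate m hab),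
      ← card_zeros_congr (splitMinus m F) quadMinus_succ, card_quadMinus_zeros _ hab, Nat.add_sub_cancel,
      hfr, ih, Finset.prod_range_succ, show (m + 1 + 1) * (m + 1) = (m + 1) * m + 2 * (m + 1) by ring,
      pow_add, show Fintype.card F ^ (2 * (m + 1)) - 1
        = (Fintype.card F ^ (m + 1) + 1) * (Fintype.card F ^ (m + 1) - 1) by
          rw [← Nat.sq_sub_sq, one_pow, ← pow_mul, mul_comm (m + 1) 2]]
    ring

theorem two_ne_zero_of_odd_card (hodd : Odd (Fintype.card F)) : (2 : F) ≠ 0 := by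
  refine Ring.two_ne_zero fun h => ?_
  exact (Nat.not_even_iff_odd.2 hodd) (Nat.even_iff.2 (FiniteField.even_card_of_char_two h))

/-- The order of the orthogonal group in dimension `2 m + 1`, `q` odd. -/
theorem card_isomQ_quadOdd (h2 : (2 : F) ≠ 0) (m : ℕ) : Nat.card (isomQ (quadOdd m F))
    = 2 * Fintype.card F ^ (m ^ 2) * ∏ i ∈ Finset.range m, (Fintype.card F ^ (2 * (i + 1)) - 1) := by
  induction m with
  | zero => rw [card_isomQ_quadOdd_zero h2]; simp
  | succ m ih =>
    have hfr : Module.finrank F (Unit ⊕ (Fin m ⊕ Fin m) → F) = 2 * m + 1 := by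
      simp
      ring
    rw [card_isomQ_congr (splitOdd m F) quadOdd_succ, card_isomQ_hypExt (quadOdd_nondegenerate h2 m),
      ← card_zeros_congr (splitOdd m F) quadOdd_succ, card_quadOdd_zeros, hfr, ih, Finset.prod_range_succ,
      show (m + 1) ^ 2 = m ^ 2 + (2 * m + 1) by ring, pow_add]
    ring

end Counts

end Cfsg.Agent.Forms
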