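/-
Area Forms: the centre of SU and the order of PSU.
-/
import Cfsg.Agent.Lib.Forms.Herm

set_option autoImplicit false

namespace Cfsg.Agent.Forms

open scoped Matrix

variable {F : Type*} [Field F] [Fintype F] {q : ℕ} (hF : Fintype.card F = q ^ 2) {n : ℕ}

include hF in
/-- A matrix of determinant one with rows and columns orthonormal for `hermForm`. -/
theorem mem_SU_of_diagonal {d : Fin n → F} (hd : ∀ i, d i ^ (q + 1) = 1)
    (A : Matrix.SpecialLinearGroup (Fin n) F) (hA : (A : Matrix (Fin n) (Fin n) F) = Matrix.diagonal d) :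
    A ∈ SU n F q := by
  intro u v
  show hermForm n F q ((A : Matrix (Fin n) (Fin n) F) *ᵥ u) ((A : Matrix (Fin n) (Fin n) F) *ᵥ v) = _
  rw [hA]
  refine Finset.sum_congr rfl fun i _ => ?_
  rw [Matrix.mulVec_diagonal, Matrix.mulVec_diagonal, mul_pow]
  linear_combination (u i * v i ^ q) * hd i

include hF in
/-- The centre of `SU` consists of scalars. -/
theorem center_SU_diagonal (z : SU n F q) (hz : z ∈ Subgroup.center (SU n F q)) :
    ∀ r s, r ≠ s → (z.1 : Matrix (Fin n) (Fin n) F) r s = 0 ∧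
      (z.1 : Matrix (Fin n) (Fin n) F) r r = (z.1 : Matrix (Fin n) (Fin n) F) s s := by
  classical
  have hq := one_lt_q hF
  intro r s hrs
  obtain ⟨l, hl, hl2⟩ : ∃ l : F, l ^ (q + 1) = 1 ∧ l * l ≠ 1 := by
    by_contra hcon
    simp only [not_exists, not_and, not_not] at hcon
    have hsub : ∀ u ∈ (powMonoidHom (α := Fˣ) (q + 1)).ker, u ∈ (powMonoidHom (α := Fˣ) 2).ker := by
      intro u hu
      refine Units.ext ?_
      rw [powMonoidHom_apply, sq]
      exact hcon u (by simpa using congrArg Units.val hu)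
    have h1 := Subgroup.card_le_of_le hsub
    rw [card_norm_kernel hF, IsCyclic.card_powMonoidHom_ker] at h1
    have h2 : (Nat.card Fˣ).gcd 2 ≤ 2 := Nat.le_of_dvd two_pos (Nat.gcd_dvd_right _ _)
    omega
  have hl0 : l ≠ 0 := by
    rintro rfl
    simp at hl
  have hcomm : ∀ g : SU n F q, (z.1 : Matrix (Fin n) (Fin n) F) * (g.1 : Matrix (Fin n) (Fin n) F)
      = (g.1 : Matrix (Fin n) (Fin n) F) * (z.1 : Matrix (Fin n) (Fin n) F) := fun g =>
    (congrArg (fun h : SU n F q => (h.1 : Matrix (Fin n) (Fin n) F)) (Subgroup.mem_center_iff.1 hz g)).symm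
  let d : Fin n → F := fun i => if i = r then l else if i = s then l⁻¹ else 1
  have hdpow : ∀ i, d i ^ (q + 1) = 1 := fun i => by
    simp only [d]
    split_ifs <;> simp [inv_pow, hl]
  have hddet : (Matrix.diagonal d).det = 1 := by
    rw [Matrix.det_diagonal, Fintype.prod_eq_mul r s hrs]
    · simp [d, Ne.symm hrs, hl0]
    · rintro i ⟨hi, hi'⟩
      simp [d, hi, hi']
  have hoff : (z.1 : Matrix (Fin n) (Fin n) F) r s = 0 := by
    have h := congrFun (congrFun (hcomm ⟨⟨_, hddet⟩, mem_SU_of_diagonal hF hdpow _ rfl⟩) r) s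
    simp only [Matrix.mul_diagonal, Matrix.diagonal_mul] at h
    have h' : (z.1 : Matrix (Fin n) (Fin n) F) r s * (l⁻¹ - l) = 0 := by
      simp [d, Ne.symm hrs] at h
      linear_combination h
    refine (mul_eq_zero.1 h').resolve_right fun hll => hl2 ?_
    have := sub_eq_zero.1 hll
    field_simp at this
    linear_combination -this
  refine ⟨hoff, ?_⟩
  let σ : Equiv.Perm (Fin n) := Equiv.swap r s
  let e : Fin n → F := fun i => if i = r then -1 else 1
  let P : Matrix (Fin n) (Fin n) F := Matrix.diagonal e * σ.permMatrix F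
  have hneg : ((-1 : F)) ^ (q + 1) = 1 := by
    have h : qEnd hF (-1) = -1 := by rw [map_neg, map_one]
    rw [pow_succ, ← qEnd_apply hF, h, neg_mul, one_mul, neg_neg]
  have hPdet : P.det = 1 := by
    rw [Matrix.det_mul, Matrix.det_permutation, Matrix.det_diagonal, Fintype.prod_eq_single r]
    · simp [e, σ, Equiv.Perm.sign_swap hrs]
    · intro i hi
      simp [e, hi]
  have hPmem : (⟨P, hPdet⟩ : Matrix.SpecialLinearGroup (Fin n) F) ∈ SU n F q := by
    intro u v
    show hermForm n F q (P *ᵥ u) (P *ᵥ v) = _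
    have hPv : ∀ w : Fin n → F, ∀ i, (P *ᵥ w) i = e i * w (σ i) := fun w i => by
      show ((Matrix.diagonal e * σ.permMatrix F) *ᵥ w) i = _
      rw [← Matrix.mulVec_mulVec, Matrix.mulVec_diagonal, Matrix.permMatrix_mulVec]
      rfl
    have he : ∀ i, e i * e i ^ q = 1 := fun i => by
      rw [← pow_succ']
      simp only [e]
      split_ifs <;> simp [hneg]
    show ∑ i, (P *ᵥ u) i * (P *ᵥ v) i ^ q = _
    simp only [hPv, mul_pow]
    rw [← Equiv.sum_comp σ.symm]
    refine Finset.sum_congr rfl fun i _ => ?_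
    rw [Equiv.apply_symm_apply]
    linear_combination (u i * v i ^ q) * he (σ.symm i)
  have h := congrFun (congrFun (hcomm ⟨⟨P, hPdet⟩, hPmem⟩) r) s
  simp only [Matrix.mul_apply] at h
  rw [Fintype.sum_eq_single r, Fintype.sum_eq_single s] at h
  · simp [P, e, σ, Matrix.diagonal_mul, Equiv.Perm.permMatrix, PEquiv.toMatrix_apply] at h
    exact h
  · intro i hi
    simp [P, σ, Matrix.diagonal_mul, Equiv.Perm.permMatrix, PEquiv.toMatrix_apply, Ne.symm hi]
  · intro i hi
    have h0 : σ i ≠ s := by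
      intro h0
      apply hi
      have h1 := congrArg σ h0
      simpa [σ] using h1
    simp [P, Matrix.diagonal_mul, Equiv.Perm.permMatrix, PEquiv.toMatrix_apply, h0]

include hF in
/-- The order of the centre of `SU_n(q)`. -/
theorem card_center_SU (hn : 1 ≤ n) : Nat.card (Subgroup.center (SU n F q)) = Nat.gcd n (q + 1) := by
  classical
  let K : Subgroup Fˣ := (powMonoidHom (α := Fˣ) (Nat.gcd n (q + 1))).ker
  have hK : ∀ {c : F}, c ≠ 0 → c ^ n = 1 → c ^ (q + 1) = 1 → c ^ Nat.gcd n (q + 1) = 1 := by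
    intro c _ h1 h2
    exact pow_gcd_eq_one.2 ⟨h1, h2⟩
  have hscal : ∀ z : SU n F q, z ∈ Subgroup.center (SU n F q) →
      (z.1 : Matrix (Fin n) (Fin n) F) = Matrix.diagonal fun _ => (z.1 : Matrix (Fin n) (Fin n) F) ⟨0, hn⟩ ⟨0, hn⟩ := by
    intro z hz
    ext r s
    by_cases h : r = s
    · subst h
      rw [Matrix.diagonal_apply_eq]
      by_cases h0 : r = ⟨0, hn⟩
      · rw [h0]
      · exact (center_SU_diagonal hF z hz r ⟨0, hn⟩ h0).2
    · rw [Matrix.diagonal_apply_ne _ h]
      exact (center_SU_diagonal hF z hz r s h).1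
  have hvals : ∀ z : SU n F q, z ∈ Subgroup.center (SU n F q) →
      (z.1 : Matrix (Fin n) (Fin n) F) ⟨0, hn⟩ ⟨0, hn⟩ ^ n = 1 ∧
      (z.1 : Matrix (Fin n) (Fin n) F) ⟨0, hn⟩ ⟨0, hn⟩ ^ (q + 1) = 1 := by
    intro z hz
    have hz' := hscal z hz
    generalize hc : (z.1 : Matrix (Fin n) (Fin n) F) ⟨0, hn⟩ ⟨0, hn⟩ = c at hz' ⊢
    refine ⟨?_, ?_⟩
    · have h := z.1.2
      rw [hz', Matrix.det_diagonal, Finset.prod_const, Finset.card_univ, Fintype.card_fin] at h
      exact h
    · have hq0 : q ≠ 0 := by have := one_lt_q hF; omega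
      have h : hermForm n F q ((z.1 : Matrix (Fin n) (Fin n) F) *ᵥ Pi.single ⟨0, hn⟩ 1)
          ((z.1 : Matrix (Fin n) (Fin n) F) *ᵥ Pi.single ⟨0, hn⟩ 1)
          = hermForm n F q (Pi.single ⟨0, hn⟩ 1) (Pi.single ⟨0, hn⟩ 1) := z.2 _ _
      rw [hz'] at h
      simp [hermForm, Matrix.mulVec_diagonal, Pi.single_apply, zero_pow hq0] at h
      rw [pow_succ']
      exact h
  have hcard : Nat.card K = Nat.gcd n (q + 1) :=
    card_units_pow_eq_one hF (dvd_mul_of_dvd_left (Nat.gcd_dvd_right _ _) _)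
  rw [← hcard]
  have hmk : ∀ k : K, (Matrix.diagonal fun _ : Fin n => (k.1 : F)).det = 1 := by
    intro k
    rw [Matrix.det_diagonal, Finset.prod_const, Finset.card_univ, Fintype.card_fin]
    have hk : (k.1 : F) ^ Nat.gcd n (q + 1) = 1 := by simpa using congrArg Units.val k.2
    obtain ⟨t, ht⟩ := Nat.gcd_dvd_left n (q + 1)
    rw [show (k.1 : F) ^ n = ((k.1 : F) ^ Nat.gcd n (q + 1)) ^ t by rw [← pow_mul, ← ht], hk, one_pow]
  have hmem : ∀ k : K, (⟨_, hmk k⟩ : Matrix.SpecialLinearGroup (Fin n) F) ∈ SU n F q := by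
    intro k
    refine mem_SU_of_diagonal hF (fun _ => ?_) _ rfl
    have hk : (k.1 : F) ^ Nat.gcd n (q + 1) = 1 := by simpa using congrArg Units.val k.2
    obtain ⟨t, ht⟩ := Nat.gcd_dvd_right n (q + 1)
    rw [show (k.1 : F) ^ (q + 1) = ((k.1 : F) ^ Nat.gcd n (q + 1)) ^ t by rw [← pow_mul, ← ht], hk, one_pow]
  refine Nat.card_congr
    { toFun := fun z => ⟨Units.mk0 ((z.1.1 : Matrix (Fin n) (Fin n) F) ⟨0, hn⟩ ⟨0, hn⟩) (fun h0 => by
        have := (hvals z.1 z.2).2
        rw [h0, zero_pow (Nat.succ_ne_zero q)] at this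
        exact zero_ne_one this), Units.ext (by
        rw [powMonoidHom_apply, Units.val_pow_eq_pow_val]
        refine hK (fun h0 => ?_) (hvals z.1 z.2).1 (hvals z.1 z.2).2
        have := (hvals z.1 z.2).2
        rw [Units.val_mk0] at h0
        rw [h0, zero_pow (Nat.succ_ne_zero q)] at this
        exact zero_ne_one this)⟩
      invFun := fun k => ⟨⟨⟨_, hmk k⟩, hmem k⟩, Subgroup.mem_center_iff.2 fun g => by
        refine Subtype.ext (Subtype.ext ?_)
        exact (Matrix.scalar_commute (n := Fin n) (k.1 : F) (fun r => Commute.all _ r)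
          ((g.1 : Matrix (Fin n) (Fin n) F))).symm⟩
      left_inv := fun z => Subtype.ext (Subtype.ext (Subtype.ext (hscal z.1 z.2).symm))
      right_inv := fun k => Subtype.ext (Units.ext (Matrix.diagonal_apply_eq _ _)) }

include hF in
/-- The order of `PSU_n(q)`. -/
theorem card_PSU_mul (hn : 1 ≤ n) : Nat.gcd n (q + 1) * ((q + 1) * Nat.card (PSU n F q)) = Nat.card (GU n F q) := by
  rw [← card_SU_mul hF hn, Subgroup.card_eq_card_quotient_mul_card_subgroup (Subgroup.center (SU n F q)),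
    card_center_SU hF hn]
  ring

end Cfsg.Agent.Forms
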