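/-
Involutions of the orthogonal group of plus type in characteristic two: they are conjugate in the orthogonal
group as soon as they have the same rank and type in the symplectic group of the polar form.
-/
import Cfsg.Agent.Lib.Forms.SympTwo
import Cfsg.Agent.Lib.Forms.Quad

set_option autoImplicit false

namespace Cfsg.Agent.Forms.OrthTwo

open scoped Matrix
open Module (finrank)
open SympTwo

variable {F : Type*} [Field F] [CharP F 2] {m : ℕ}

local notation "𝕍" => Fin m ⊕ Fin m → F

theorem polar_eq (u v : 𝕍) :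
    QuadraticMap.polarBilin (quadPlus m F) u v = sympForm m F u v := by
  show quadPlus m F (u + v) - quadPlus m F u - quadPlus m F v = _
  simp only [quadPlus_apply, quadFormPlus, sympForm_eq_sum, CharTwo.sub_eq_add,
    ← Finset.sum_add_distrib]
  refine Finset.sum_congr rfl fun i _ => ?_
  simp only [Pi.add_apply]
  linear_combination (u (.inl i) * u (.inr i) + v (.inl i) * v (.inr i)) * CharTwo.two_eq_zero (R := F)

theorem q_add (u v : 𝕍) :
    quadPlus m F (u + v) = quadPlus m F u + quadPlus m F v + sympForm m F u v := by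
  rw [quadratic_map_add, polar_eq]

omit [CharP F 2] in
theorem q_smul (c : F) (v : 𝕍) : quadPlus m F (c • v) = c * c * quadPlus m F v :=
  QuadraticMap.map_smul _ c v

theorem q_sum {ι : Type*} (s : Finset ι) (f : ι → 𝕍)
    (h : ∀ i ∈ s, ∀ j ∈ s, sympForm m F (f i) (f j) = 0) :
    quadPlus m F (∑ i ∈ s, f i) = ∑ i ∈ s, quadPlus m F (f i) := by
  classical
  induction s using Finset.induction_on with
  | empty => simp
  | insert i s hi ih =>
    rw [Finset.sum_insert hi, Finset.sum_insert hi, q_add,
      ih (fun j hj k hk => h j (Finset.mem_insert_of_mem hj) k (Finset.mem_insert_of_mem hk)),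
      ← sympB_apply, map_sum, Finset.sum_eq_zero (s := s) (f := fun x => sympB m F (f i) (f x)) (fun j hj => by
        show sympB m F (f i) (f j) = 0
        rw [sympB_apply]; exact h i (Finset.mem_insert_self i s) j (Finset.mem_insert_of_mem hj)),
      add_zero]

variable {a : Matrix (Fin m ⊕ Fin m) (Fin m ⊕ Fin m) F}

theorem mem_symp_of_isom (hQ : ∀ v, quadPlus m F (a *ᵥ v) = quadPlus m F v) :
    a ∈ Matrix.symplecticGroup (Fin m) F := by
  rw [mem_symplecticGroup_iff_form]
  intro u v
  rw [← polar_eq, ← polar_eq]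
  show quadPlus m F (a *ᵥ u + a *ᵥ v) - _ - _ = quadPlus m F (u + v) - _ - _
  rw [← Matrix.mulVec_add, hQ, hQ, hQ]

variable (ha : a ∈ Matrix.symplecticGroup (Fin m) F) (hsq : a * a = 1)
  (hQ : ∀ v, quadPlus m F (a *ᵥ v) = quadPlus m F v)

include hQ in
theorem q_nil (v : 𝕍) : quadPlus m F (nil a v) = form a v v := by
  have h1 : a *ᵥ v = v + nil a v := by rw [nil_apply]; abel
  have h2 := hQ v
  rw [h1, q_add, ← form_apply, add_assoc, add_eq_left, CharTwo.add_eq_zero] at h2
  exact h2

theorem symp_smul_left (c : F) (u v : 𝕍) : sympForm m F (c • u) v = c * sympForm m F u v := by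
  rw [← sympB_apply, ← sympB_apply, map_smul, LinearMap.smul_apply, smul_eq_mul]

theorem symp_smul_right (c : F) (u v : 𝕍) : sympForm m F u (c • v) = c * sympForm m F u v := by
  rw [← sympB_apply, ← sympB_apply, map_smul, smul_eq_mul]

section

include ha hsq in
/-- `β (u i) v = β (w i) v`. -/
theorem symp_nil_congr {C : Submodule F 𝕍} {r : ℕ}
    (w : Module.Basis (Fin r) F C) {u : Fin r → 𝕍} (hu : ∀ i, nil a (u i) = nil a (w i : 𝕍))
    (i : Fin r) (v : 𝕍) :
    sympForm m F (u i) (nil a v) = sympForm m F (w i : 𝕍) (nil a v) := by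
  rw [← nil_adjoint ha hsq, hu, nil_adjoint ha hsq]

include ha hsq hQ in
/-- The alternating type: the quadratic form may be killed on the adjusted basis. -/
theorem adjust_alt [Finite F] {C : Submodule F 𝕍}
    (hC : IsCompl (LinearMap.ker (nil a)) C) {r : ℕ}
    (w : Module.Basis (Fin r) F C) {u : Fin r → 𝕍} (hu : ∀ i, nil a (u i) = nil a (w i : 𝕍))
    (huu : ∀ i j, sympForm m F (u i) (u j) = 0)
    (halt : ∀ v, form a v v = 0) :
    ∃ v : Fin r → 𝕍, (∀ i, nil a (v i) = nil a (w i : 𝕍)) ∧ (∀ i j, sympForm m F (v i) (v j) = 0) ∧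
      ∀ i, quadPlus m F (v i) = 0 := by
  classical
  let β : LinearMap.BilinForm F C := restrictForm (form a) C
  have hsurj : Function.Surjective (β : C →ₗ[F] Module.Dual F C) := by
    refine (LinearMap.injective_iff_surjective_of_finrank_eq_finrank
      (Subspace.dual_finrank_eq).symm).1 ?_
    rw [← LinearMap.ker_eq_bot, LinearMap.ker_eq_bot']
    intro x hx
    exact compl_sep ha hsq hC x fun y => LinearMap.congr_fun hx y
  choose z hz using fun i => hsurj (w.constr F fun j =>
    if j = i then quadPlus m F (u i) else 0)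
  have hz' : ∀ i j, sympForm m F (nil a (z i : 𝕍)) (u j) =
      if j = i then quadPlus m F (u i) else 0 := by
    intro i j
    rw [symp_comm, symp_nil_congr ha hsq w hu, ← form_apply, form_symm ha hsq]
    have := LinearMap.congr_fun (hz i) (w j)
    rw [Module.Basis.constr_basis] at this
    exact this
  refine ⟨fun i => u i + nil a (z i : 𝕍), fun i => by rw [map_add, nil_nil hsq, add_zero, hu],
    fun i j => ?_, fun i => ?_⟩
  · have e3 : sympForm m F (nil a (z i : 𝕍)) (nil a (z j : 𝕍)) = 0 := by
      rw [nil_adjoint ha hsq, nil_nil hsq, ← sympB_apply, map_zero]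
    have e1 := hz' i j
    have e2 : sympForm m F (u i) (nil a (z j : 𝕍)) = if i = j then quadPlus m F (u j) else 0 := by
      rw [symp_comm]; exact hz' j i
    simp only [← sympB_apply, map_add, LinearMap.add_apply] at e1 e2 e3 huu ⊢
    rw [e1, e2, e3, huu]
    by_cases h : i = j
    · subst h; simp [CharTwo.add_self_eq_zero]
    · simp [h, Ne.symm h]
  · have := hz' i i
    rw [if_pos rfl, symp_comm] at this
    rw [q_add, q_nil hQ, halt, this, add_zero, CharTwo.add_self_eq_zero]

include ha hsq in
/-- A vector orthogonal to all `u i`, `N u i` when they do not span. -/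
theorem exists_perp_q {C : Submodule F 𝕍}
    (hC : IsCompl (LinearMap.ker (nil a)) C) {r : ℕ}
    (w : Module.Basis (Fin r) F C) {u : Fin r → 𝕍} (hu : ∀ i, nil a (u i) = nil a (w i : 𝕍))
    (huu : ∀ i j, sympForm m F (u i) (u j) = 0)
    (hr : r < m) :
    ∃ k : 𝕍, nil a k = 0 ∧ (∀ i, sympForm m F (u i) k = 0) ∧ quadPlus m F k ≠ 0 := by
  classical
  let p : Fin r ⊕ Fin r → 𝕍 := Sum.elim u fun i => nil a (u i)
  let L : 𝕍 →ₗ[F] (Fin r ⊕ Fin r → F) := LinearMap.pi fun i => sympB m F (p i)
  have hL : ∀ x, L x = 0 → ∀ i, sympForm m F (u i) x = 0 ∧ sympForm m F (nil a (u i)) x = 0 :=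
    fun x hx i => ⟨by rw [← sympB_apply]; exact congrFun hx (Sum.inl i),
      by rw [← sympB_apply]; exact congrFun hx (Sum.inr i)⟩
  have hkn : ∀ x, L x = 0 → nil a x = 0 := by
    intro x hx
    refine symp_sep fun y => ?_
    obtain ⟨k', hk', c, hc, rfl⟩ := Submodule.mem_sup.1
      (hC.sup_eq_top ▸ Submodule.mem_top : y ∈ LinearMap.ker (nil a) ⊔ C)
    rw [symp_comm, ← nil_adjoint ha hsq, map_add, LinearMap.mem_ker.1 hk', zero_add]
    have hc' : c = ∑ i, w.repr ⟨c, hc⟩ i • (w i : 𝕍) := by
      have := congrArg Subtype.val (w.sum_repr ⟨c, hc⟩)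
      simpa only [Submodule.coe_sum, Submodule.coe_smul] using this.symm
    rw [hc', map_sum, ← sympB_apply, map_sum, LinearMap.sum_apply]
    refine Finset.sum_eq_zero fun i _ => ?_
    rw [map_smul, map_smul, LinearMap.smul_apply, sympB_apply, ← hu i, (hL x hx i).2, smul_zero]
  have hrk := LinearMap.finrank_range_add_finrank_ker L
  have hle := Submodule.finrank_le (LinearMap.range L)
  rw [Module.finrank_fintype_fun_eq_card, Fintype.card_sum, Fintype.card_fin] at hle
  rw [Module.finrank_fintype_fun_eq_card, Fintype.card_sum, Fintype.card_fin] at hrk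
  obtain ⟨k, hk, hk0⟩ := Submodule.exists_mem_ne_zero_of_ne_bot (p := LinearMap.ker L) (by
    intro h; rw [h, finrank_bot] at hrk; omega)
  by_contra hne
  push Not at hne
  apply hk0
  refine symp_sep fun y => ?_
  have hyk : ∀ y ∈ LinearMap.ker L, sympForm m F k y = 0 := by
    intro y hy
    have hq : ∀ x ∈ LinearMap.ker L, quadPlus m F x = 0 := fun x hx =>
      hne x (hkn x hx) fun i => (hL x hx i).1
    have h1 := q_add k y
    rw [hq _ (Submodule.add_mem _ hk hy), hq k hk, hq y hy, add_zero, zero_add] at h1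
    exact h1.symm
  have hk' := hL k hk
  obtain ⟨y₀, hy₀, y₁, hy₁, rfl⟩ := Submodule.mem_sup.1
    (show y ∈ Submodule.span F (Set.range p) ⊔ LinearMap.ker L from by
      have htop : Submodule.span F (Set.range p) ⊔ LinearMap.ker L = ⊤ := by
        have hli := pair_independent hsq hC w hu
        have hdis : Submodule.span F (Set.range p) ⊓ LinearMap.ker L = ⊥ := by
          rw [Submodule.eq_bot_iff]
          rintro x ⟨hx1, hx2⟩
          obtain ⟨c, rfl⟩ := (Submodule.mem_span_range_iff_exists_fun F).1 hx1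
          have hker := hL _ hx2
          have hn := hkn _ hx2
          simp only [p, Fintype.sum_sum_type, Sum.elim_inl, Sum.elim_inr, map_add, map_sum,
            map_smul, nil_nil hsq, smul_zero, Finset.sum_const_zero, add_zero] at hn
          have h1 : ∀ i, c (Sum.inl i) = 0 := by
            have := Fintype.linearIndependent_iff.1 hli (Sum.elim (fun _ => 0) fun i => c (Sum.inl i))
              (by simpa [Fintype.sum_sum_type] using hn)
            exact fun i => this (Sum.inr i)
          simp only [p, Fintype.sum_sum_type, Sum.elim_inl, Sum.elim_inr, h1, zero_smul,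
            Finset.sum_const_zero, zero_add] at hker ⊢
          set d : Fin r → F := fun i => c (Sum.inr i) with hd
          let cd : C := ∑ i, d i • w i
          have hz : cd = 0 := by
            refine compl_sep ha hsq hC cd fun y => ?_
            rw [← w.sum_repr y, map_sum]
            refine Finset.sum_eq_zero fun i _ => ?_
            rw [map_smul, restrictForm_apply, form_symm ha hsq, form_apply]
            have e := (hker i).1
            rw [show ∑ j, c (Sum.inr j) • nil a (u j) = nil a (cd : 𝕍) by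
              simp only [cd, hd, Submodule.coe_sum, Submodule.coe_smul, map_sum, map_smul, hu],
              symp_nil_congr ha hsq w hu] at e
            rw [e, smul_zero]
          rw [show ∑ j, c (Sum.inr j) • nil a (u j) = nil a (cd : 𝕍) by
              simp only [cd, hd, Submodule.coe_sum, Submodule.coe_smul, map_sum, map_smul, hu],
            hz, Submodule.coe_zero, map_zero]
        apply Submodule.eq_top_of_finrank_eq
        have h2 := Submodule.finrank_sup_add_finrank_inf_eq (Submodule.span F (Set.range p))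
          (LinearMap.ker L)
        rw [hdis, finrank_bot, finrank_span_eq_card hli, Fintype.card_sum, Fintype.card_fin] at h2
        have h3 := Submodule.finrank_le (Submodule.span F (Set.range p) ⊔ LinearMap.ker L)
        rw [Module.finrank_fintype_fun_eq_card, Fintype.card_sum, Fintype.card_fin] at h3 ⊢
        omega
      rw [htop]; exact Submodule.mem_top)
  rw [← sympB_apply, map_add, sympB_apply, sympB_apply, hyk y₁ hy₁, add_zero]
  obtain ⟨c, rfl⟩ := (Submodule.mem_span_range_iff_exists_fun F).1 hy₀
  rw [← sympB_apply, map_sum]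
  refine Finset.sum_eq_zero fun i _ => ?_
  rw [map_smul, sympB_apply, symp_comm]
  rcases i with i | i
  · show c (Sum.inl i) • sympForm m F (u i) k = 0
    rw [(hk' i).1, smul_zero]
  · show c (Sum.inr i) • sympForm m F (nil a (u i)) k = 0
    rw [(hk' i).2, smul_zero]

include ha hsq in
/-- The case of a proper non-degenerate span. -/
theorem adjust_small [Finite F] {C : Submodule F 𝕍}
    (hC : IsCompl (LinearMap.ker (nil a)) C) {r : ℕ}
    (w : Module.Basis (Fin r) F C) {u : Fin r → 𝕍} (hu : ∀ i, nil a (u i) = nil a (w i : 𝕍))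
    (huu : ∀ i j, sympForm m F (u i) (u j) = 0)
    (hr : r < m) :
    ∃ v : Fin r → 𝕍, (∀ i, nil a (v i) = nil a (w i : 𝕍)) ∧ (∀ i j, sympForm m F (v i) (v j) = 0) ∧
      ∀ i, quadPlus m F (v i) = 0 := by
  obtain ⟨k, hk, hku, hkq⟩ := exists_perp_q ha hsq hC w hu huu hr
  choose c hc using fun i => exists_sqrt (quadPlus m F (u i) / quadPlus m F k)
  refine ⟨fun i => u i + c i • k, fun i => by rw [map_add, map_smul, hk, smul_zero, add_zero, hu],
    fun i j => ?_, fun i => ?_⟩
  · simp only [← sympB_apply, map_add, LinearMap.add_apply, map_smul, LinearMap.smul_apply, smul_eq_mul]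
    simp only [sympB_apply, huu, hku, symp_comm k (u j), symp_self, mul_zero, add_zero]
  · rw [q_add, q_smul, symp_smul_right, hku, mul_zero, add_zero, ← hc i, div_mul_cancel₀ _ hkq,
      CharTwo.add_self_eq_zero]

include ha hsq hQ in
/-- `Q` on a combination of the `u i`, `N u i` for an orthonormal basis. -/
theorem q_combination {C : Submodule F 𝕍} {r : ℕ}
    (w : Module.Basis (Fin r) F C) {u : Fin r → 𝕍} (hu : ∀ i, nil a (u i) = nil a (w i : 𝕍))
    (huu : ∀ i j, sympForm m F (u i) (u j) = 0)
    (hon : ∀ i j, form a (w i : 𝕍) (w j : 𝕍) = if i = j then 1 else 0) (x y : Fin r → F) :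
    quadPlus m F (∑ i, x i • u i + ∑ i, y i • nil a (u i)) =
      ∑ i, (x i * x i * quadPlus m F (u i) + y i * y i + x i * y i) := by
  have e2 : ∀ i j, sympForm m F (nil a (u i)) (nil a (u j)) = 0 := fun i j => by
    rw [nil_adjoint ha hsq, nil_nil hsq, ← sympB_apply, map_zero]
  have e1 : ∀ i j, sympForm m F (u i) (nil a (u j)) = if i = j then 1 else 0 := fun i j => by
    rw [symp_nil_congr ha hsq w hu, hu, ← form_apply]; exact hon i j
  rw [q_add, q_sum _ _ (fun i _ j _ => by rw [symp_smul_left, symp_smul_right, huu, mul_zero, mul_zero]),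
    q_sum _ _ (fun i _ j _ => by rw [symp_smul_left, symp_smul_right, e2, mul_zero, mul_zero]),
    ← sympB_apply]
  simp only [map_sum, LinearMap.sum_apply]
  rw [← Finset.sum_add_distrib, ← Finset.sum_add_distrib]
  refine Finset.sum_congr rfl fun i _ => ?_
  rw [q_smul, q_smul, q_nil hQ, Finset.sum_eq_single i]
  · simp only [map_smul, LinearMap.smul_apply, smul_eq_mul, sympB_apply, e1, if_pos]
    rw [show form a (u i) (u i) = 1 by rw [form_apply, e1, if_pos rfl]]
    ring
  · intro j _ hji
    simp [sympB_apply, symp_smul_left, symp_smul_right, e1, Ne.symm hji, hji]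
  · intro h; exact absurd (Finset.mem_univ i) h

end

include ha hsq hQ in
/-- The orthonormal type spanning the space: the Arf invariant vanishes. -/
theorem adjust_full [Finite F] (hm : 1 ≤ m) {C : Submodule F 𝕍}
    (hC : IsCompl (LinearMap.ker (nil a)) C)
    (w : Module.Basis (Fin m) F C) {u : Fin m → 𝕍} (hu : ∀ i, nil a (u i) = nil a (w i : 𝕍))
    (huu : ∀ i j, sympForm m F (u i) (u j) = 0)
    (hon : ∀ i j, form a (w i : 𝕍) (w j : 𝕍) = if i = j then 1 else 0) :
    ∃ v : Fin m → 𝕍, (∀ i, nil a (v i) = nil a (w i : 𝕍)) ∧ (∀ i j, sympForm m F (v i) (v j) = 0) ∧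
      ∀ i, quadPlus m F (v i) = 0 := by
  classical
  obtain ⟨n, rfl⟩ : ∃ n, m = n + 1 := ⟨m - 1, by omega⟩
  -- modifications by symmetric coefficient matrices
  have step : ∀ (u : Fin (n + 1) → (Fin (n + 1) ⊕ Fin (n + 1) → F)),
      (∀ i, nil a (u i) = nil a (w i : Fin (n + 1) ⊕ Fin (n + 1) → F)) →
      (∀ i j, sympForm (n + 1) F (u i) (u j) = 0) →
      ∀ S : Fin (n + 1) → Fin (n + 1) → F, (∀ i j, S i j = S j i) →
      ∃ v : Fin (n + 1) → (Fin (n + 1) ⊕ Fin (n + 1) → F),
        (∀ i, nil a (v i) = nil a (w i : Fin (n + 1) ⊕ Fin (n + 1) → F)) ∧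
        (∀ i j, sympForm (n + 1) F (v i) (v j) = 0) ∧
        ∀ i, quadPlus (n + 1) F (v i) =
          quadPlus (n + 1) F (u i) + ∑ j, S i j * S i j + S i i := by
    intro u hu huu S hS
    have e2 : ∀ i j, sympForm (n + 1) F (nil a (u i)) (nil a (u j)) = 0 := fun i j => by
      rw [nil_adjoint ha hsq, nil_nil hsq, ← sympB_apply, map_zero]
    have e1 : ∀ i j, sympForm (n + 1) F (u i) (nil a (u j)) = if i = j then 1 else 0 := fun i j => by
      rw [symp_nil_congr ha hsq w hu, hu, ← form_apply]; exact hon i j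
    refine ⟨fun i => u i + ∑ j, S i j • nil a (u j), fun i => by
      simp [map_sum, nil_nil hsq, hu], fun i j => ?_, fun i => ?_⟩
    · simp only [← sympB_apply, map_add, map_sum, map_smul, LinearMap.add_apply, LinearMap.sum_apply,
        LinearMap.smul_apply, smul_eq_mul]
      simp only [sympB_apply, huu, e1, e2, symp_comm (nil a (u _)) (u j)]
      simp [hS i j, CharTwo.add_self_eq_zero]
    · have := q_combination ha hsq hQ w hu huu hon (fun j => if j = i then 1 else 0) (S i)
      simpa [Finset.sum_add_distrib, add_comm, add_left_comm, add_assoc] using this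
  choose s hs using fun i => exists_sqrt (quadPlus (n + 1) F (u i))
  let S : Fin (n + 1) → Fin (n + 1) → F := fun i j =>
    if i = 0 ∧ j ≠ 0 then s j else if j = 0 ∧ i ≠ 0 then s i else 0
  obtain ⟨v, hv, hvv, hvq⟩ := step u hu huu S (fun i j => by
    simp only [S]; split_ifs <;> simp_all)
  have hv0 : ∀ i, i ≠ 0 → quadPlus (n + 1) F (v i) = 0 := by
    intro i hi
    rw [hvq, Finset.sum_eq_single 0 (fun j _ hj => by simp [S, hi, hj]) (by simp)]
    simp [S, hi, ← hs i, CharTwo.add_self_eq_zero]
  obtain ⟨d, hd⟩ : ∃ d, quadPlus (n + 1) F (v 0) = d * d + d := by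
    by_contra hne
    push Not at hne
    let p : Fin (n + 1) ⊕ Fin (n + 1) → (Fin (n + 1) ⊕ Fin (n + 1) → F) :=
      Sum.elim v fun i => nil a (v i)
    have hli : LinearIndependent F p := pair_independent hsq hC w hv
    let b : Module.Basis (Fin (n + 1) ⊕ Fin (n + 1)) F (Fin (n + 1) ⊕ Fin (n + 1) → F) :=
      basisOfLinearIndependentOfCardEqFinrank hli (by simp)
    have hb : ∀ i, b i = p i := fun i => by simp [b]
    let W : Submodule F (Fin (n + 1) ⊕ Fin (n + 1) → F) :=
      Submodule.span F (Set.range fun i : Fin n => v i.succ)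
    have hW : ∀ x ∈ W, quadPlus (n + 1) F x = 0 := by
      intro x hx
      obtain ⟨c, rfl⟩ := (Submodule.mem_span_range_iff_exists_fun F).1 hx
      rw [q_sum _ _ (fun i _ j _ => by rw [symp_smul_left, symp_smul_right, hvv, mul_zero, mul_zero])]
      exact Finset.sum_eq_zero fun i _ => by rw [q_smul, hv0 _ (Fin.succ_ne_zero i), mul_zero]
    have hmaxW : ∀ W' : Submodule F _, W ≤ W' → (∀ x ∈ W', quadPlus (n + 1) F x = 0) → W' = W := by
      intro W' hle hq'
      refine le_antisymm (fun x hx => ?_) hle
      have hx' := (b.sum_repr x).symm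
      simp only [hb, p, Fintype.sum_sum_type, Sum.elim_inl, Sum.elim_inr] at hx'
      obtain ⟨f, g, hx'⟩ : ∃ f g : Fin (n + 1) → F,
          x = ∑ i, f i • v i + ∑ i, g i • nil a (v i) := ⟨_, _, hx'⟩
      have hg0 : ∀ i, i ≠ 0 → g i = 0 := by
        intro i hi
        obtain ⟨j, rfl⟩ := Fin.exists_succ_eq.2 hi
        have hmem : v j.succ ∈ W' := hle (Submodule.subset_span ⟨j, rfl⟩)
        have h1 := q_add x (v j.succ)
        rw [hq' _ (W'.add_mem hx hmem), hq' _ hx, hq' _ hmem, add_zero, zero_add, hx',
          symp_comm] at h1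
        rw [← sympB_apply, map_add, map_sum, map_sum] at h1
        simp only [map_smul, smul_eq_mul, sympB_apply, hvv, mul_zero, Finset.sum_const_zero,
          zero_add] at h1
        rw [Finset.sum_eq_single j.succ] at h1
        · rw [symp_nil_congr ha hsq w hv, hv, ← form_apply, hon, if_pos rfl, mul_one] at h1
          exact h1.symm
        · intro k _ hk
          rw [symp_nil_congr ha hsq w hv, hv, ← form_apply, hon, if_neg (Ne.symm hk), mul_zero]
        · intro h; exact absurd (Finset.mem_univ _) h
      have hq0 := hq' x hx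
      rw [hx', q_combination ha hsq hQ w hv hvv hon, Finset.sum_eq_single 0
        (fun i _ hi => by rw [hv0 i hi, hg0 i hi]; ring) (by simp)] at hq0
      have hf0 : f 0 = 0 := by
        by_contra hne0
        refine hne (g 0 / f 0) ?_
        field_simp
        linear_combination hq0 - (g 0 * g 0 + f 0 * g 0) * CharTwo.two_eq_zero (R := F)
      have hg00 : g 0 = 0 := by
        rw [hf0] at hq0
        simpa using hq0
      rw [hx']
      refine W.add_mem ?_ ?_
      · refine W.sum_mem fun i _ => ?_
        refine Fin.cases ?_ (fun j => ?_) i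
        · show f 0 • v 0 ∈ W
          rw [hf0, zero_smul]; exact W.zero_mem
        · exact W.smul_mem _ (Submodule.subset_span ⟨j, rfl⟩)
      · refine W.sum_mem fun i _ => ?_
        show g i • nil a (v i) ∈ W
        rcases eq_or_ne i 0 with rfl | hi
        · rw [hg00, zero_smul]; exact W.zero_mem
        · rw [hg0 i hi, zero_smul]; exact W.zero_mem
    let W₀ : Submodule F (Fin (n + 1) ⊕ Fin (n + 1) → F) :=
      LinearMap.ker (LinearMap.funLeft F F (Sum.inr : Fin (n + 1) → Fin (n + 1) ⊕ Fin (n + 1)))
    have hW₀ : ∀ x ∈ W₀, quadPlus (n + 1) F x = 0 := by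
      intro x hx
      have : ∀ i, x (Sum.inr i) = 0 := fun i => congrFun hx i
      simp [quadPlus_apply, quadFormPlus, this]
    have hmax₀ : ∀ W' : Submodule F _, W₀ ≤ W' → (∀ x ∈ W', quadPlus (n + 1) F x = 0) → W' = W₀ := by
      intro W' hle hq'
      refine le_antisymm (fun x hx => ?_) hle
      refine LinearMap.mem_ker.2 (funext fun i => ?_)
      have hmem : Pi.single (Sum.inl i) (1 : F) ∈ W' := hle (LinearMap.mem_ker.2 (funext fun j => by
        simp [LinearMap.funLeft_apply]))
      have h1 := q_add x (Pi.single (Sum.inl i) (1 : F))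
      rw [hq' _ (W'.add_mem hx hmem), hq' _ hx, hq' _ hmem, add_zero, zero_add, sympForm_eq_sum] at h1
      simpa [Pi.single_apply, LinearMap.funLeft_apply] using h1.symm
    have heq := witt_index_eq (quadPlus_nondegenerate (n + 1)) W W₀ hW hW₀ hmaxW hmax₀
    have hdW : finrank F W ≤ n := (finrank_range_le_card _).trans (by simp)
    have hdW₀ := LinearMap.finrank_range_add_finrank_ker
      (LinearMap.funLeft F F (Sum.inr : Fin (n + 1) → Fin (n + 1) ⊕ Fin (n + 1)))
    rw [LinearMap.range_eq_top.2 (LinearMap.funLeft_surjective_of_injective F F _ Sum.inr_injective),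
      finrank_top, Module.finrank_fintype_fun_eq_card, Module.finrank_fintype_fun_eq_card,
      Fintype.card_sum, Fintype.card_fin] at hdW₀
    change n + 1 + finrank F W₀ = n + 1 + (n + 1) at hdW₀
    omega
  obtain ⟨v', hv', hvv', hvq'⟩ := step v hv hvv (fun i j => if i = 0 ∧ j = 0 then d else 0)
    (fun i j => by simp [and_comm])
  refine ⟨v', hv', hvv', fun i => ?_⟩
  rw [hvq']
  rcases eq_or_ne i 0 with rfl | hi
  · rw [hd, Finset.sum_eq_single 0 (fun j _ hj => by simp [hj]) (by simp)]
    simp [add_assoc, CharTwo.add_self_eq_zero]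
    linear_combination (d * d + d) * CharTwo.two_eq_zero (R := F)
  · simp [hi, hv0 i hi]

include ha hsq hQ in
/-- An adjusted basis on which the quadratic form vanishes. -/
theorem exists_zero_adjusted [Finite F] (hm : 1 ≤ m) {C : Submodule F 𝕍}
    (hC : IsCompl (LinearMap.ker (nil a)) C) {r : ℕ} (w : Module.Basis (Fin r) F C)
    (htype : (∀ v, form a v v = 0) ∨
      ∀ i j, form a (w i : 𝕍) (w j : 𝕍) = if i = j then 1 else 0) :
    ∃ v : Fin r → 𝕍, (∀ i, nil a (v i) = nil a (w i : 𝕍)) ∧ (∀ i j, sympForm m F (v i) (v j) = 0) ∧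
      ∀ i, quadPlus m F (v i) = 0 := by
  obtain ⟨u, hu, huu⟩ := exists_adjusted ha hsq hC w
  rcases htype with h | h
  · exact adjust_alt ha hsq hQ hC w hu huu h
  · have hle := (pair_independent hsq hC w hu).fintype_card_le_finrank
    rw [Module.finrank_fintype_fun_eq_card, Fintype.card_sum, Fintype.card_sum, Fintype.card_fin,
      Fintype.card_fin] at hle
    rcases (show r ≤ m by omega).lt_or_eq with hr | hr
    · exact adjust_small ha hsq hC w hu huu hr
    · subst hr
      exact adjust_full ha hsq hQ hm hC w hu huu h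

include ha hsq hQ in
/-- Two orthogonal involutions of the same rank and type are conjugate in the orthogonal group. -/
theorem exists_conj_orth [Finite F] (hm : 1 ≤ m) {b : Matrix (Fin m ⊕ Fin m) (Fin m ⊕ Fin m) F}
    (hb : b ∈ Matrix.symplecticGroup (Fin m) F) (hbsq : b * b = 1)
    (hQb : ∀ v, quadPlus m F (b *ᵥ v) = quadPlus m F v)
    (hr : (a - 1).rank = (b - 1).rank) (ht : (∀ v, form a v v = 0) ↔ ∀ v, form b v v = 0) :
    ∃ c : isometryGroup F (quadFormPlus m F),
      (c.1 : Matrix (Fin m ⊕ Fin m) (Fin m ⊕ Fin m) F) * a = b * c.1 := by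
  classical
  obtain ⟨C, hC⟩ := Submodule.exists_isCompl (LinearMap.ker (nil a))
  obtain ⟨C', hC'⟩ := Submodule.exists_isCompl (LinearMap.ker (nil b))
  obtain ⟨e, he⟩ := exists_isometry (β := restrictForm (form a) C) (β' := restrictForm (form b) C')
    (fun x y => form_symm ha hsq _ _) (compl_sep ha hsq hC) (fun x y => form_symm hb hbsq _ _)
    (compl_sep hb hbsq hC') (by rw [finrank_compl hC, finrank_compl hC', hr])
    ((self_zero_iff ha hsq hC).symm.trans (ht.trans (self_zero_iff hb hbsq hC')))
  obtain ⟨w, hw⟩ : ∃ w : Module.Basis (Fin (finrank F C)) F C, (∀ v, form a v v = 0) ∨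
      ∀ i j, form a (w i : 𝕍) (w j : 𝕍) = if i = j then 1 else 0 := by
    by_cases h : ∀ v, form a v v = 0
    · exact ⟨Module.finBasis F C, Or.inl h⟩
    · rw [self_zero_iff ha hsq hC] at h
      push Not at h
      obtain ⟨e₀, he₀⟩ := exists_orthonormal (β := restrictForm (form a) C)
        (fun x y => form_symm ha hsq _ _) (compl_sep ha hsq hC) h rfl
      refine ⟨Module.Basis.ofEquivFun e₀, Or.inr fun i j => ?_⟩
      rw [← restrictForm_apply (form a) C, he₀, Module.Basis.coe_ofEquivFun]
      simp only [LinearEquiv.apply_symm_apply]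
      rw [Finset.sum_eq_single i (fun k _ hk => by simp [Pi.single_apply, hk]) (by simp)]
      simp [Pi.single_apply]
  let w' := w.map e
  have hg : ∀ i j, form b (w' i : 𝕍) (w' j : 𝕍) = form a (w i : 𝕍) (w j : 𝕍) := fun i j => by
    rw [show w' i = e (w i) from Module.Basis.map_apply _ _ _,
      show w' j = e (w j) from Module.Basis.map_apply _ _ _]
    exact he (w i) (w j)
  obtain ⟨u, hu, huu, huq⟩ := exists_zero_adjusted ha hsq hQ hm hC w hw
  obtain ⟨u', hu', huu', huq'⟩ := exists_zero_adjusted hb hbsq hQb hm hC' w'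
    (hw.imp ht.1 fun h i j => (hg i j).trans (h i j))
  have gram : ∀ i j, sympForm m F (u' i) (nil b (u' j)) = sympForm m F (u i) (nil a (u j)) := by
    intro i j
    rw [symp_nil_congr hb hbsq w' hu', symp_nil_congr ha hsq w hu, hu', hu, ← form_apply, ← form_apply]
    exact hg i j
  obtain ⟨g, hgQ, hgv⟩ := witt_quadratic_tuple (quadPlus_nondegenerate m)
    (pair_independent hsq hC w hu) (pair_independent hbsq hC' w' hu') (by
      rintro (i | i)
      · exact (huq' i).trans (huq i).symm
      · show quadPlus m F (nil b (u' i)) = quadPlus m F (nil a (u i))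
        rw [q_nil hQb, q_nil hQ, form_apply, form_apply]
        exact gram i i) (by
      rintro (i | i) (j | j) <;> rw [polar_eq, polar_eq]
      · exact (huu' i j).trans (huu i j).symm
      · exact gram i j
      · show sympForm m F (nil b (u' i)) (u' j) = sympForm m F (nil a (u i)) (u j)
        rw [nil_adjoint hb hbsq, nil_adjoint ha hsq]
        exact gram i j
      · show sympForm m F (nil b (u' i)) (nil b (u' j)) = sympForm m F (nil a (u i)) (nil a (u j))
        rw [nil_adjoint hb hbsq, nil_adjoint ha hsq, nil_nil hsq, nil_nil hbsq, ← sympB_apply,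
          ← sympB_apply, map_zero, map_zero])
  let E := isometryGroupEquivQ (quadPlus m F) (fun v => quadPlus_apply (F := F) v)
  refine ⟨E.symm ⟨g, hgQ⟩, ?_⟩
  have hact : ∀ v, (E.symm ⟨g, hgQ⟩).1.1 *ᵥ v = g v := fun v => by
    have h := congrArg (fun x : isomQ (quadPlus m F) => x.1 v) (E.apply_symm_apply ⟨g, hgQ⟩)
    exact h
  have hA : (E.symm ⟨g, hgQ⟩).1.1 ∈ Matrix.symplecticGroup (Fin m) F :=
    mem_symp_of_isom fun v => by
      rw [quadPlus_apply, quadPlus_apply]
      exact (E.symm ⟨g, hgQ⟩).2 v 0
  exact intertwine ha hsq hb hbsq hC hC' w w' hu hu' ⟨_, hA⟩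
    (fun i => (hact _).trans (hgv (Sum.inl i))) (fun i => (hact _).trans (hgv (Sum.inr i)))

end Cfsg.Agent.Forms.OrthTwo
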