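/-
Counting classes of involutions in the symplectic and plus type orthogonal groups in characteristic two.
-/
import Cfsg.Agent.Lib.Forms.OrthTwo

set_option autoImplicit false
set_option linter.unusedSectionVars false
set_option linter.style.haveILetI false

namespace Cfsg.Agent.Forms.InvolTwoCount

open scoped Matrix
open Module (finrank)
open SympTwo

variable {F : Type*} [Field F] [CharP F 2] {m : ℕ}

/-- The permutation matrix acting by `v ↦ v ∘ π`. -/
def permMat {ι : Type*} [DecidableEq ι] (π : ι → ι) : Matrix ι ι F :=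
  Matrix.of fun i j => if π i = j then 1 else 0

theorem permMat_mulVec {ι : Type*} [Fintype ι] [DecidableEq ι] (π : ι → ι) (v : ι → F) :
    permMat π *ᵥ v = v ∘ π := by
  funext i
  simp [permMat, Matrix.mulVec, dotProduct]

theorem permMat_mul_self {ι : Type*} [Fintype ι] [DecidableEq ι] {π : ι → ι}
    (h : Function.Involutive π) : (permMat π : Matrix ι ι F) * permMat π = 1 := by
  refine Matrix.mulVec_injective (funext fun v => ?_)
  rw [← Matrix.mulVec_mulVec, permMat_mulVec, permMat_mulVec, Matrix.one_mulVec]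
  exact funext fun i => congrArg v (h i)

/-- The rank of a permutation involution minus one: the number of its two-cycles. -/
theorem rank_permMat_sub_one {ι : Type*} [Fintype ι] [DecidableEq ι] {π : ι → ι}
    (h : Function.Involutive π) (R : ι → Prop) [DecidablePred R] (hR : ∀ i, R i → ¬ R (π i))
    (hcov : ∀ i, π i ≠ i → R i ∨ R (π i)) :
    ((permMat π : Matrix ι ι F) - 1).rank = Fintype.card {i // R i} := by
  set N : (ι → F) →ₗ[F] (ι → F) := ((permMat π : Matrix ι ι F) - 1).mulVecLin with hN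
  have hNv : ∀ v i, N v i = v (π i) - v i := fun v i => by
    simp [hN, Matrix.sub_mulVec, permMat_mulVec]
  let Φ : (ι → F) →ₗ[F] ({i // R i} → F) := (LinearMap.funLeft F F Subtype.val) ∘ₗ N
  have hker : LinearMap.ker Φ = LinearMap.ker N := by
    ext v
    simp only [LinearMap.mem_ker, Φ, LinearMap.comp_apply]
    refine ⟨fun h0 => funext fun i => ?_, fun h0 => by rw [h0, map_zero]⟩
    rw [hNv, Pi.zero_apply]
    by_cases hfix : π i = i
    · rw [hfix, sub_self]
    rcases hcov i hfix with hi | hi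
    · have := congrFun h0 ⟨i, hi⟩
      rwa [LinearMap.funLeft_apply, hNv] at this
    · have := congrFun h0 ⟨π i, hi⟩
      rw [LinearMap.funLeft_apply, hNv, h i] at this
      rw [← neg_sub, this]
      simp
  have hsurj : Function.Surjective Φ := by
    intro y
    refine ⟨fun i => if hi : R (π i) then y ⟨π i, hi⟩ else 0, funext fun r => ?_⟩
    show N _ r.1 = y r
    rw [hNv, dif_neg (hR r.1 r.2), dif_pos (show R (π (π r.1)) by rw [h]; exact r.2), sub_zero]
    exact congrArg y (Subtype.ext (h r.1))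
  have h1 := Φ.finrank_range_add_finrank_ker
  rw [LinearMap.range_eq_top.2 hsurj, finrank_top, Module.finrank_fintype_fun_eq_card, hker] at h1
  have h2 := N.finrank_range_add_finrank_ker
  show finrank F (LinearMap.range N) = _
  omega

local notation "I" => Fin m ⊕ Fin m

/-- Swap `x_i` and `y_i` for `i < k`. -/
def swapXY (k : ℕ) : I → I :=
  Sum.elim (fun i => if i.val < k then .inr i else .inl i) fun i => if i.val < k then .inl i else .inr i

theorem swapXY_involutive (k : ℕ) : Function.Involutive (swapXY (m := m) k) := by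
  rintro (i | i) <;> by_cases h : i.val < k <;> simp [swapXY, h]

/-- `2j ↔ 2j + 1` below `2k`. -/
def nbr {k : ℕ} (hk : 2 * k ≤ m) (i : Fin m) : Fin m :=
  if h : i.val < 2 * k then
    (if h' : i.val % 2 = 0 then ⟨i.val + 1, by omega⟩ else ⟨i.val - 1, by omega⟩)
  else i

theorem nbr_val {k : ℕ} (hk : 2 * k ≤ m) (i : Fin m) :
    (nbr hk i).val = if i.val < 2 * k then (if i.val % 2 = 0 then i.val + 1 else i.val - 1) else i.val := by
  unfold nbr
  split_ifs <;> rfl

theorem nbr_involutive {k : ℕ} (hk : 2 * k ≤ m) : Function.Involutive (nbr (m := m) hk) := by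
  intro i
  refine Fin.ext ?_
  rw [nbr_val, nbr_val]
  split_ifs <;> omega

/-- Swap two coordinate pairs, `k` times. -/
def swapPairs {k : ℕ} (hk : 2 * k ≤ m) : I → I := Sum.map (nbr hk) (nbr hk)

theorem swapPairs_involutive {k : ℕ} (hk : 2 * k ≤ m) : Function.Involutive (swapPairs (m := m) hk) := by
  rintro (i | i) <;> simp [swapPairs, nbr_involutive hk i]

theorem rank_swapXY {k : ℕ} (hk : k ≤ m) :
    ((permMat (swapXY (m := m) k) : Matrix I I F) - 1).rank = k := by
  rw [rank_permMat_sub_one (swapXY_involutive k) (fun i => ∃ j : Fin m, j.val < k ∧ i = .inl j)]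
  · refine Eq.trans ?_ (Fintype.card_fin k)
    refine (Fintype.card_congr (Equiv.ofBijective
      (fun j : Fin k => (⟨.inl (j.castLE hk), j.castLE hk, j.2, rfl⟩ : {i : I // ∃ j : Fin m, j.val < k ∧ i = .inl j}))
      ⟨fun a b e => by simpa using congrArg Subtype.val e, ?_⟩)).symm
    rintro ⟨_, j, hj, rfl⟩
    exact ⟨⟨j.val, hj⟩, rfl⟩
  · rintro _ ⟨j, hj, rfl⟩ ⟨j', -, h⟩
    simp [swapXY, hj] at h
  · rintro (i | i) h <;> by_cases hi : i.val < k <;> simp_all [swapXY]

theorem rank_swapPairs {k : ℕ} (hk : 2 * k ≤ m) :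
    ((permMat (swapPairs (m := m) hk) : Matrix I I F) - 1).rank = k + k := by
  rw [rank_permMat_sub_one (swapPairs_involutive hk)
    (fun i => (Sum.elim id id i).val < 2 * k ∧ (Sum.elim id id i).val % 2 = 0)]
  · have e : {i : I // (Sum.elim id id i).val < 2 * k ∧ (Sum.elim id id i).val % 2 = 0} ≃ Fin k ⊕ Fin k :=
      { toFun := fun i => match i with
          | ⟨.inl j, h⟩ => .inl ⟨j.val / 2, by have := h.1; simp only [Sum.elim_inl, id] at this; omega⟩
          | ⟨.inr j, h⟩ => .inr ⟨j.val / 2, by have := h.1; simp only [Sum.elim_inr, id] at this; omega⟩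
        invFun := Sum.elim (fun j => ⟨.inl ⟨2 * j.val, by omega⟩, by simp only [Sum.elim_inl, id]; omega⟩)
          fun j => ⟨.inr ⟨2 * j.val, by omega⟩, by simp only [Sum.elim_inr, id]; omega⟩
        left_inv := by
          rintro ⟨j | j, h⟩ <;> simp only [Sum.elim_inl, Sum.elim_inr, id] at h <;>
            refine Subtype.ext ?_ <;> simp only [Sum.elim_inl, Sum.elim_inr, Sum.inl.injEq, Sum.inr.injEq] <;>
            refine Fin.ext ?_ <;> dsimp only <;> omega
        right_inv := by
          rintro (j | j) <;> simp }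
    rw [Fintype.card_congr e, Fintype.card_sum, Fintype.card_fin]
  · rintro (i | i) <;> simp only [swapPairs, Sum.map_inl, Sum.map_inr, Sum.elim_inl, Sum.elim_inr, id,
      nbr_val] <;> intro h h' <;> split_ifs at h' <;> omega
  · rintro (i | i) h <;> simp only [swapPairs, Sum.map_inl, Sum.map_inr, ne_eq, Sum.inl.injEq,
      Sum.inr.injEq, Fin.ext_iff, nbr_val, Sum.elim_inl, Sum.elim_inr, id] at h ⊢ <;>
      split_ifs at h ⊢ <;> omega

theorem quad_swapXY (k : ℕ) (v : I → F) :
    quadPlus m F (permMat (swapXY k) *ᵥ v) = quadPlus m F v := by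
  rw [quadPlus_apply, quadPlus_apply, permMat_mulVec]
  refine Finset.sum_congr rfl fun i _ => ?_
  by_cases h : i.val < k <;> simp [swapXY, h, mul_comm]

theorem quad_swapPairs {k : ℕ} (hk : 2 * k ≤ m) (v : I → F) :
    quadPlus m F (permMat (swapPairs hk) *ᵥ v) = quadPlus m F v := by
  rw [quadPlus_apply, quadPlus_apply, permMat_mulVec]
  exact Fintype.sum_equiv (nbr_involutive hk).toPerm _ _ fun i => rfl

theorem swapXY_not_alt {k : ℕ} (hk : 1 ≤ k) (hm : 1 ≤ m) :
    ¬ ∀ v, form (permMat (swapXY (m := m) k) : Matrix I I F) v v = 0 := by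
  classical
  intro h
  have h1 := h (Pi.single (Sum.inl ⟨0, hm⟩) 1)
  rw [form_self, permMat_mulVec, sympForm_eq_sum, Finset.sum_eq_single ⟨0, hm⟩] at h1
  · simp [swapXY, show 0 < k by omega] at h1
  · intro i _ hi
    have hi' : i ≠ ⟨0, hm⟩ := hi
    by_cases hik : i.val < k <;> simp [swapXY, hik, hi']
  · simp

theorem swapPairs_alt {k : ℕ} (hk : 2 * k ≤ m) (v : I → F) :
    form (permMat (swapPairs (m := m) hk) : Matrix I I F) v v = 0 := by
  rw [form_self, permMat_mulVec, sympForm_eq_sum, Finset.sum_sub_distrib, sub_eq_zero]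
  refine Fintype.sum_equiv (nbr_involutive hk).toPerm _ _ fun i => ?_
  show v (.inr i) * v (.inl (nbr hk i)) = v (.inl (nbr hk i)) * v (.inr (nbr hk (nbr hk i)))
  rw [nbr_involutive hk i, mul_comm]

theorem rank_le {a : Matrix I I F} (hsq : a * a = 1) : (a - 1).rank ≤ m := by
  obtain ⟨C, hC⟩ := Submodule.exists_isCompl (LinearMap.ker (nil a))
  have h := (pair_independent hsq hC (Module.finBasis F C) (u := fun i => (Module.finBasis F C i : I → F))
    fun i => rfl).fintype_card_le_finrank
  rw [Fintype.card_sum, Fintype.card_fin, Module.finrank_fintype_fun_eq_card, Fintype.card_sum,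
    Fintype.card_fin, finrank_compl hC] at h
  omega

theorem one_le_rank {a : Matrix I I F} (h1 : a ≠ 1) : 1 ≤ (a - 1).rank := by
  by_contra h
  have h0 : finrank F (LinearMap.range (nil a)) = 0 := by
    show (a - 1).rank = 0
    omega
  rw [Submodule.finrank_eq_zero, LinearMap.range_eq_bot] at h0
  refine h1 (Matrix.mulVec_injective (funext fun v => ?_))
  have h2 := LinearMap.congr_fun h0 v
  rw [nil_apply, LinearMap.zero_apply, sub_eq_zero] at h2
  rw [h2, Matrix.one_mulVec]

variable {G : Type*} [Group G]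

theorem conj_invariant (φ : G →* Matrix I I F) (hmem : ∀ g, φ g ∈ Matrix.symplecticGroup (Fin m) F)
    {a b : G} (h : IsConj a b) :
    (φ a - 1).rank = (φ b - 1).rank ∧ ((∀ v, form (φ a) v v = 0) → ∀ v, form (φ b) v v = 0) := by
  obtain ⟨c, hc⟩ := isConj_iff.1 h
  have hcb : φ c * φ a = φ b * φ c := by
    rw [← map_mul, ← map_mul, ← hc, inv_mul_cancel_right]
  have hu : IsUnit (φ c).det := SymplecticGroup.symplectic_det (hmem c)
  refine ⟨?_, fun h0 v => ?_⟩
  · rw [← Matrix.rank_mul_eq_right_of_isUnit_det (φ c) (φ a - 1) hu,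
      ← Matrix.rank_mul_eq_left_of_isUnit_det (φ c) (φ b - 1) hu, mul_sub, sub_mul, hcb, mul_one, one_mul]
  · have hv : φ c *ᵥ (φ c⁻¹ *ᵥ v) = v := by
      rw [Matrix.mulVec_mulVec, ← map_mul, mul_inv_cancel, map_one, Matrix.one_mulVec]
    have h1 := h0 (φ c⁻¹ *ᵥ v)
    rw [form_self] at h1 ⊢
    rw [← mem_symplecticGroup_iff_form.1 (hmem c), hv, Matrix.mulVec_mulVec (φ c⁻¹ *ᵥ v), hcb,
      ← Matrix.mulVec_mulVec, hv] at h1
    exact h1

/-- The classes of involutions from the conjugacy criterion, with representatives. -/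
theorem exists_classes (hm : 1 ≤ m) (φ : G →* Matrix I I F) (hinj : Function.Injective φ)
    (hmem : ∀ g, φ g ∈ Matrix.symplecticGroup (Fin m) F)
    (hconj : ∀ a b, φ a * φ a = 1 → φ b * φ b = 1 → (φ a - 1).rank = (φ b - 1).rank →
      ((∀ v, form (φ a) v v = 0) ↔ ∀ v, form (φ b) v v = 0) → IsConj a b)
    (hswap : ∀ k, ∃ g, φ g = permMat (swapXY k))
    (hpairs : ∀ k, ∀ hk : 2 * k ≤ m, ∃ g, φ g = permMat (swapPairs hk)) :
    ∃ rep : Fin m ⊕ Fin (m / 2) → G,
      (∀ i, φ (rep (.inl i)) = permMat (swapXY (i.val + 1))) ∧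
      (∀ j : Fin (m / 2), φ (rep (.inr j)) = permMat (swapPairs (k := j.val + 1) (by omega))) ∧
      (∀ x, orderOf (rep x) = 2) ∧
      (∀ x, (φ (rep x) - 1).rank =
        Sum.elim (fun i : Fin m => i.val + 1) (fun j : Fin (m / 2) => (j.val + 1) + (j.val + 1)) x) ∧
      (∀ x y, IsConj (rep x) (rep y) → x = y) ∧
      ∀ g, orderOf g = 2 → ∃ x, IsConj (rep x) g := by
  classical
  choose s hs using hswap
  choose p hp using hpairs
  haveI : Fact (Nat.Prime 2) := ⟨Nat.prime_two⟩
  have hord : ∀ g, φ g * φ g = 1 → 1 ≤ (φ g - 1).rank → orderOf g = 2 := fun g h1 h2 => by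
    refine orderOf_eq_prime (hinj (by rw [pow_two, map_mul, h1, map_one])) fun e => ?_
    rw [e, map_one, sub_self, Matrix.rank_zero] at h2
    omega
  let rep : Fin m ⊕ Fin (m / 2) → G :=
    Sum.elim (fun i => s (i.val + 1)) fun j => p (j.val + 1) (by omega)
  have hsq : ∀ x, φ (rep x) * φ (rep x) = 1 := by
    rintro (i | j)
    · simp only [rep, Sum.elim_inl, hs]; exact permMat_mul_self (swapXY_involutive _)
    · simp only [rep, Sum.elim_inr, hp]; exact permMat_mul_self (swapPairs_involutive _)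
  have hrank : ∀ x, (φ (rep x) - 1).rank =
      Sum.elim (fun i : Fin m => i.val + 1) (fun j : Fin (m / 2) => (j.val + 1) + (j.val + 1)) x := by
    rintro (i | j)
    · simp only [rep, Sum.elim_inl, hs]; exact rank_swapXY (by omega)
    · simp only [rep, Sum.elim_inr, hp]; exact rank_swapPairs _
  have htype : ∀ x, (∀ v, form (φ (rep x)) v v = 0) ↔ x.isRight = true := by
    rintro (i | j)
    · simp only [rep, Sum.elim_inl, hs, Sum.isRight_inl, Bool.false_eq_true, iff_false]
      exact swapXY_not_alt (by omega) hm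
    · simp only [rep, Sum.elim_inr, hp, Sum.isRight_inr, iff_true]
      exact swapPairs_alt _
  have hrep : ∀ x, orderOf (rep x) = 2 := fun x =>
    hord _ (hsq x) (by rw [hrank]; rcases x with i | j <;> simp <;> omega)
  refine ⟨rep, fun i => hs _, fun j => hp _ _, hrep, hrank, fun x y hc => ?_, fun g hg => ?_⟩
  · obtain ⟨hr, ht⟩ := conj_invariant φ hmem hc
    have ht' := (conj_invariant φ hmem hc.symm).2
    have hiso : x.isRight = true ↔ y.isRight = true := by
      rw [← htype, ← htype]; exact ⟨ht, ht'⟩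
    rw [hrank, hrank] at hr
    rcases x with i | j <;> rcases y with i' | j' <;> simp at hiso hr ⊢ <;> exact Fin.ext (by omega)
  · have hg2 : φ g * φ g = 1 := by
      rw [← map_mul, ← pow_two, ← hg, pow_orderOf_eq_one, map_one]
    have hg1 : φ g ≠ 1 := fun e => by
      rw [hinj (e.trans (map_one φ).symm), orderOf_one] at hg
      omega
    have h1 := one_le_rank hg1
    have h2 := rank_le hg2
    by_cases ht : ∀ v, form (φ g) v v = 0
    · obtain ⟨j, hj⟩ := even_rank (hmem g) hg2 ht
      refine ⟨.inr ⟨j - 1, by omega⟩, hconj _ _ (hsq _) hg2 ?_ ?_⟩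
      · rw [hrank, Sum.elim_inr]; dsimp only; omega
      · rw [htype]; exact iff_of_true rfl ht
    · refine ⟨.inl ⟨(φ g - 1).rank - 1, by omega⟩, hconj _ _ (hsq _) hg2 ?_ ?_⟩
      · rw [hrank, Sum.elim_inl]; dsimp only; omega
      · rw [htype]; exact iff_of_false (by simp) ht

/-- Counting classes from a complete list of pairwise non-conjugate involutions. -/
theorem card_of_classes {ι : Type*} (rep : ι → G) (hord : ∀ x, orderOf (rep x) = 2)
    (hne : ∀ x y, IsConj (rep x) (rep y) → x = y) (hex : ∀ g, orderOf g = 2 → ∃ x, IsConj (rep x) g) :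
    Nat.card {C : ConjClasses G // ∃ g : G, ConjClasses.mk g = C ∧ orderOf g = 2} = Nat.card ι := by
  refine (Nat.card_congr (Equiv.ofBijective (fun x => (⟨ConjClasses.mk (rep x), rep x, rfl, hord x⟩ :
    {C : ConjClasses G // ∃ g : G, ConjClasses.mk g = C ∧ orderOf g = 2})) ⟨fun x y h => ?_, ?_⟩)).symm
  · exact hne x y (ConjClasses.mk_eq_mk_iff_isConj.1 (congrArg Subtype.val h))
  · rintro ⟨C, g, rfl, hg⟩
    obtain ⟨x, hx⟩ := hex g hg
    exact ⟨x, Subtype.ext (ConjClasses.mk_eq_mk_iff_isConj.2 hx)⟩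

/-- Counting classes of involutions from the conjugacy criterion. -/
theorem card_classes (hm : 1 ≤ m) (φ : G →* Matrix I I F) (hinj : Function.Injective φ)
    (hmem : ∀ g, φ g ∈ Matrix.symplecticGroup (Fin m) F)
    (hconj : ∀ a b, φ a * φ a = 1 → φ b * φ b = 1 → (φ a - 1).rank = (φ b - 1).rank →
      ((∀ v, form (φ a) v v = 0) ↔ ∀ v, form (φ b) v v = 0) → IsConj a b)
    (hswap : ∀ k, ∃ g, φ g = permMat (swapXY k))
    (hpairs : ∀ k, ∀ hk : 2 * k ≤ m, ∃ g, φ g = permMat (swapPairs hk)) :
    Nat.card {C : ConjClasses G // ∃ g : G, ConjClasses.mk g = C ∧ orderOf g = 2} = m + m / 2 := by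
  obtain ⟨rep, -, -, hord, -, hne, hex⟩ := exists_classes hm φ hinj hmem hconj hswap hpairs
  rw [card_of_classes rep hord hne hex, Nat.card_sum, Nat.card_fin, Nat.card_fin]

end Cfsg.Agent.Forms.InvolTwoCount
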