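/-
Involutions of the minus type orthogonal groups in characteristic two, in symplectic coordinates.
-/
import Cfsg.Agent.Lib.Forms.OrthTwoMinus
import Cfsg.Agent.Lib.Forms.InvolTwoCount
import Cfsg.Agent.Lib.UnipForms.Types

set_option autoImplicit false
set_option linter.unusedSectionVars false
set_option linter.style.haveILetI false

namespace Cfsg.Agent.Forms.MinusTwo

open scoped Matrix
open Module (finrank)
open SympTwo

variable {F : Type*} [Field F] [Fintype F] [CharP F 2] {n : ℕ} {a b : F}

local notation "J" => (Fin n ⊕ Fin n) ⊕ Fin 2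
local notation "𝕎" => (Fin n ⊕ Fin n) ⊕ Fin 2 → F

/-- A singular subspace of `quadMinus` has dimension at most `n`. -/
theorem singular_le (hab : ∀ z₁ z₂ : F, z₁ ^ 2 + a * z₁ * z₂ + b * z₂ ^ 2 = 0 → z₁ = 0 ∧ z₂ = 0)
    (W : Submodule F 𝕎) (hW : ∀ x ∈ W, quadMinus n F a b x = 0) : finrank F W ≤ n := by
  classical
  have hnd := quadMinus_nondegenerate n hab
  set B := QuadraticMap.polarBilin (quadMinus n F a b)
  have hpair : ∀ (W' : Submodule F 𝕎), (∀ x ∈ W', quadMinus n F a b x = 0) →
      ∀ x ∈ W', ∀ y ∈ W', B x y = 0 := by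
    intro W' h x hx y hy
    simp only [B, QuadraticMap.polarBilin_apply_apply, QuadraticMap.polar, h _ (W'.add_mem hx hy), h x hx, h y hy, sub_zero]
  obtain ⟨M, ⟨hWM, hM⟩, hMmax⟩ := wellFounded_gt.has_min
    {M : Submodule F 𝕎 | W ≤ M ∧ ∀ x ∈ M, quadMinus n F a b x = 0} ⟨W, le_rfl, hW⟩
  have hmax : ∀ W' : Submodule F 𝕎, M ≤ W' → (∀ x ∈ W', quadMinus n F a b x = 0) → W' = M :=
    fun W' h1 h2 => (h1.antisymm' (le_of_eq (by
      by_contra hne
      exact hMmax W' ⟨hWM.trans h1, h2⟩ (lt_of_le_of_ne h1 (Ne.symm hne)))))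
  let W₀ : Submodule F 𝕎 := LinearMap.ker (LinearMap.funLeft F F
    (Sum.elim (fun i => Sum.inl (Sum.inr i)) Sum.inr : Fin n ⊕ Fin 2 → J))
  have hW₀ : ∀ x ∈ W₀, quadMinus n F a b x = 0 := by
    intro x hx
    have h1 : ∀ i, x (.inl (.inr i)) = 0 := fun i => congrFun hx (.inl i)
    have h2 : ∀ i, x (.inr i) = 0 := fun i => congrFun hx (.inr i)
    simp [quadMinus_apply, quadFormMinus, h1, h2]
  have hmax₀ : ∀ W' : Submodule F 𝕎, W₀ ≤ W' → (∀ x ∈ W', quadMinus n F a b x = 0) → W' = W₀ := by
    intro W' hle hq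
    refine le_antisymm (fun x hx => ?_) hle
    have hy : ∀ i, x (.inl (.inr i)) = 0 := by
      intro i
      have hmem : Pi.single (Sum.inl (Sum.inl i)) (1 : F) ∈ W' := hle (LinearMap.mem_ker.2 (funext fun j => by
        rcases j with j | j <;> simp [LinearMap.funLeft_apply]))
      have h := hq _ (W'.add_mem hx hmem)
      have h0 := hq _ hx
      rw [quadMinus_apply] at h h0
      simp [quadFormMinus, add_mul, Finset.sum_add_distrib, Pi.single_apply] at h h0
      linear_combination h - h0
    have hz := hq _ hx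
    rw [quadMinus_apply] at hz
    simp [quadFormMinus, hy] at hz
    obtain ⟨h0, h1⟩ := hab _ _ hz
    refine LinearMap.mem_ker.2 (funext fun j => ?_)
    rcases j with j | j
    · exact hy j
    · fin_cases j
      · exact h0
      · exact h1
  have heq := witt_index_eq hnd M W₀ hM hW₀ hmax hmax₀
  have h3 := LinearMap.finrank_range_add_finrank_ker (LinearMap.funLeft F F
    (Sum.elim (fun i => Sum.inl (Sum.inr i)) Sum.inr : Fin n ⊕ Fin 2 → J))
  have hinj : Function.Injective
      (Sum.elim (fun i => Sum.inl (Sum.inr i)) Sum.inr : Fin n ⊕ Fin 2 → J) := by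
    rintro (i | i) (j | j) h <;> simp only [Sum.elim_inl, Sum.elim_inr, reduceCtorEq, Sum.inl.injEq, Sum.inr.injEq] at h <;> rw [h]
  rw [LinearMap.range_eq_top.2 (LinearMap.funLeft_surjective_of_injective F F _ hinj),
    finrank_top, Module.finrank_fintype_fun_eq_card, Module.finrank_fintype_fun_eq_card] at h3
  simp only [Fintype.card_sum, Fintype.card_fin] at h3
  change n + 2 + finrank F W₀ = n + n + 2 at h3
  exact (Submodule.finrank_mono hWM).trans (by omega)

/-- Symplectic coordinates for the polar form of `quadMinus`. -/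
structure Coords (n : ℕ) (a b : F) where
  L : ((Fin n ⊕ Fin n) ⊕ Fin 2 → F) ≃ₗ[F] (Fin (n + 1) ⊕ Fin (n + 1) → F)
  polar : ∀ u v, QuadraticMap.polarBilin (quadMinus n F a b) u v = sympForm (n + 1) F (L u) (L v)

theorem exists_coords (hab : ∀ z₁ z₂ : F, z₁ ^ 2 + a * z₁ * z₂ + b * z₂ ^ 2 = 0 → z₁ = 0 ∧ z₂ = 0) :
    Nonempty (Coords n a b) := by
  obtain ⟨m, e, hm, he⟩ := exists_alt_equiv (β := QuadraticMap.polarBilin (quadMinus n F a b))
    (fun x => by rw [polarBilin_self, CharTwo.two_eq_zero, zero_mul])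
    (quadMinus_nondegenerate n hab).1
  have hd : m = n + 1 := by
    rw [Module.finrank_fintype_fun_eq_card] at hm
    simp only [Fintype.card_sum, Fintype.card_fin] at hm
    omega
  subst hd
  exact ⟨⟨e, fun u v => by rw [he, symp_comm]⟩⟩

variable (c : Coords n a b)

/-- The form in symplectic coordinates. -/
noncomputable def Coords.Q : QuadraticForm F (Fin (n + 1) ⊕ Fin (n + 1) → F) :=
  (quadMinus n F a b).comp c.L.symm.toLinearMap

theorem Coords.Q_polar (u v : Fin (n + 1) ⊕ Fin (n + 1) → F) :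
    QuadraticMap.polarBilin c.Q u v = sympForm (n + 1) F u v := by
  conv_rhs => rw [← c.L.apply_symm_apply u, ← c.L.apply_symm_apply v, ← c.polar]
  simp [Coords.Q, QuadraticMap.polar]

theorem Coords.no_half (hab : ∀ z₁ z₂ : F, z₁ ^ 2 + a * z₁ * z₂ + b * z₂ ^ 2 = 0 → z₁ = 0 ∧ z₂ = 0) :
    ¬ OrthTwoMinus.HasSingularHalf c.Q := by
  rintro ⟨W, hW, hWs⟩
  have h := singular_le hab (W.map c.L.symm.toLinearMap) (by
    rintro _ ⟨x, hx, rfl⟩
    exact hWs x hx)
  rw [LinearEquiv.finrank_eq (c.L.symm.submoduleMap W).symm, hW] at h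
  omega

/-- The matrix of an element in symplectic coordinates. -/
noncomputable def Coords.toMat :
    ↥(isometryGroup F (quadFormMinus n F a b)) →* Matrix (Fin (n + 1) ⊕ Fin (n + 1)) (Fin (n + 1) ⊕ Fin (n + 1)) F where
  toFun g := LinearMap.toMatrix'
    (c.L.toLinearMap ∘ₗ (g.1 : Matrix J J F).mulVecLin ∘ₗ c.L.symm.toLinearMap)
  map_one' := by
    rw [← LinearMap.toMatrix'_id]
    congr 1
    refine LinearMap.ext fun v => ?_
    simp
  map_mul' g h := by
    rw [← LinearMap.toMatrix'_comp]
    congr 1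
    refine LinearMap.ext fun v => ?_
    simp [Matrix.mulVec_mulVec]

theorem Coords.toMat_mulVec (g : ↥(isometryGroup F (quadFormMinus n F a b))) (v : Fin (n + 1) ⊕ Fin (n + 1) → F) :
    c.toMat g *ᵥ v = c.L ((g.1 : Matrix J J F) *ᵥ c.L.symm v) := by
  show LinearMap.toMatrix' _ *ᵥ v = _
  rw [LinearMap.toMatrix'_mulVec]
  rfl

theorem Coords.toMat_injective : Function.Injective c.toMat := by
  intro g h e
  refine Subtype.ext (Units.ext (Matrix.mulVec_injective (funext fun v => ?_)))
  have := congrArg (fun M => M *ᵥ c.L v) e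
  simp only [c.toMat_mulVec, LinearEquiv.symm_apply_apply] at this
  exact c.L.injective this

theorem Coords.toMat_isom (g : ↥(isometryGroup F (quadFormMinus n F a b))) (v : Fin (n + 1) ⊕ Fin (n + 1) → F) :
    c.Q (c.toMat g *ᵥ v) = c.Q v := by
  rw [c.toMat_mulVec]
  simp only [Coords.Q, QuadraticMap.comp_apply, LinearEquiv.coe_coe, LinearEquiv.symm_apply_apply,
    quadMinus_apply]
  exact g.2 _ 0

theorem Coords.toMat_mem (g : ↥(isometryGroup F (quadFormMinus n F a b))) :
    c.toMat g ∈ Matrix.symplecticGroup (Fin (n + 1)) F :=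
  OrthTwoMinus.mem_symp_of_isom c.Q_polar (c.toMat_isom g)

theorem Coords.exists_conj (hab : ∀ z₁ z₂ : F, z₁ ^ 2 + a * z₁ * z₂ + b * z₂ ^ 2 = 0 → z₁ = 0 ∧ z₂ = 0)
    (s t : ↥(isometryGroup F (quadFormMinus n F a b))) (hs : c.toMat s * c.toMat s = 1)
    (ht : c.toMat t * c.toMat t = 1) (hr : (c.toMat s - 1).rank = (c.toMat t - 1).rank)
    (hty : (∀ v, form (c.toMat s) v v = 0) ↔ ∀ v, form (c.toMat t) v v = 0) : IsConj s t := by
  obtain ⟨g, A, hgQ, hgA, hA⟩ := OrthTwoMinus.exists_conj_orth c.Q_polar (c.toMat_mem s) hs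
    (c.toMat_isom s) (Nat.succ_pos n) (c.no_half hab) (c.toMat_mem t) ht (c.toMat_isom t) hr hty
  let g' : 𝕎 ≃ₗ[F] 𝕎 := c.L.trans (g.trans c.L.symm)
  have hg' : g' ∈ isomQ (quadMinus n F a b) := fun u _ => by
    show quadMinus n F a b (c.L.symm (g (c.L u))) = _
    have := hgQ (c.L u)
    simpa [Coords.Q] using this
  let E := isometryGroupEquivQ (quadMinus n F a b) (fun v => quadMinus_apply (F := F) v)
  refine isConj_iff.2 ⟨E.symm ⟨g', hg'⟩, ?_⟩
  rw [mul_inv_eq_iff_eq_mul]
  refine c.toMat_injective ?_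
  have hact : c.toMat (E.symm ⟨g', hg'⟩) = A.1 := by
    refine Matrix.mulVec_injective (funext fun v => ?_)
    have h : ((E.symm ⟨g', hg'⟩).1 : Matrix J J F) *ᵥ c.L.symm v = g' (c.L.symm v) :=
      congrArg (fun x : isomQ (quadMinus n F a b) => x.1 (c.L.symm v)) (E.apply_symm_apply ⟨g', hg'⟩)
    rw [c.toMat_mulVec, h, ← hgA]
    simp [g']
  rw [map_mul, map_mul, hact]
  exact hA

/-- The type is whether `Q` vanishes on the image of `t - 1`. -/
theorem Coords.form_self_toMat (g : ↥(isometryGroup F (quadFormMinus n F a b))) (v : 𝕎) :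
    form (c.toMat g) (c.L v) (c.L v) = quadFormMinus n F a b ((g.1 : Matrix J J F) *ᵥ v - v) := by
  rw [← OrthTwoMinus.q_nil c.Q_polar (c.toMat_isom g), nil_apply, c.toMat_mulVec]
  simp [Coords.Q, quadMinus_apply]

theorem Coords.rank_toMat (g : ↥(isometryGroup F (quadFormMinus n F a b))) :
    (c.toMat g - 1).rank = ((g.1 : Matrix J J F) - 1).rank := by
  show finrank F (LinearMap.range (c.toMat g - 1).mulVecLin) = finrank F (LinearMap.range ((g.1 : Matrix J J F) - 1).mulVecLin)
  rw [show (c.toMat g - 1).mulVecLin = c.L.toLinearMap ∘ₗ ((g.1 : Matrix J J F) - 1).mulVecLin ∘ₗ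
      c.L.symm.toLinearMap from LinearMap.ext fun v => by
    simp [Matrix.sub_mulVec, c.toMat_mulVec],
    LinearMap.range_comp, LinearMap.range_comp_of_range_eq_top _ (LinearEquiv.range _)]
  exact (c.L.submoduleMap _).finrank_eq.symm

/-- The three kinds of representatives. -/
def swapRep (k : ℕ) : J → J := Sum.map (InvolTwoCount.swapXY k) id

/-- Swapped coordinate pairs. -/
def pairRep {k : ℕ} (hk : 2 * k ≤ n) : J → J := Sum.map (InvolTwoCount.swapPairs hk) id

/-- `(z₀, z₁) ↦ (z₀ + a z₁, z₁)` after the swaps of all pairs. -/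
def lastRep (a : F) : 𝕎 →ₗ[F] 𝕎 where
  toFun v := Sum.elim (fun i => v (.inl (InvolTwoCount.swapXY n i)))
    (fun j => if j = 0 then v (.inr 0) + a * v (.inr 1) else v (.inr j))
  map_add' u v := funext fun j => by
    rcases j with i | j
    · rfl
    · simp only [Sum.elim_inr, Pi.add_apply]; split_ifs <;> ring
  map_smul' r v := funext fun j => by
    rcases j with i | j
    · rfl
    · simp only [Sum.elim_inr, Pi.smul_apply, smul_eq_mul, RingHom.id_apply]; split_ifs <;> ring

/-- The reflection in the anisotropic plane: `(z₀, z₁) ↦ (z₀ + a z₁, z₁)`. -/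
def refl2 (a : F) : 𝕎 →ₗ[F] 𝕎 where
  toFun v := Sum.elim (fun i => v (.inl i))
    (fun j => if j = 0 then v (.inr 0) + a * v (.inr 1) else v (.inr j))
  map_add' u v := funext fun j => by
    rcases j with i | j
    · rfl
    · simp only [Sum.elim_inr, Pi.add_apply]; split_ifs <;> ring
  map_smul' r v := funext fun j => by
    rcases j with i | j
    · rfl
    · simp only [Sum.elim_inr, Pi.smul_apply, smul_eq_mul, RingHom.id_apply]; split_ifs <;> ring

theorem permMat_commute_refl2 (π : Fin n ⊕ Fin n → Fin n ⊕ Fin n) :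
    Commute (InvolTwoCount.permMat (Sum.map π id)) (LinearMap.toMatrix' (refl2 (n := n) a)) := by
  refine Matrix.mulVec_injective (funext fun v => ?_)
  rw [← Matrix.mulVec_mulVec, ← Matrix.mulVec_mulVec, InvolTwoCount.permMat_mulVec,
    InvolTwoCount.permMat_mulVec, LinearMap.toMatrix'_mulVec, LinearMap.toMatrix'_mulVec]
  funext j
  rcases j with i | j <;> rfl

theorem exists_of_involution (M : Matrix J J F) (hM : M * M = 1)
    (hQ : ∀ v, quadFormMinus n F a b (M *ᵥ v) = quadFormMinus n F a b v) :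
    ∃ g : ↥(isometryGroup F (quadFormMinus n F a b)), (g.1 : Matrix J J F) = M :=
  ⟨⟨⟨M, M, hM, hM⟩, fun u _ => hQ u⟩, rfl⟩

theorem exists_swapRep {k : ℕ} (hk1 : 1 ≤ k) (hk : k ≤ n + 1)
    (hab : ∀ z₁ z₂ : F, z₁ ^ 2 + a * z₁ * z₂ + b * z₂ ^ 2 = 0 → z₁ = 0 ∧ z₂ = 0) :
    ∃ g : ↥(isometryGroup F (quadFormMinus n F a b)), (g.1 : Matrix J J F) * g.1 = 1 ∧
      ((g.1 : Matrix J J F) - 1).rank = k ∧
        (∃ v, quadFormMinus n F a b ((g.1 : Matrix J J F) *ᵥ v - v) ≠ 0) ∧
        Commute (g.1 : Matrix J J F) (LinearMap.toMatrix' (refl2 a)) := by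
  classical
  have ha : a ≠ 0 := by
    intro ha
    have h := disc_ne_zero hab
    apply h
    rw [ha, show (4 : F) = 2 * 2 by norm_num, CharTwo.two_eq_zero]
    ring
  have hne1 : (1 : F) ≠ 0 := one_ne_zero
  rcases (show k ≤ n ∨ k = n + 1 by omega) with hkn | rfl
  · have hinv : Function.Involutive (swapRep (n := n) k) := by
      rintro (i | j) <;> simp [swapRep, InvolTwoCount.swapXY_involutive k _]
    obtain ⟨g, hg⟩ := exists_of_involution (a := a) (b := b) (InvolTwoCount.permMat (swapRep k))
      (InvolTwoCount.permMat_mul_self hinv) fun v => by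
        rw [InvolTwoCount.permMat_mulVec]
        show (∑ i : Fin n, _) + _ = (∑ i : Fin n, _) + _
        congr 1
        refine Finset.sum_congr rfl fun i _ => ?_
        by_cases h : i.val < k <;> simp [swapRep, InvolTwoCount.swapXY, h, mul_comm]
    refine ⟨g, by rw [hg]; exact InvolTwoCount.permMat_mul_self hinv, ?_, ?_,
      by rw [hg]; exact permMat_commute_refl2 _⟩
    · rw [hg, InvolTwoCount.rank_permMat_sub_one hinv
        (fun i => ∃ j : Fin n, j.val < k ∧ i = .inl (.inl j))]
      · refine Eq.trans ?_ (Fintype.card_fin k)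
        refine (Fintype.card_congr (Equiv.ofBijective
          (fun j : Fin k => (⟨.inl (.inl (j.castLE hkn)), j.castLE hkn, j.2, rfl⟩ :
            {i : J // ∃ j : Fin n, j.val < k ∧ i = .inl (.inl j)}))
          ⟨fun a b e => by simpa using congrArg Subtype.val e, ?_⟩)).symm
        rintro ⟨_, j, hj, rfl⟩
        exact ⟨⟨j.val, hj⟩, rfl⟩
      · rintro _ ⟨j, hj, rfl⟩ ⟨j', -, h⟩
        simp [swapRep, InvolTwoCount.swapXY, hj] at h
      · rintro ((i | i) | j) h
        · by_cases hi : i.val < k
          · exact Or.inl ⟨i, hi, rfl⟩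
          · exact absurd (by simp [swapRep, InvolTwoCount.swapXY, hi]) h
        · by_cases hi : i.val < k
          · exact Or.inr ⟨i, hi, by simp [swapRep, InvolTwoCount.swapXY, hi]⟩
          · exact absurd (by simp [swapRep, InvolTwoCount.swapXY, hi]) h
        · simp [swapRep] at h
    · refine ⟨Pi.single (.inl (.inl ⟨0, by omega⟩)) 1, ?_⟩
      rw [hg, InvolTwoCount.permMat_mulVec, quadFormMinus, Finset.sum_eq_single ⟨0, by omega⟩]
      · simp [swapRep, InvolTwoCount.swapXY, show 0 < k by omega]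
      · intro i _ hi
        have hi' : i ≠ (⟨0, by omega⟩ : Fin n) := hi
        by_cases hik : i.val < k <;> simp [swapRep, InvolTwoCount.swapXY, hik, hi']
      · simp
  · have hsq : ∀ v : 𝕎, lastRep a (lastRep a v) = v := fun v => funext fun j => by
      rcases j with i | j
      · exact congrArg (fun x => v (.inl x)) (InvolTwoCount.swapXY_involutive n i)
      · fin_cases j <;> simp [lastRep, add_assoc, CharTwo.add_self_eq_zero]
    have hM : LinearMap.toMatrix' (lastRep (n := n) a) * LinearMap.toMatrix' (lastRep a) = 1 := by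
      rw [← LinearMap.toMatrix'_comp, ← LinearMap.toMatrix'_id]
      exact congrArg _ (LinearMap.ext hsq)
    have hmv : ∀ v, LinearMap.toMatrix' (lastRep (n := n) a) *ᵥ v = lastRep a v := fun v => by
      rw [LinearMap.toMatrix'_mulVec]
    obtain ⟨g, hg⟩ := exists_of_involution (a := a) (b := b) _ hM fun v => by
      rw [hmv]
      show (∑ i : Fin n, _) + _ = (∑ i : Fin n, _) + _
      congr 1
      · exact Finset.sum_congr rfl fun i _ => by simp [lastRep, InvolTwoCount.swapXY, mul_comm]
      · simp only [lastRep, LinearMap.coe_mk, AddHom.coe_mk, Sum.elim_inr, if_true]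
        rw [if_neg (show ¬ (1 : Fin 2) = 0 by decide)]
        linear_combination (v (.inr 0) * a * v (.inr 1) + a ^ 2 * v (.inr 1) ^ 2) * CharTwo.two_eq_zero (R := F)
    have hcomm : Commute (LinearMap.toMatrix' (lastRep (n := n) a)) (LinearMap.toMatrix' (refl2 a)) := by
      rw [Commute, SemiconjBy, ← LinearMap.toMatrix'_comp, ← LinearMap.toMatrix'_comp]
      congr 1
    refine ⟨g, by rw [hg]; exact hM, ?_, ⟨Pi.single (.inr 1) 1, ?_⟩, by rw [hg]; exact hcomm⟩
    · rw [hg]
      show finrank F (LinearMap.range (LinearMap.toMatrix' (lastRep (n := n) a) - 1).mulVecLin) = n + 1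
      set N := (LinearMap.toMatrix' (lastRep (n := n) a) - 1).mulVecLin with hN
      have hNv : ∀ v, N v = lastRep a v - v := fun v => by simp [hN, Matrix.sub_mulVec, hmv]
      let Φ : 𝕎 →ₗ[F] (Fin n ⊕ Unit → F) :=
        (LinearMap.funLeft F F (Sum.map (fun i : Fin n => Sum.inl i) (fun _ => (0 : Fin 2)))) ∘ₗ N
      have hker : LinearMap.ker Φ = LinearMap.ker N := by
        ext v
        simp only [LinearMap.mem_ker, Φ, LinearMap.comp_apply]
        refine ⟨fun h0 => funext fun j => ?_, fun h0 => by rw [h0, map_zero]⟩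
        have h1 : ∀ i, N v (.inl (.inl i)) = 0 := fun i => congrFun h0 (.inl i)
        have h2 : N v (.inr 0) = 0 := congrFun h0 (.inr ())
        rcases j with (i | i) | j
        · exact h1 i
        · have := h1 i
          simp [hNv, lastRep, InvolTwoCount.swapXY] at this ⊢
          linear_combination -this
        · fin_cases j
          · exact h2
          · simp [hNv, lastRep]
      have hsurj : Function.Surjective Φ := by
        intro y
        refine ⟨Sum.elim (Sum.elim 0 fun i => y (.inl i)) (fun j => if j = 1 then a⁻¹ * y (.inr ()) else 0), ?_⟩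
        funext r
        rcases r with i | u
        · simp [Φ, hNv, lastRep, InvolTwoCount.swapXY, LinearMap.funLeft_apply]
        · simp [Φ, hNv, lastRep, LinearMap.funLeft_apply, ha]
      have h1 := Φ.finrank_range_add_finrank_ker
      rw [LinearMap.range_eq_top.2 hsurj, finrank_top, hker, Module.finrank_fintype_fun_eq_card] at h1
      have h2 := N.finrank_range_add_finrank_ker
      simp only [Fintype.card_sum, Fintype.card_fin, Fintype.card_unit] at h1
      omega
    · rw [hg, hmv, quadFormMinus, Finset.sum_eq_zero fun i _ => by simp [lastRep, InvolTwoCount.swapXY]]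
      simp [lastRep, ha]

theorem exists_pairRep {k : ℕ} (hk : 2 * k ≤ n) :
    ∃ g : ↥(isometryGroup F (quadFormMinus n F a b)), (g.1 : Matrix J J F) * g.1 = 1 ∧
      ((g.1 : Matrix J J F) - 1).rank = k + k ∧
        (∀ v, quadFormMinus n F a b ((g.1 : Matrix J J F) *ᵥ v - v) = 0) ∧
        Commute (g.1 : Matrix J J F) (LinearMap.toMatrix' (refl2 a)) := by
  classical
  have hinv : Function.Involutive (pairRep hk) := by
    rintro (i | j) <;> simp [pairRep, InvolTwoCount.swapPairs_involutive hk _]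
  obtain ⟨g, hg⟩ := exists_of_involution (a := a) (b := b) (InvolTwoCount.permMat (pairRep hk))
    (InvolTwoCount.permMat_mul_self hinv) fun v => by
      rw [InvolTwoCount.permMat_mulVec]
      show (∑ i : Fin n, _) + _ = (∑ i : Fin n, _) + _
      congr 1
      exact Fintype.sum_equiv (InvolTwoCount.nbr_involutive hk).toPerm _ _ fun i => rfl
  refine ⟨g, by rw [hg]; exact InvolTwoCount.permMat_mul_self hinv, ?_, fun v => ?_,
    by rw [hg]; exact permMat_commute_refl2 _⟩
  · rw [hg, InvolTwoCount.rank_permMat_sub_one hinv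
      (fun i => Sum.elim (fun x => (Sum.elim id id x).val < 2 * k ∧ (Sum.elim id id x).val % 2 = 0)
        (fun _ => False) i)]
    · have e : {i : J // Sum.elim (fun x => (Sum.elim id id x).val < 2 * k ∧ (Sum.elim id id x).val % 2 = 0)
          (fun _ => False) i} ≃ Fin k ⊕ Fin k :=
        { toFun := fun i => match i with
            | ⟨.inl (.inl j), h⟩ => .inl ⟨j.val / 2, by simp only [Sum.elim_inl, id] at h; omega⟩
            | ⟨.inl (.inr j), h⟩ => .inr ⟨j.val / 2, by simp only [Sum.elim_inl, Sum.elim_inr, id] at h; omega⟩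
            | ⟨.inr j, h⟩ => False.elim h
          invFun := Sum.elim
            (fun j => ⟨.inl (.inl ⟨2 * j.val, by omega⟩), by simp only [Sum.elim_inl, id]; omega⟩)
            fun j => ⟨.inl (.inr ⟨2 * j.val, by omega⟩), by simp only [Sum.elim_inl, Sum.elim_inr, id]; omega⟩
          left_inv := by
            rintro ⟨(j | j) | j, h⟩
            · simp only [Sum.elim_inl, id] at h
              refine Subtype.ext ?_
              simp only [Sum.elim_inl, Sum.inl.injEq]
              exact Fin.ext (by dsimp only; omega)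
            · simp only [Sum.elim_inl, Sum.elim_inr, id] at h
              refine Subtype.ext ?_
              simp only [Sum.elim_inr, Sum.inl.injEq, Sum.inr.injEq]
              exact Fin.ext (by dsimp only; omega)
            · exact h.elim
          right_inv := by rintro (j | j) <;> simp }
      rw [Fintype.card_congr e, Fintype.card_sum, Fintype.card_fin]
    · rintro ((i | i) | j) <;> simp only [pairRep, InvolTwoCount.swapPairs, Sum.map_inl, Sum.map_inr,
        Sum.elim_inl, Sum.elim_inr, id, InvolTwoCount.nbr_val]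
      · intro h h'; split_ifs at h' <;> omega
      · intro h h'; split_ifs at h' <;> omega
      · exact fun h => h.elim
    · rintro ((i | i) | j) h
      · simp only [pairRep, InvolTwoCount.swapPairs, Sum.map_inl, Sum.map_inr, ne_eq, Sum.inl.injEq,
          Fin.ext_iff, InvolTwoCount.nbr_val, Sum.elim_inl, id] at h ⊢
        split_ifs at h ⊢ <;> omega
      · simp only [pairRep, InvolTwoCount.swapPairs, Sum.map_inl, Sum.map_inr, ne_eq, Sum.inl.injEq,
          Sum.inr.injEq, Fin.ext_iff, InvolTwoCount.nbr_val, Sum.elim_inl, Sum.elim_inr, id] at h ⊢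
        split_ifs at h ⊢ <;> omega
      · simp [pairRep] at h
  · rw [hg, InvolTwoCount.permMat_mulVec, quadFormMinus]
    set σ := InvolTwoCount.nbr hk
    have hσ : ∀ i, σ (σ i) = i := InvolTwoCount.nbr_involutive hk
    have h1 : ∀ f g : Fin n → F, ∑ i, f (σ i) * g (σ i) = ∑ i, f i * g i := fun f g =>
      Fintype.sum_equiv (InvolTwoCount.nbr_involutive hk).toPerm _ _ fun i => rfl
    have h2 : ∑ i, v (.inl (.inl (σ i))) * v (.inl (.inr i)) = ∑ i, v (.inl (.inl i)) * v (.inl (.inr (σ i))) := by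
      refine Fintype.sum_equiv (InvolTwoCount.nbr_involutive hk).toPerm _ _ fun i => ?_
      show v (.inl (.inl (σ i))) * v (.inl (.inr i)) = v (.inl (.inl (σ i))) * v (.inl (.inr (σ (σ i))))
      rw [hσ]
    show (∑ i : Fin n, (v (.inl (.inl (σ i))) - v (.inl (.inl i))) *
      (v (.inl (.inr (σ i))) - v (.inl (.inr i)))) + _ = 0
    simp only [sub_mul, mul_sub, Finset.sum_sub_distrib, Pi.sub_apply, Function.comp_apply, pairRep,
      Sum.map_inr, id, sub_self]
    rw [h1 (fun i => v (.inl (.inl i))) (fun i => v (.inl (.inr i))), h2]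
    linear_combination ((∑ i, v (.inl (.inl i)) * v (.inl (.inr i))) -
      (∑ i, v (.inl (.inl i)) * v (.inl (.inr (σ i))))) * CharTwo.two_eq_zero (R := F)

/-- The classes of involutions in minus type, with representatives commuting with `refl2`. -/
theorem exists_classes (hab : ∀ z₁ z₂ : F, z₁ ^ 2 + a * z₁ * z₂ + b * z₂ ^ 2 = 0 → z₁ = 0 ∧ z₂ = 0) :
    ∃ rep : Fin (n + 1) ⊕ Fin (n / 2) → ↥(isometryGroup F (quadFormMinus n F a b)),
      (∀ x, orderOf (rep x) = 2) ∧
      (∀ x, (((rep x).1 : Matrix J J F) - 1).rank =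
        Sum.elim (fun i : Fin (n + 1) => i.val + 1) (fun j : Fin (n / 2) => (j.val + 1) + (j.val + 1)) x) ∧
      (∀ x, Commute ((rep x).1 : Matrix J J F) (LinearMap.toMatrix' (refl2 a))) ∧
      (∀ x y, IsConj (rep x) (rep y) → x = y) ∧
      ∀ g, orderOf g = 2 → ∃ x, IsConj (rep x) g := by
  classical
  obtain ⟨c⟩ := exists_coords (n := n) hab
  haveI : Fact (Nat.Prime 2) := ⟨Nat.prime_two⟩
  choose s hs1 hs2 hs3 hs4 using fun i : Fin (n + 1) =>
    exists_swapRep (a := a) (b := b) (n := n) (k := i.val + 1) (by omega) (by omega) hab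
  choose p hp1 hp2 hp3 hp4 using fun j : Fin (n / 2) =>
    exists_pairRep (F := F) (a := a) (b := b) (n := n) (k := j.val + 1) (by omega)
  let rep : Fin (n + 1) ⊕ Fin (n / 2) → ↥(isometryGroup F (quadFormMinus n F a b)) := Sum.elim s p
  have hsq : ∀ g : ↥(isometryGroup F (quadFormMinus n F a b)), (g.1 : Matrix J J F) * g.1 = 1 →
      c.toMat g * c.toMat g = 1 := fun g hg => by
    have : g * g = 1 := Subtype.ext (Units.ext hg)
    rw [← map_mul, this, map_one]
  have hrsq : ∀ x, c.toMat (rep x) * c.toMat (rep x) = 1 := by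
    rintro (i | j)
    exacts [hsq _ (hs1 i), hsq _ (hp1 j)]
  have hrank : ∀ x, (c.toMat (rep x) - 1).rank =
      Sum.elim (fun i : Fin (n + 1) => i.val + 1) (fun j : Fin (n / 2) => (j.val + 1) + (j.val + 1)) x := by
    intro x
    rw [c.rank_toMat]
    rcases x with i | j
    exacts [hs2 i, hp2 j]
  have htype : ∀ x, (∀ v, form (c.toMat (rep x)) v v = 0) ↔ x.isRight = true := by
    rintro (i | j)
    · simp only [Sum.isRight_inl, Bool.false_eq_true, iff_false]
      intro h
      obtain ⟨v, hv⟩ := hs3 i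
      exact hv (by rw [← c.form_self_toMat]; exact h _)
    · simp only [Sum.isRight_inr, iff_true]
      intro v
      rw [← c.L.apply_symm_apply v, c.form_self_toMat]
      exact hp3 j _
  have hord : ∀ x, orderOf (rep x) = 2 := fun x => by
    refine orderOf_eq_prime (c.toMat_injective (by rw [pow_two, map_mul, hrsq, map_one])) fun e => ?_
    have h := hrank x
    rw [e, map_one, sub_self, Matrix.rank_zero] at h
    rcases x with i | j <;> simp only [Sum.elim_inl, Sum.elim_inr] at h <;> omega
  refine ⟨rep, hord, fun x => by rw [← c.rank_toMat]; exact hrank x, ?_, fun x y hc => ?_, fun g hg => ?_⟩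
  · rintro (i | j)
    exacts [hs4 i, hp4 j]
  · obtain ⟨hr, ht⟩ := InvolTwoCount.conj_invariant c.toMat c.toMat_mem hc
    have ht' := (InvolTwoCount.conj_invariant c.toMat c.toMat_mem hc.symm).2
    have hiso : x.isRight = true ↔ y.isRight = true := by
      rw [← htype, ← htype]; exact ⟨ht, ht'⟩
    rw [hrank, hrank] at hr
    rcases x with i | j <;> rcases y with i' | j' <;> simp at hiso hr ⊢ <;> exact Fin.ext (by omega)
  · have hg2 : c.toMat g * c.toMat g = 1 := by
      have := pow_orderOf_eq_one g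
      rw [hg, pow_two] at this
      rw [← map_mul, this, map_one]
    have hg1 : c.toMat g ≠ 1 := fun e => by
      rw [c.toMat_injective (e.trans (map_one _).symm), orderOf_one] at hg
      omega
    have h1 := InvolTwoCount.one_le_rank hg1
    have h2 := InvolTwoCount.rank_le hg2
    by_cases ht : ∀ v, form (c.toMat g) v v = 0
    · obtain ⟨j, hj⟩ := even_rank (c.toMat_mem g) hg2 ht
      have hlt : (c.toMat g - 1).rank ≤ n := by
        -- a singular half would arise
        by_contra hlt
        refine c.no_half hab ⟨LinearMap.range (nil (c.toMat g)), ?_, ?_⟩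
        · show (c.toMat g - 1).rank = n + 1
          omega
        · rintro _ ⟨v, rfl⟩
          rw [OrthTwoMinus.q_nil c.Q_polar (c.toMat_isom g)]
          exact ht v
      refine ⟨.inr ⟨j - 1, by omega⟩, c.exists_conj hab _ _ (hrsq _) hg2 ?_ ?_⟩
      · rw [hrank, Sum.elim_inr]; dsimp only; omega
      · rw [htype]; exact iff_of_true rfl ht
    · refine ⟨.inl ⟨(c.toMat g - 1).rank - 1, by omega⟩, c.exists_conj hab _ _ (hrsq _) hg2 ?_ ?_⟩
      · rw [hrank, Sum.elim_inl]; dsimp only; omega
      · rw [htype]; exact iff_of_false (by simp) ht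

/-- Counting classes of involutions in minus type. -/
theorem card_classes (hab : ∀ z₁ z₂ : F, z₁ ^ 2 + a * z₁ * z₂ + b * z₂ ^ 2 = 0 → z₁ = 0 ∧ z₂ = 0) :
    Nat.card {C : ConjClasses ↥(isometryGroup F (quadFormMinus n F a b)) //
      ∃ g, ConjClasses.mk g = C ∧ orderOf g = 2} = n + 1 + n / 2 := by
  obtain ⟨rep, hord, -, -, hne, hex⟩ := exists_classes (n := n) hab
  rw [InvolTwoCount.card_of_classes rep hord hne hex, Nat.card_sum, Nat.card_fin, Nat.card_fin]

end Cfsg.Agent.Forms.MinusTwo
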