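/-
Classes of involutions in the groups `Omega` of plus and minus type in characteristic two.
-/
import Cfsg.Agent.Lib.Forms.MinusTwo
import Cfsg.Agent.Lib.ClassicalSimple.DicksonRank
import Cfsg.Agent.Lib.QForm.Levi

set_option autoImplicit false
set_option linter.unusedSectionVars false
set_option linter.style.haveILetI false

namespace Cfsg.Agent.Forms.OmegaTwoClasses

open scoped Matrix
open Module (finrank)

/-- Classes of involutions of a subgroup of index at most two. -/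
theorem card_classes_index_two {G : Type*} [Group G] (N : Subgroup G) [N.Normal]
    (hpar : ∀ x y : G, x ∉ N → y ∉ N → x * y ∈ N) {ι : Type*} [Finite ι] (r : ι → G)
    (hord : ∀ i, orderOf (r i) = 2) (hne : ∀ i j, IsConj (r i) (r j) → i = j)
    (hex : ∀ g, orderOf g = 2 → ∃ i, IsConj (r i) g) (split : ι → Prop)
    (hsplit : ∀ i, split i → r i ∈ N ∧ ∀ c, Commute c (r i) → c ∈ N)
    (hnon : ∀ i, r i ∈ N → ¬ split i → ∃ c, c ∉ N ∧ Commute c (r i)) (u : G) (hu : u ∉ N) :
    Nat.card {C : ConjClasses ↥N // ∃ g : ↥N, ConjClasses.mk g = C ∧ orderOf g = 2} =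
      Nat.card {i // r i ∈ N} + Nat.card {i // split i} := by
  classical
  have hordN : ∀ g : ↥N, orderOf g = orderOf (g : G) := fun g => (Subgroup.orderOf_coe g).symm
  have hordc : ∀ (x g : G), orderOf g = 2 → orderOf (x * g * x⁻¹) = 2 := fun x g h => by
    rw [← h]; exact (MulAut.conj x).orderOf_eq g
  let f : {i // r i ∈ N} ⊕ {i // split i} →
      {C : ConjClasses ↥N // ∃ g : ↥N, ConjClasses.mk g = C ∧ orderOf g = 2} :=
    Sum.elim (fun i => ⟨ConjClasses.mk ⟨r i.1, i.2⟩, _, rfl, by rw [hordN]; exact hord _⟩)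
      fun i => ⟨ConjClasses.mk ⟨u * r i.1 * u⁻¹,
          (inferInstance : N.Normal).conj_mem _ (hsplit _ i.2).1 u⟩, _, rfl, by
        rw [hordN]; exact hordc _ _ (hord _)⟩
  have hlift : ∀ {x y : ↥N}, IsConj x y → ∃ w ∈ N, w * (x : G) * w⁻¹ = y := fun h => by
    obtain ⟨w, hw⟩ := isConj_iff.1 h
    exact ⟨w, w.2, congrArg Subtype.val hw⟩
  -- the two classes inside a split class are different
  have hdiff : ∀ (i j : ι), split j → ∀ w ∈ N, w * r i * w⁻¹ = u * r j * u⁻¹ → False := by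
    intro i j hj w hw h
    have hij : i = j := hne i j (isConj_iff.2 ⟨u⁻¹ * w, by
      rw [mul_inv_rev, inv_inv]
      calc u⁻¹ * w * r i * (w⁻¹ * u) = u⁻¹ * (w * r i * w⁻¹) * u := by group
        _ = r j := by rw [h]; group⟩)
    subst hij
    have hc : Commute (u⁻¹ * w) (r i) := by
      show u⁻¹ * w * r i = r i * (u⁻¹ * w)
      calc u⁻¹ * w * r i = u⁻¹ * (w * r i * w⁻¹) * w := by group
        _ = r i * (u⁻¹ * w) := by rw [h]; group
    have := N.mul_mem ((hsplit i hj).2 _ hc) (N.inv_mem hw)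
    rw [mul_inv_cancel_right, inv_mem_iff] at this
    exact hu this
  refine (Nat.card_congr (Equiv.ofBijective f ⟨?_, ?_⟩)).symm.trans Nat.card_sum
  · rintro (i | i) (j | j) h <;>
      obtain ⟨w, hw, he⟩ := hlift (ConjClasses.mk_eq_mk_iff_isConj.1 (congrArg Subtype.val h))
    · exact congrArg Sum.inl (Subtype.ext (hne _ _ (isConj_iff.2 ⟨w, he⟩)))
    · exact (hdiff _ _ j.2 w hw he).elim
    · refine (hdiff j.1 i.1 i.2 w⁻¹ (N.inv_mem hw) ?_).elim
      change w * (u * r i.1 * u⁻¹) * w⁻¹ = r j.1 at he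
      show w⁻¹ * r j.1 * w⁻¹⁻¹ = _
      rw [← he]; group
    · refine congrArg Sum.inr (Subtype.ext (hne _ _ (isConj_iff.2 ⟨u⁻¹ * w * u, ?_⟩)))
      change w * (u * r i.1 * u⁻¹) * w⁻¹ = u * r j.1 * u⁻¹ at he
      calc u⁻¹ * w * u * r i.1 * (u⁻¹ * w * u)⁻¹ = u⁻¹ * (w * (u * r i.1 * u⁻¹) * w⁻¹) * u := by group
        _ = r j.1 := by rw [he]; group
  · rintro ⟨C, g, rfl, hg⟩
    rw [hordN] at hg
    obtain ⟨i, hi⟩ := hex _ hg
    obtain ⟨x, hx⟩ := isConj_iff.1 hi
    have hri : r i ∈ N := by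
      have := (inferInstance : N.Normal).conj_mem _ g.2 x⁻¹
      rwa [← hx, show x⁻¹ * (x * r i * x⁻¹) * x⁻¹⁻¹ = r i by group] at this
    by_cases hxN : x ∈ N
    · exact ⟨.inl ⟨i, hri⟩, Subtype.ext (ConjClasses.mk_eq_mk_iff_isConj.2
        (isConj_iff.2 ⟨⟨x, hxN⟩, Subtype.ext hx⟩))⟩
    by_cases hs : split i
    · have hxu : x * u⁻¹ ∈ N := hpar _ _ hxN (by rwa [inv_mem_iff])
      refine ⟨.inr ⟨i, hs⟩, Subtype.ext (ConjClasses.mk_eq_mk_iff_isConj.2
        (isConj_iff.2 ⟨⟨x * u⁻¹, hxu⟩, Subtype.ext ?_⟩))⟩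
      show x * u⁻¹ * (u * r i * u⁻¹) * (x * u⁻¹)⁻¹ = g
      rw [← hx]; group
    · obtain ⟨c, hc, hcr⟩ := hnon i hri hs
      refine ⟨.inl ⟨i, hri⟩, Subtype.ext (ConjClasses.mk_eq_mk_iff_isConj.2
        (isConj_iff.2 ⟨⟨x * c, hpar _ _ hxN hc⟩, Subtype.ext ?_⟩))⟩
      show x * c * r i * (x * c)⁻¹ = g
      rw [mul_assoc x c (r i), hcr.eq, ← hx]; group

/-- Even ranks among the two kinds of representatives. -/
theorem card_even_rank (p q : ℕ) :
    Nat.card {x : Fin p ⊕ Fin q //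
      Even (Sum.elim (fun i : Fin p => i.val + 1) (fun j : Fin q => (j.val + 1) + (j.val + 1)) x)} = p / 2 + q := by
  refine Eq.trans ?_ (show Nat.card (Fin (p / 2) ⊕ Fin q) = p / 2 + q by simp)
  refine Nat.card_congr (Equiv.symm (Equiv.ofBijective
    (fun y => Sum.elim (fun i : Fin (p / 2) => (⟨.inl ⟨2 * i.val + 1, by omega⟩, ⟨i.val + 1, by dsimp only [Sum.elim_inl]; omega⟩⟩ : {x : Fin p ⊕ Fin q //
      Even (Sum.elim (fun i : Fin p => i.val + 1) (fun j : Fin q => (j.val + 1) + (j.val + 1)) x)}))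
      (fun j => ⟨.inr j, by simp⟩) y) ⟨?_, ?_⟩))
  · rintro (i | i) (j | j) h <;> replace h := congrArg Subtype.val h <;>
      simp [Fin.ext_iff] at h ⊢ <;> omega
  · rintro ⟨i | j, h⟩
    · simp only [Sum.elim_inl, Nat.even_iff] at h
      exact ⟨.inl ⟨i.val / 2, by omega⟩, Subtype.ext (congrArg Sum.inl (Fin.ext (by dsimp only; omega)))⟩
    · exact ⟨.inr j, rfl⟩

section Criteria

variable {F : Type*} [Field F] [Fintype F] [CharP F 2] {ι : Type} [Fintype ι] [DecidableEq ι]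

/-- `Omega` is the subgroup of even rank, and has index at most two. -/
theorem omega_criteria (Q : QuadraticForm F (ι → F)) (f : (ι → F) → F) (hf : f = ⇑Q)
    (hQ : (QuadraticMap.polarBilin Q).Nondegenerate) (h : Fintype.card F ≠ 2 ∨ Fintype.card ι ≠ 4) :
    (∀ g : ↥(isometryGroup F f), g ∈ Omega F f ↔ Even ((g.1 : Matrix ι ι F) - 1).rank) ∧
      ∀ c d : ↥(isometryGroup F f), c ∉ Omega F f → d ∉ Omega F f → c * d ∈ Omega F f := by
  classical
  subst hf
  refine ⟨fun g => ClassicalSimple.mem_omega_iff_even_rank Q hQ h g, fun c d hc hd => ?_⟩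
  obtain ⟨vs, hvs, hg⟩ := QForm.exists_list hQ h c
  obtain ⟨ws, hws, hg'⟩ := QForm.exists_list hQ h d
  rw [QForm.mem_omega_iff_even hQ h c vs hvs hg] at hc
  rw [QForm.mem_omega_iff_even hQ h d ws hws hg'] at hd
  refine QForm.mem_omega_of_even hQ _ (vs ++ ws) (List.forall_mem_append.2 ⟨hvs, hws⟩) ?_ ?_
  · rw [List.map_append, List.prod_append, ← hg, ← hg']; rfl
  · rw [List.length_append, Nat.even_add]; exact iff_of_false hc hd

/-- The centraliser of an involution with totally singular half-dimensional image is in `Omega`. -/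
theorem mem_omega_of_commute (Q : QuadraticForm F (ι → F)) (f : (ι → F) → F) (hf : f = ⇑Q)
    (hQ : (QuadraticMap.polarBilin Q).Nondegenerate) (h : Fintype.card F ≠ 2 ∨ Fintype.card ι ≠ 4)
    {m : ℕ} (hV : finrank F (ι → F) = 2 * m) {p c : ↥(isometryGroup F f)}
    (hp : ∀ v, f ((p.1 : Matrix ι ι F) *ᵥ v - v) = 0) (hr : ((p.1 : Matrix ι ι F) - 1).rank = m)
    (hc : Commute c p) : c ∈ Omega F f := by
  classical
  subst hf
  set U := LinearMap.range ((p.1 : Matrix ι ι F) - 1).mulVecLin with hUdef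
  have hU : QForm.TotallySingular Q U := by
    rintro _ ⟨v, rfl⟩
    rw [Matrix.mulVecLin_apply, Matrix.sub_mulVec, Matrix.one_mulVec]
    exact hp v
  have hUm : finrank F U = m := hr
  refine (QForm.family_iff_omega hQ hV h hU hUm c).1 ?_
  have hle : QForm.image c U ≤ U := by
    rintro _ ⟨_, ⟨v, rfl⟩, rfl⟩
    refine ⟨(c.1 : Matrix ι ι F) *ᵥ v, ?_⟩
    have hcm : (c.1 : Matrix ι ι F) * p.1 = p.1 * c.1 :=
      congrArg (fun x : ↥(isometryGroup F ⇑Q) => (x.1 : Matrix ι ι F)) hc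
    simp only [Matrix.mulVecLin_apply, Matrix.mulVec_mulVec, sub_mul, mul_sub, hcm, one_mul, mul_one]
  rw [Submodule.eq_of_le_of_finrank_eq hle (QForm.finrank_image c U), inf_idem, hUm, Nat.sub_self]
  exact Even.zero

/-- Membership of a conjugating element by the meet of the two singular images. -/
theorem omega_iff_inter (Q : QuadraticForm F (ι → F)) (f : (ι → F) → F) (hf : f = ⇑Q)
    (hQ : (QuadraticMap.polarBilin Q).Nondegenerate) (h : Fintype.card F ≠ 2 ∨ Fintype.card ι ≠ 4)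
    {m : ℕ} (hV : finrank F (ι → F) = 2 * m) (hm : Even m) {t s g : ↥(isometryGroup F f)}
    (ht : ∀ v, f ((t.1 : Matrix ι ι F) *ᵥ v - v) = 0) (hr : ((t.1 : Matrix ι ι F) - 1).rank = m)
    (hg : g * t * g⁻¹ = s) :
    g ∈ Omega F f ↔ Even (finrank F ↥(LinearMap.range (Matrix.toLin' ((t.1 : Matrix ι ι F) - 1)) ⊓
      LinearMap.range (Matrix.toLin' ((s.1 : Matrix ι ι F) - 1)))) := by
  classical
  subst hf
  simp only [Matrix.toLin'_apply']
  set U := LinearMap.range ((t.1 : Matrix ι ι F) - 1).mulVecLin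
  have hU : QForm.TotallySingular Q U := by
    rintro _ ⟨v, rfl⟩
    rw [Matrix.mulVecLin_apply, Matrix.sub_mulVec, Matrix.one_mulVec]
    exact ht v
  have he : (s.1 : Matrix ι ι F) * g.1 = g.1 * t.1 :=
    congrArg (fun x : ↥(isometryGroup F ⇑Q) => (x.1 : Matrix ι ι F)) (mul_inv_eq_iff_eq_mul.1 hg).symm
  have hsurj : Function.Surjective (g.1 : Matrix ι ι F).mulVecLin :=
    Matrix.mulVec_surjective_iff_isUnit.2 g.1.isUnit
  have himg : QForm.image g U = LinearMap.range ((s.1 : Matrix ι ι F) - 1).mulVecLin := by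
    rw [QForm.image, show U = LinearMap.range ((t.1 : Matrix ι ι F) - 1).mulVecLin from rfl,
      ← LinearMap.range_comp, ← Matrix.mulVecLin_mul,
      ← LinearMap.range_comp_of_range_eq_top ((s.1 : Matrix ι ι F) - 1).mulVecLin
        (LinearMap.range_eq_top.2 hsurj), ← Matrix.mulVecLin_mul, sub_mul, one_mul, he, mul_sub, mul_one]
  rw [← QForm.family_iff_omega hQ hV h hU hr g, himg]
  have hle : finrank F ↥(U ⊓ LinearMap.range ((s.1 : Matrix ι ι F) - 1).mulVecLin) ≤ m :=
    (Submodule.finrank_mono inf_le_left).trans_eq hr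
  rw [Nat.even_sub hle]
  exact ⟨fun h' => h'.1 hm, fun h' => iff_of_true hm h'⟩

end Criteria

section Plus

variable {F : Type*} [Field F] [Fintype F] [CharP F 2] {m : ℕ}

local notation "I" => Fin m ⊕ Fin m

open InvolTwoCount (permMat)

theorem permMat_commute {ι : Type*} [Fintype ι] [DecidableEq ι] {π σ : ι → ι} (h : π ∘ σ = σ ∘ π) :
    Commute (permMat π : Matrix ι ι F) (permMat σ) := by
  refine Matrix.mulVec_injective (funext fun v => ?_)
  simp only [← Matrix.mulVec_mulVec, InvolTwoCount.permMat_mulVec, Function.comp_assoc, h]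

theorem swapXY_comm (k l : ℕ) :
    InvolTwoCount.swapXY (m := m) k ∘ InvolTwoCount.swapXY l =
      InvolTwoCount.swapXY l ∘ InvolTwoCount.swapXY k := by
  funext t
  rcases t with t | t <;> by_cases h1 : t.val < k <;> by_cases h2 : t.val < l <;>
    simp [InvolTwoCount.swapXY, h1, h2]

/-- Swap `x_i` and `y_i`. -/
def swapAt (i : Fin m) : I → I := Equiv.swap (Sum.inl i) (Sum.inr i)

theorem swapAt_involutive (i : Fin m) : Function.Involutive (swapAt i) := fun x => by simp [swapAt]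

theorem rank_swapAt (i : Fin m) : ((permMat (swapAt i) : Matrix I I F) - 1).rank = 1 := by
  rw [InvolTwoCount.rank_permMat_sub_one (swapAt_involutive i) (fun x => x = .inl i)]
  · simp
  · rintro _ rfl; simp [swapAt]
  · intro x hx
    by_cases h1 : x = .inl i
    · exact Or.inl h1
    by_cases h2 : x = .inr i
    · exact Or.inr (by simp [swapAt, h2])
    exact absurd (by simp [swapAt, Equiv.swap_apply_of_ne_of_ne h1 h2]) hx

theorem quad_swapAt (i : Fin m) (v : I → F) :
    quadFormPlus m F ((permMat (swapAt i) : Matrix I I F) *ᵥ v) = quadFormPlus m F v := by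
  rw [InvolTwoCount.permMat_mulVec]
  refine Finset.sum_congr rfl fun j _ => ?_
  by_cases h : j = i
  · subst h; simp [swapAt, mul_comm]
  · simp [swapAt, Equiv.swap_apply_of_ne_of_ne, h]

/-- Representatives of the involutions of plus type, with odd elements centralising all but the split class. -/
theorem exists_plus_reps (hm : 1 ≤ m) (h : Fintype.card F ≠ 2 ∨ m ≠ 2) :
    ∃ rep : Fin m ⊕ Fin (m / 2) → ↥(isometryGroup F (quadFormPlus m F)),
      (∀ x, orderOf (rep x) = 2) ∧ (∀ x y, IsConj (rep x) (rep y) → x = y) ∧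
      (∀ g, orderOf g = 2 → ∃ x, IsConj (rep x) g) ∧
      (∀ x, (((rep x).1 : Matrix I I F) - 1).rank =
        Sum.elim (fun i : Fin m => i.val + 1) (fun j : Fin (m / 2) => (j.val + 1) + (j.val + 1)) x) ∧
      (∀ j v, quadFormPlus m F (((rep (.inr j)).1 : Matrix I I F) *ᵥ v - v) = 0) ∧
      (∃ u, u ∉ Omega F (quadFormPlus m F)) ∧
      ∀ x, ¬ (∃ j : Fin (m / 2), x = .inr j ∧ 2 * (j.val + 1) = m) →
        ∃ c, c ∉ Omega F (quadFormPlus m F) ∧ Commute c (rep x) := by
  classical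
  have hh : Fintype.card F ≠ 2 ∨ Fintype.card I ≠ 4 := h.imp_right fun hne => by simp; omega
  have hf : quadFormPlus m F = ⇑(QForm.plusForm F m) := (QForm.coe_plusForm F m).symm
  obtain ⟨hiff, hpar⟩ := omega_criteria _ _ hf (QForm.plusForm_nondegenerate F m) hh
  have hQ : ∀ (x : ↥(isometryGroup F (quadFormPlus m F))) (v : I → F),
      quadPlus m F ((x.1 : Matrix I I F) *ᵥ v) = quadPlus m F v := fun x v => by
    rw [quadPlus_apply, quadPlus_apply]; exact x.2 v 0
  have hmk : ∀ (π : I → I), Function.Involutive π →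
      (∀ v, quadFormPlus m F ((permMat π : Matrix I I F) *ᵥ v) = quadFormPlus m F v) →
      ∃ g : ↥(isometryGroup F (quadFormPlus m F)), (g.1 : Matrix I I F) = permMat π :=
    fun π hπ hq => ⟨⟨⟨_, _, InvolTwoCount.permMat_mul_self hπ, InvolTwoCount.permMat_mul_self hπ⟩,
      fun u _ => hq u⟩, rfl⟩
  obtain ⟨rep, hrl, hrr, hord, hrank, hne, hex⟩ := InvolTwoCount.exists_classes hm
    ((Units.coeHom (Matrix I I F)).comp (isometryGroup F (quadFormPlus m F)).subtype)
    (fun _ _ h => Subtype.ext (Units.ext h)) (fun g => OrthTwo.mem_symp_of_isom (hQ g))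
    (fun a b ha hb hr ht => by
      obtain ⟨c, hc⟩ := OrthTwo.exists_conj_orth (OrthTwo.mem_symp_of_isom (hQ a)) ha (hQ a) hm
        (OrthTwo.mem_symp_of_isom (hQ b)) hb (hQ b) hr ht
      exact isConj_iff.2 ⟨c, mul_inv_eq_iff_eq_mul.2 (Subtype.ext (Units.ext hc))⟩)
    (fun k => hmk _ (InvolTwoCount.swapXY_involutive k) fun v => by
      simpa only [quadPlus_apply] using InvolTwoCount.quad_swapXY k v)
    (fun k hk => hmk _ (InvolTwoCount.swapPairs_involutive hk) fun v => by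
      simpa only [quadPlus_apply] using InvolTwoCount.quad_swapPairs hk v)
  simp only [MonoidHom.coe_comp, Subgroup.coe_subtype, Function.comp_apply, Units.coeHom_apply] at hrl hrr hrank
  have hodd : ∀ i : Fin m, ∃ c : ↥(isometryGroup F (quadFormPlus m F)),
      (c.1 : Matrix I I F) = permMat (swapAt i) ∧ c ∉ Omega F (quadFormPlus m F) := fun i => by
    obtain ⟨c, hc⟩ := hmk _ (swapAt_involutive i) (quad_swapAt i)
    refine ⟨c, hc, ?_⟩
    rw [hiff, hc, rank_swapAt]
    exact Nat.not_even_one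
  have hu : rep (.inl ⟨0, hm⟩) ∉ Omega F (quadFormPlus m F) := by
    rw [hiff, hrank]; exact Nat.not_even_one
  have hsymp : ∀ (x : ↥(isometryGroup F (quadFormPlus m F))) (v : I → F),
      quadFormPlus m F ((x.1 : Matrix I I F) *ᵥ v - v) = SympTwo.form (x.1 : Matrix I I F) v v := fun x v => by
    rw [← OrthTwo.q_nil (hQ x), quadPlus_apply, SympTwo.nil_apply]
  refine ⟨rep, hord, hne, hex, hrank, fun j v => ?_, ⟨_, hu⟩, fun x hx => ?_⟩
  · rw [hsymp, hrr]; exact InvolTwoCount.swapPairs_alt _ v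
  · rcases x with i | j
    · refine ⟨_, hu, Subtype.ext (Units.ext ?_)⟩
      show ((rep (.inl ⟨0, hm⟩)).1 : Matrix I I F) * (rep (.inl i)).1 = (rep (.inl i)).1 * (rep (.inl ⟨0, hm⟩)).1
      rw [hrl, hrl]
      exact permMat_commute (swapXY_comm _ _)
    · have hj : 2 * (j.val + 1) < m := by
        have : 2 * (j.val + 1) ≠ m := fun e => hx ⟨j, rfl, e⟩
        omega
      obtain ⟨c, hc, hcn⟩ := hodd ⟨m - 1, by omega⟩
      refine ⟨c, hcn, Subtype.ext (Units.ext ?_)⟩
      show (c.1 : Matrix I I F) * (rep (.inr j)).1 = (rep (.inr j)).1 * c.1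
      rw [hc, hrr]
      refine permMat_commute (funext fun t => ?_)
      have hfix : InvolTwoCount.nbr (k := j.val + 1) (m := m) (by omega) ⟨m - 1, by omega⟩ = ⟨m - 1, by omega⟩ :=
        Fin.ext (by rw [InvolTwoCount.nbr_val, if_neg (by dsimp only; omega)])
      rcases t with t | t <;> by_cases h0 : t = ⟨m - 1, by omega⟩
      · subst h0; simp [swapAt, InvolTwoCount.swapPairs, hfix]
      · have h1 : InvolTwoCount.nbr (k := j.val + 1) (by omega) t ≠ ⟨m - 1, by omega⟩ := fun e => h0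
          ((InvolTwoCount.nbr_involutive (m := m) (k := j.val + 1) (by omega)).injective (e.trans hfix.symm))
        simp [swapAt, InvolTwoCount.swapPairs, Equiv.swap_apply_of_ne_of_ne, h0, h1]
      · subst h0; simp [swapAt, InvolTwoCount.swapPairs, hfix]
      · have h1 : InvolTwoCount.nbr (k := j.val + 1) (by omega) t ≠ ⟨m - 1, by omega⟩ := fun e => h0
          ((InvolTwoCount.nbr_involutive (m := m) (k := j.val + 1) (by omega)).injective (e.trans hfix.symm))
        simp [swapAt, InvolTwoCount.swapPairs, Equiv.swap_apply_of_ne_of_ne, h0, h1]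

theorem card_omega_plus (hm : 1 ≤ m) (h : Fintype.card F ≠ 2 ∨ m ≠ 2) :
    Nat.card {C : ConjClasses ↥(Omega F (quadFormPlus m F)) //
      ∃ g : ↥(Omega F (quadFormPlus m F)), ConjClasses.mk g = C ∧ orderOf g = 2} =
      2 * (m / 2) + (if Even m then 1 else 0) := by
  classical
  have hh : Fintype.card F ≠ 2 ∨ Fintype.card I ≠ 4 := h.imp_right fun hne => by simp; omega
  have hf : quadFormPlus m F = ⇑(QForm.plusForm F m) := (QForm.coe_plusForm F m).symm
  obtain ⟨hiff, hpar⟩ := omega_criteria _ _ hf (QForm.plusForm_nondegenerate F m) hh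
  obtain ⟨rep, hord, hne, hex, hrank, halt, ⟨u, hu⟩, hnon⟩ := exists_plus_reps (F := F) hm h
  rw [card_classes_index_two (Omega F (quadFormPlus m F)) hpar rep hord hne hex
    (fun x => ∃ j : Fin (m / 2), x = .inr j ∧ 2 * (j.val + 1) = m) ?_ (fun x _ hx => hnon x hx) u hu]
  · rw [show Nat.card {x // rep x ∈ Omega F (quadFormPlus m F)} = m / 2 + m / 2 from ?_,
      show Nat.card {x : Fin m ⊕ Fin (m / 2) // ∃ j : Fin (m / 2), x = .inr j ∧ 2 * (j.val + 1) = m} =
        (if Even m then 1 else 0) from ?_, two_mul]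
    · split_ifs with he
      · rw [Nat.even_iff] at he
        rw [Nat.card_eq_one_iff_unique]
        refine ⟨⟨?_⟩, ⟨⟨.inr ⟨m / 2 - 1, by omega⟩, _, rfl, by dsimp only; omega⟩⟩⟩
        rintro ⟨_, j, rfl, hj⟩ ⟨_, j', rfl, hj'⟩
        exact Subtype.ext (congrArg Sum.inr (Fin.ext (by omega)))
      · rw [Nat.card_eq_zero]
        refine Or.inl ⟨?_⟩
        rintro ⟨_, j, -, hj⟩
        exact he ⟨j.val + 1, by omega⟩
    · refine Eq.trans ?_ (card_even_rank m (m / 2))
      exact Nat.card_congr (Equiv.subtypeEquivRight fun x => by rw [hiff, hrank])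
  · rintro _ ⟨j, rfl, hj⟩
    refine ⟨by rw [hiff, hrank]; exact ⟨j.val + 1, rfl⟩, fun c hc => ?_⟩
    refine mem_omega_of_commute _ _ hf (QForm.plusForm_nondegenerate F m) hh (m := m)
      (QForm.finrank_plus F m) (p := rep (.inr j)) (fun v => ?_) ?_ hc
    · exact halt j v
    · rw [hrank, Sum.elim_inr]; omega

/-- Conjugation respects rank and type. -/
theorem rank_alt_of_conj {ι : Type} [Fintype ι] [DecidableEq ι] {f : (ι → F) → F}
    {r t w : ↥(isometryGroup F f)} (hw : w * r * w⁻¹ = t) :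
    ((t.1 : Matrix ι ι F) - 1).rank = ((r.1 : Matrix ι ι F) - 1).rank ∧
      ((∀ v, f ((r.1 : Matrix ι ι F) *ᵥ v - v) = 0) → ∀ v, f ((t.1 : Matrix ι ι F) *ᵥ v - v) = 0) := by
  have he : (t.1 : Matrix ι ι F) * w.1 = w.1 * r.1 :=
    congrArg (fun x : ↥(isometryGroup F f) => (x.1 : Matrix ι ι F)) (mul_inv_eq_iff_eq_mul.1 hw).symm
  have hu : IsUnit (w.1 : Matrix ι ι F).det := (Matrix.isUnit_iff_isUnit_det _).1 w.1.isUnit
  refine ⟨?_, fun h v => ?_⟩
  · rw [← Matrix.rank_mul_eq_left_of_isUnit_det (w.1 : Matrix ι ι F) ((t.1 : Matrix ι ι F) - 1) hu,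
      sub_mul, one_mul, he, ← mul_one (w.1 : Matrix ι ι F), mul_assoc, one_mul, ← mul_sub,
      Matrix.rank_mul_eq_right_of_isUnit_det _ _ hu]
  · obtain ⟨v, rfl⟩ : ∃ u, (w.1 : Matrix ι ι F) *ᵥ u = v :=
      ⟨((w⁻¹).1 : Matrix ι ι F) *ᵥ v, by
        rw [Matrix.mulVec_mulVec]
        rw [show (w.1 : Matrix ι ι F) * (w⁻¹).1 = 1 from
          congrArg (fun x : ↥(isometryGroup F f) => (x.1 : Matrix ι ι F)) (mul_inv_cancel w), Matrix.one_mulVec]⟩
    rw [Matrix.mulVec_mulVec, he, ← Matrix.mulVec_mulVec, ← Matrix.mulVec_sub]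
    exact (w.2 _ 0).trans (h v)

/-- An involution of plus type outside the split class has an odd element in its centraliser. -/
theorem exists_odd_commute_plus (hm : 1 ≤ m) (h : Fintype.card F ≠ 2 ∨ m ≠ 2)
    (t : ↥(isometryGroup F (quadFormPlus m F))) (ht : orderOf t = 2)
    (hns : ¬ (((t.1 : Matrix I I F) - 1).rank = m ∧ ∀ v, quadFormPlus m F ((t.1 : Matrix I I F) *ᵥ v - v) = 0)) :
    ∃ c, c ∉ Omega F (quadFormPlus m F) ∧ Commute c t := by
  obtain ⟨rep, -, -, hex, hrank, halt, -, hnon⟩ := exists_plus_reps (F := F) hm h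
  obtain ⟨x, hx⟩ := hex t ht
  obtain ⟨w, hw⟩ := isConj_iff.1 hx
  obtain ⟨c, hc, hcx⟩ := hnon x (by
    rintro ⟨j, rfl, hj⟩
    obtain ⟨hr, ha⟩ := rank_alt_of_conj hw
    refine hns ⟨?_, ha (halt j)⟩
    rw [hr, hrank, Sum.elim_inr]; omega)
  refine ⟨w * c * w⁻¹, fun hmem => hc ?_, by rw [← hw]; exact hcx.map (MulAut.conj w).toMonoidHom⟩
  have := (inferInstance : (Omega F (quadFormPlus m F)).Normal).conj_mem _ hmem w⁻¹
  rwa [show w⁻¹ * (w * c * w⁻¹) * w⁻¹⁻¹ = c by group] at this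

end Plus

section Minus

open MinusTwo

variable {F : Type*} [Field F] [Fintype F] [CharP F 2] {n : ℕ} {a b : F}

local notation "J" => (Fin n ⊕ Fin n) ⊕ Fin 2

theorem exists_refl2 (hab : ∀ z₁ z₂ : F, z₁ ^ 2 + a * z₁ * z₂ + b * z₂ ^ 2 = 0 → z₁ = 0 ∧ z₂ = 0) :
    ∃ c : ↥(isometryGroup F (quadFormMinus n F a b)),
      (c.1 : Matrix J J F) = LinearMap.toMatrix' (refl2 a) ∧ ((c.1 : Matrix J J F) - 1).rank = 1 := by
  classical
  have ha : a ≠ 0 := by
    intro ha
    have h := disc_ne_zero hab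
    apply h
    rw [ha, show (4 : F) = 2 * 2 by norm_num, CharTwo.two_eq_zero]
    ring
  have hsq : ∀ v : J → F, refl2 a (refl2 a v) = v := fun v => funext fun j => by
    rcases j with i | j
    · rfl
    · fin_cases j <;> simp [refl2, add_assoc, CharTwo.add_self_eq_zero]
  have hM : LinearMap.toMatrix' (refl2 (n := n) a) * LinearMap.toMatrix' (refl2 a) = 1 := by
    rw [← LinearMap.toMatrix'_comp, ← LinearMap.toMatrix'_id]
    exact congrArg _ (LinearMap.ext hsq)
  obtain ⟨g, hg⟩ := exists_of_involution (a := a) (b := b) _ hM fun v => by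
    rw [LinearMap.toMatrix'_mulVec]
    show (∑ i : Fin n, _) + _ = (∑ i : Fin n, _) + _
    congr 1
    simp only [refl2, LinearMap.coe_mk, AddHom.coe_mk, Sum.elim_inr, if_true]
    rw [if_neg (show ¬ (1 : Fin 2) = 0 by decide)]
    linear_combination (v (.inr 0) * a * v (.inr 1) + a ^ 2 * v (.inr 1) ^ 2) * CharTwo.two_eq_zero (R := F)
  refine ⟨g, hg, ?_⟩
  rw [hg]
  show finrank F (LinearMap.range (LinearMap.toMatrix' (refl2 (n := n) a) - 1).mulVecLin) = 1
  set N := (LinearMap.toMatrix' (refl2 (n := n) a) - 1).mulVecLin with hN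
  have hNv : ∀ v, N v = (a * v (.inr 1)) • Pi.single (.inr 0) 1 := fun v => funext fun j => by
    rcases j with i | j
    · simp [hN, Matrix.sub_mulVec, refl2]
    · fin_cases j <;> simp [hN, Matrix.sub_mulVec, refl2]
  have hr : LinearMap.range N = F ∙ (Pi.single (.inr 0) 1 : J → F) := by
    refine le_antisymm ?_ ((Submodule.span_singleton_le_iff_mem _ _).2 ⟨Pi.single (.inr 1) a⁻¹, ?_⟩)
    · rintro _ ⟨v, rfl⟩
      rw [hNv]
      exact Submodule.smul_mem _ _ (Submodule.mem_span_singleton_self _)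
    · rw [hNv, Pi.single_eq_same, mul_inv_cancel₀ ha, one_smul]
  rw [hr, finrank_span_singleton]
  simp

theorem card_omega_minus (hab : ∀ z₁ z₂ : F, z₁ ^ 2 + a * z₁ * z₂ + b * z₂ ^ 2 = 0 → z₁ = 0 ∧ z₂ = 0)
    (h : Fintype.card F ≠ 2 ∨ n ≠ 1) :
    Nat.card {C : ConjClasses ↥(Omega F (quadFormMinus n F a b)) //
      ∃ g : ↥(Omega F (quadFormMinus n F a b)), ConjClasses.mk g = C ∧ orderOf g = 2} =
      (n + 1) / 2 + n / 2 := by
  classical
  have hh : Fintype.card F ≠ 2 ∨ Fintype.card J ≠ 4 := h.imp_right fun hne => by simp; omega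
  have hf : quadFormMinus n F a b = ⇑(quadMinus n F a b) := funext fun v => (quadMinus_apply (F := F) v).symm
  obtain ⟨hiff, hpar⟩ := omega_criteria _ _ hf (quadMinus_nondegenerate n hab) hh
  obtain ⟨rep, hord, hrank, hcomm, hne, hex⟩ := MinusTwo.exists_classes (n := n) hab
  obtain ⟨c, hc, hc1⟩ := exists_refl2 (n := n) hab
  have hcn : c ∉ Omega F (quadFormMinus n F a b) := by
    rw [hiff, hc1]; exact Nat.not_even_one
  rw [card_classes_index_two (Omega F (quadFormMinus n F a b)) hpar rep hord hne hex (fun _ => False)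
    (fun _ h => h.elim) (fun x _ _ => ⟨c, hcn, Subtype.ext (Units.ext (by
      show (c.1 : Matrix J J F) * (rep x).1 = (rep x).1 * c.1
      rw [hc]; exact (hcomm x).eq.symm))⟩) c hcn]
  rw [show Nat.card {x : Fin (n + 1) ⊕ Fin (n / 2) // False} = 0 by simp, add_zero]
  refine Eq.trans ?_ (card_even_rank (n + 1) (n / 2))
  exact Nat.card_congr (Equiv.subtypeEquivRight fun x => by rw [hiff, hrank])

/-- Every involution of minus type has an odd element in its centraliser. -/
theorem exists_odd_commute_minus (hab : ∀ z₁ z₂ : F, z₁ ^ 2 + a * z₁ * z₂ + b * z₂ ^ 2 = 0 → z₁ = 0 ∧ z₂ = 0)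
    (h : Fintype.card F ≠ 2 ∨ n ≠ 1) (t : ↥(isometryGroup F (quadFormMinus n F a b))) (ht : orderOf t = 2) :
    ∃ c, c ∉ Omega F (quadFormMinus n F a b) ∧ Commute c t := by
  classical
  have hh : Fintype.card F ≠ 2 ∨ Fintype.card J ≠ 4 := h.imp_right fun hne => by simp; omega
  have hf : quadFormMinus n F a b = ⇑(quadMinus n F a b) := funext fun v => (quadMinus_apply (F := F) v).symm
  obtain ⟨hiff, -⟩ := omega_criteria _ _ hf (quadMinus_nondegenerate n hab) hh
  obtain ⟨rep, -, -, hcomm, -, hex⟩ := MinusTwo.exists_classes (n := n) hab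
  obtain ⟨c, hc, hc1⟩ := exists_refl2 (n := n) hab
  obtain ⟨x, hx⟩ := hex t ht
  obtain ⟨w, hw⟩ := isConj_iff.1 hx
  have hcx : Commute c (rep x) := Subtype.ext (Units.ext (by
    show (c.1 : Matrix J J F) * (rep x).1 = (rep x).1 * c.1
    rw [hc]; exact (hcomm x).eq.symm))
  refine ⟨w * c * w⁻¹, fun hmem => ?_, by rw [← hw]; exact hcx.map (MulAut.conj w).toMonoidHom⟩
  have := (inferInstance : (Omega F (quadFormMinus n F a b)).Normal).conj_mem _ hmem w⁻¹
  rw [show w⁻¹ * (w * c * w⁻¹) * w⁻¹⁻¹ = c by group, hiff, hc1] at this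
  exact Nat.not_even_one this

end Minus

/-- Conjugate elements of an index two subgroup with an odd element centralising one are conjugate in it. -/
theorem conj_in_of_odd_commute {G : Type*} [Group G] (N : Subgroup G)
    (hpar : ∀ x y : G, x ∉ N → y ∉ N → x * y ∈ N) {t s c : G} (hc : c ∉ N) (hct : Commute c t)
    (h : IsConj t s) : ∃ g ∈ N, g * t * g⁻¹ = s := by
  obtain ⟨g, hg⟩ := isConj_iff.1 h
  by_cases hgN : g ∈ N
  · exact ⟨g, hgN, hg⟩
  · refine ⟨g * c, hpar _ _ hgN hc, ?_⟩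
    rw [mul_assoc g c t, hct.eq, ← hg]; group

end Cfsg.Agent.Forms.OmegaTwoClasses
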