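/-
Area Forms: the index of Omega in the orthogonal group on any index type, the centre of Omega and the order of
POmega in dimension at least five.
-/
import Cfsg.Agent.Lib.ClassicalSimple.OrthMatrix
import Cfsg.Agent.Lib.Forms.QuadOrder
import Cfsg.Agent.S0788
import Cfsg.Agent.S0789

set_option autoImplicit false

namespace Cfsg.Agent.Forms

open scoped Matrix

/-- Isomorphic groups have commutator subgroups of the same index. -/
theorem index_commutator_congr {G H : Type*} [Group G] [Group H] (e : G ≃* H) :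
    (commutator G).index = (commutator H).index := by
  rw [← ClassicalSimple.map_commutator_top e]
  exact (Subgroup.index_map_equiv (commutator G) e).symm

section Index

variable {F : Type*} [Field F] {ι : Type} [Fintype ι] [DecidableEq ι] (Q : QuadraticForm F (ι → F))

/-- The form in coordinates indexed by `Fin`. -/
noncomputable def finForm : QuadraticForm F (Fin (Fintype.card ι) → F) :=
  Q.comp (LinearEquiv.funCongrLeft F F (Fintype.equivFin ι)).toLinearMap

theorem finForm_apply (w : Fin (Fintype.card ι) → F) :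
    finForm Q w = Q (LinearEquiv.funCongrLeft F F (Fintype.equivFin ι) w) := rfl

theorem finForm_nondegenerate (hQ : (QuadraticMap.polarBilin Q).Nondegenerate) :
    (QuadraticMap.polarBilin (finForm Q)).Nondegenerate :=
  polar_nondegenerate_of_equiv (LinearEquiv.funCongrLeft F F (Fintype.equivFin ι)) (fun _ => rfl) hQ

/-- The orthogonal group in coordinates indexed by `Fin`. -/
noncomputable def finIsometryEquiv :
    isometryGroup F ⇑Q ≃* isometryGroup F ⇑(finForm Q) :=
  (isometryGroupEquiv ⇑Q).trans
    ((isomCongr (f := fun u _ => Q u)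
        (f' := fun (w _ : Fin (Fintype.card ι) → F) => finForm Q w)
        (LinearEquiv.funCongrLeft F F (Fintype.equivFin ι)).symm
        (fun u _ => congrArg Q ((LinearEquiv.funCongrLeft F F (Fintype.equivFin ι)).apply_symm_apply u))).trans
      (isometryGroupEquiv ⇑(finForm Q)).symm)

theorem omega_index_fin : (Omega F ⇑Q).index = (Omega F ⇑(finForm Q)).index := by
  exact index_commutator_congr (finIsometryEquiv Q)

variable [Fintype F]

theorem omega_index_odd (h2 : (2 : F) ≠ 0) (hQ : (QuadraticMap.polarBilin Q).Nondegenerate)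
    (hn : 2 ≤ Fintype.card ι) : (Omega F ⇑Q).index = 4 := by
  rw [omega_index_fin]
  exact S0788.result h2 hn _ (finForm_nondegenerate Q hQ)

theorem omega_index_even [CharP F 2] (hQ : (QuadraticMap.polarBilin Q).Nondegenerate)
    (hn : 2 ≤ Fintype.card ι) (h : Fintype.card F ≠ 2 ∨ Fintype.card ι ≠ 4) : (Omega F ⇑Q).index = 2 := by
  rw [omega_index_fin]
  exact S0789.result hn _ (finForm_nondegenerate Q hQ) h

/-- The central elements of Omega are `±1`. -/
theorem omega_center_matrix (hQ : (QuadraticMap.polarBilin Q).Nondegenerate) (h5 : 5 ≤ Fintype.card ι)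
    (g : Omega F ⇑Q) (hg : g ∈ Subgroup.center (Omega F ⇑Q)) :
    ∃ a : F, a * a = 1 ∧
      ((g.1 : Matrix.GeneralLinearGroup ι F) : Matrix ι ι F) = a • (1 : Matrix ι ι F) := by
  have hN := ClassicalSimple.bil_nondegenerate Q hQ
  have h5' : 5 ≤ Module.finrank F (ι → F) := by rwa [Module.finrank_fintype_fun_eq_card]
  let e : Omega F ⇑Q ≃* ClassicalSimple.siegelGroup Q :=
    ((ClassicalSimple.isometryEquiv Q).subgroupMap _).trans
      (MulEquiv.subgroupCongr ((ClassicalSimple.map_commutator_top (ClassicalSimple.isometryEquiv Q)).trans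
        (ClassicalSimple.commutator_eq_siegelGroup hN h5')))
  have hc : e g ∈ Subgroup.center _ := by
    rw [← ClassicalSimple.center_map_equiv e]
    exact Subgroup.mem_map_of_mem e.toMonoidHom hg
  obtain ⟨a, ha, hga⟩ := (ClassicalSimple.siegel_mem_center_iff hN h5' (e g)).1 hc
  refine ⟨a, ha, Matrix.ext_of_mulVec_single fun i => ?_⟩
  rw [Matrix.smul_mulVec, Matrix.one_mulVec, ← ClassicalSimple.isometryEquiv_smul]
  exact hga _

theorem omega_center_card_one (hQ : (QuadraticMap.polarBilin Q).Nondegenerate) (h5 : 5 ≤ Fintype.card ι)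
    (h : ∀ g : isometryGroup F ⇑Q, g ∈ Omega F ⇑Q →
      ((g : Matrix.GeneralLinearGroup ι F) : Matrix ι ι F) = -1 → g = 1) :
    Nat.card (Subgroup.center (Omega F ⇑Q)) = 1 := by
  refine Subgroup.card_eq_one.2 ((Subgroup.eq_bot_iff_forall _).2 fun g hg => ?_)
  obtain ⟨a, ha, hga⟩ := omega_center_matrix Q hQ h5 g hg
  rcases mul_self_eq_one_iff.1 ha with rfl | rfl
  · rw [one_smul] at hga
    exact Subtype.ext (Subtype.ext (Units.ext hga))
  · rw [neg_smul, one_smul] at hga
    exact Subtype.ext (h g.1 g.2 hga)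

theorem omega_center_card_two (h2 : (2 : F) ≠ 0) (hQ : (QuadraticMap.polarBilin Q).Nondegenerate)
    (h5 : 5 ≤ Fintype.card ι) (g₀ : isometryGroup F ⇑Q) (hg₀ : g₀ ∈ Omega F ⇑Q)
    (hval : ((g₀ : Matrix.GeneralLinearGroup ι F) : Matrix ι ι F) = -1) :
    Nat.card (Subgroup.center (Omega F ⇑Q)) = 2 := by
  have hmem : (⟨g₀, hg₀⟩ : Omega F ⇑Q) ∈ Subgroup.center (Omega F ⇑Q) := by
    refine Subgroup.mem_center_iff.2 fun x => Subtype.ext (Subtype.ext (Units.ext ?_))
    show ((x.1 : Matrix.GeneralLinearGroup ι F) : Matrix ι ι F) * _ = _ * ((x.1 : Matrix.GeneralLinearGroup ι F) : Matrix ι ι F)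
    rw [hval, mul_neg, mul_one, neg_mul, one_mul]
  refine Nat.card_eq_two_iff.2 ⟨1, ⟨_, hmem⟩, ?_, Set.eq_univ_of_forall fun x => ?_⟩
  · intro h
    have h' := congrArg (fun z : Subgroup.center (Omega F ⇑Q) =>
      ((z.1.1 : Matrix.GeneralLinearGroup ι F) : Matrix ι ι F)) h
    obtain ⟨i⟩ : Nonempty ι := Fintype.card_pos_iff.1 (by omega)
    have h'' : (1 : Matrix ι ι F) i i = (-1 : Matrix ι ι F) i i := by
      rw [← hval]
      exact congrFun (congrFun h' i) i
    simp at h''
    exact h2 (by linear_combination h'')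
  · obtain ⟨a, ha, hga⟩ := omega_center_matrix Q hQ h5 x.1 x.2
    rcases mul_self_eq_one_iff.1 ha with rfl | rfl
    · rw [one_smul] at hga
      exact Or.inl (Subtype.ext (Subtype.ext (Subtype.ext (Units.ext hga))))
    · rw [neg_smul, one_smul] at hga
      exact Or.inr (Subtype.ext (Subtype.ext (Subtype.ext (Units.ext (hga.trans hval.symm)))))

/-- Omega, its index and its centre determine the order of POmega. -/
theorem card_pomega {i c : ℕ} (hi : (Omega F ⇑Q).index = i)
    (hc : Nat.card (Subgroup.center (Omega F ⇑Q)) = c) :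
    Nat.card (isometryGroup F ⇑Q) = i * c * Nat.card (POmega F ⇑Q) := by
  rw [← Subgroup.card_mul_index (Omega F ⇑Q), hi,
    Subgroup.card_eq_card_quotient_mul_card_subgroup (Subgroup.center (Omega F ⇑Q)), hc]
  ring

end Index

end Cfsg.Agent.Forms
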