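/-
Isometries `x` of a non-degenerate alternating form in odd characteristic with `x² = 1` or `x² = -1`:
adapted symplectic frames, and the resulting conjugacy statements.
-/
import Mathlib

set_option autoImplicit false

namespace Cfsg.Agent.Forms.SympInvolution

open Module (finrank)

variable {F V : Type*} [Field F] [AddCommGroup V] [Module F V]
variable (B : LinearMap.BilinForm F V)

/-- `k` orthogonal hyperbolic pairs. -/
structure IsFrame {k : ℕ} (u v : Fin k → V) : Prop where
  uv : ∀ i j, B (u i) (v j) = if i = j then 1 else 0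
  uu : ∀ i j, B (u i) (u j) = 0
  vv : ∀ i j, B (v i) (v j) = 0

/-- Projection onto the orthogonal complement of a frame. -/
def proj {k : ℕ} (u v : Fin k → V) (w : V) : V :=
  w - ∑ i, B w (v i) • u i + ∑ i, B w (u i) • v i

variable {B}

theorem alt_swap (hA : B.IsAlt) (a b : V) : B b a = -B a b := by
  exact (LinearMap.IsAlt.neg hA a b).symm

theorem IsFrame.vu (hA : B.IsAlt) {k : ℕ} {u v : Fin k → V} (h : IsFrame B u v) (i j : Fin k) :
    B (v i) (u j) = if i = j then -1 else 0 := by
  rw [alt_swap hA, h.uv]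
  by_cases hij : i = j
  · subst hij; simp
  · simp [hij, Ne.symm hij]

theorem IsFrame.proj_perp (hA : B.IsAlt) {k : ℕ} {u v : Fin k → V} (h : IsFrame B u v) (w : V)
    (i : Fin k) : B (proj B u v w) (u i) = 0 ∧ B (proj B u v w) (v i) = 0 := by
  constructor
  · simp [proj, LinearMap.map_sub₂, LinearMap.map_add₂, h.uu, h.vu hA]
  · simp [proj, LinearMap.map_sub₂, LinearMap.map_add₂, h.uv, h.vv]

theorem IsFrame.cons (hA : B.IsAlt) {k : ℕ} {u v : Fin k → V} (h : IsFrame B u v) {a b : V}
    (hab : B a b = 1) (ha : ∀ i, B a (u i) = 0 ∧ B a (v i) = 0)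
    (hb : ∀ i, B b (u i) = 0 ∧ B b (v i) = 0) :
    IsFrame B (Fin.cons a u) (Fin.cons b v) := by
  have ha' : ∀ i, B (u i) a = 0 ∧ B (v i) a = 0 := fun i =>
    ⟨hA.isRefl _ _ (ha i).1, hA.isRefl _ _ (ha i).2⟩
  have hb' : ∀ i, B (u i) b = 0 ∧ B (v i) b = 0 := fun i =>
    ⟨hA.isRefl _ _ (hb i).1, hA.isRefl _ _ (hb i).2⟩
  refine ⟨fun i j => ?_, fun i j => ?_, fun i j => ?_⟩
  · induction i using Fin.cases <;> induction j using Fin.cases <;>
      simp [hab, ha, hb', h.uv, Fin.succ_ne_zero, (Fin.succ_ne_zero _).symm]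
  · induction i using Fin.cases <;> induction j using Fin.cases <;>
      simp [hA.self_eq_zero, ha, ha', h.uu]
  · induction i using Fin.cases <;> induction j using Fin.cases <;>
      simp [hA.self_eq_zero, hb, hb', h.vv]

theorem proj_smul {k : ℕ} (u v : Fin k → V) (c : F) (w : V) :
    proj B u v (c • w) = c • proj B u v w := by
  simp [proj, smul_sub, Finset.smul_sum, smul_smul, mul_comm]

variable [FiniteDimensional F V] {m : ℕ} (hV : finrank F V = 2 * m)

theorem IsFrame.linearIndependent (hA : B.IsAlt) {k : ℕ} {u v : Fin k → V} (h : IsFrame B u v) :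
    LinearIndependent F (Sum.elim u v) := by
  rw [Fintype.linearIndependent_iff]
  intro c hc j
  rcases j with j | j
  · have := congrArg (fun w => B w (v j)) hc
    simpa [Fintype.sum_sum_type, LinearMap.map_add₂, h.uv, h.vv] using this
  · have := congrArg (fun w => B w (u j)) hc
    simpa [Fintype.sum_sum_type, LinearMap.map_add₂, h.uu, h.vu hA] using this

include hV in
theorem IsFrame.exists_proj_ne_zero {k : ℕ} (hk : k < m) (u v : Fin k → V) :
    ∃ w, proj B u v w ≠ 0 := by
  by_contra hne
  push Not at hne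
  have htop : (⊤ : Submodule F V) ≤ Submodule.span F (Set.range (Sum.elim u v)) := by
    intro w _
    have hw := hne w
    rw [proj, sub_add, sub_eq_zero] at hw
    rw [hw]
    refine sub_mem (sum_mem fun i _ => Submodule.smul_mem _ _ (Submodule.subset_span ⟨.inl i, rfl⟩))
      (sum_mem fun i _ => Submodule.smul_mem _ _ (Submodule.subset_span ⟨.inr i, rfl⟩))
  have h1 := Submodule.finrank_mono htop
  have h2 : Set.finrank F (Set.range (Sum.elim u v)) ≤ _ := finrank_range_le_card _
  rw [finrank_top, hV] at h1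
  rw [Set.finrank] at h2
  simp only [Fintype.card_sum, Fintype.card_fin] at h2
  omega

/-- The basis of a full frame. -/
noncomputable def IsFrame.basis (hA : B.IsAlt) (hV : finrank F V = 2 * m) (hm : 0 < m)
    {u v : Fin m → V} (h : IsFrame B u v) : Module.Basis (Fin m ⊕ Fin m) F V :=
  haveI : Nonempty (Fin m ⊕ Fin m) := ⟨.inl ⟨0, hm⟩⟩
  basisOfLinearIndependentOfCardEqFinrank (h.linearIndependent hA)
    (by rw [hV, Fintype.card_sum, Fintype.card_fin]; omega)

theorem IsFrame.basis_apply (hA : B.IsAlt) (hm : 0 < m) {u v : Fin m → V} (h : IsFrame B u v)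
    (i : Fin m ⊕ Fin m) : h.basis hA hV hm i = Sum.elim u v i := by
  simp [IsFrame.basis]

include hV in
/-- Two full frames with the same matrix of `x` and `y` give an isometry conjugating `x` to `y`. -/
theorem IsFrame.exists_conj (hA : B.IsAlt) (hm : 0 < m) {u v u' v' : Fin m → V}
    (h : IsFrame B u v) (h' : IsFrame B u' v') (x y : V →ₗ[F] V)
    (hxy : ∀ i, ∃ c : Fin m ⊕ Fin m → F,
      x (Sum.elim u v i) = ∑ j, c j • Sum.elim u v j ∧ y (Sum.elim u' v' i) = ∑ j, c j • Sum.elim u' v' j) :
    ∃ g : V ≃ₗ[F] V, (∀ a b, B (g a) (g b) = B a b) ∧ ∀ a, g (x a) = y (g a) := by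
  set b := h.basis hA hV hm with hb
  set b' := h'.basis hA hV hm with hb'
  set g := b.equiv b' (Equiv.refl _) with hg
  have hgi : ∀ i, g (Sum.elim u v i) = Sum.elim u' v' i := fun i => by
    rw [← h.basis_apply hV hA hm, hg, ← hb, Module.Basis.equiv_apply, hb', h'.basis_apply hV hA hm]
    rfl
  refine ⟨g, ?_, ?_⟩
  · intro a a'
    have : B.compl₁₂ g.toLinearMap g.toLinearMap = B := by
      refine b.ext fun i => b.ext fun j => ?_
      simp only [hb, h.basis_apply hV hA hm, LinearMap.compl₁₂_apply, LinearEquiv.coe_coe, hgi]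
      rcases i with i | i <;> rcases j with j | j <;>
        simp [h.uv, h'.uv, h.uu, h'.uu, h.vv, h'.vv, h.vu hA, h'.vu hA]
    exact LinearMap.congr_fun (LinearMap.congr_fun this a) a'
  · intro a
    have : g.toLinearMap.comp x = y.comp g.toLinearMap := by
      refine b.ext fun i => ?_
      obtain ⟨c, hc, hc'⟩ := hxy i
      have hgl : ∀ i, g (u i) = u' i := fun i => hgi (.inl i)
      have hgr : ∀ i, g (v i) = v' i := fun i => hgi (.inr i)
      simp [hb, h.basis_apply hV hA hm, hgi, hgl, hgr, hc, hc']
    exact LinearMap.congr_fun this a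

section Act

variable (hA : B.IsAlt) (hN : B.Nondegenerate) (h2 : (2 : F) ≠ 0) (x : V ≃ₗ[F] V)
  (hx : ∀ a b, B (x a) (x b) = B a b)

include hV hA hN h2 hx in
/-- `x² = 1`: a frame of eigenvectors, both members of a pair having the same sign. -/
theorem exists_frame_involution (hxx : ∀ a, x (x a) = a) : ∀ k, k ≤ m →
    ∃ (u v : Fin k → V) (s : Fin k → Bool), IsFrame B u v ∧
      ∀ i, x (u i) = (if s i then (1 : F) else -1) • u i ∧ x (v i) = (if s i then (1 : F) else -1) • v i := by
  intro k
  induction k with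
  | zero =>
    exact fun _ => ⟨Fin.elim0, Fin.elim0, Fin.elim0,
      ⟨fun i => i.elim0, fun i => i.elim0, fun i => i.elim0⟩, fun i => i.elim0⟩
  | succ k ih =>
    intro hk
    obtain ⟨u, v, s, hf, hs⟩ := ih (Nat.le_of_succ_le hk)
    obtain ⟨w, hw⟩ := IsFrame.exists_proj_ne_zero (B := B) hV hk u v
    -- the projection commutes with `x`
    have hss : ∀ i, (if s i then (1 : F) else -1) * (if s i then (1 : F) else -1) = 1 := fun i => by
      split <;> simp
    have hsw : ∀ (i : Fin k) (a : V), x (u i) = (if s i then (1 : F) else -1) • u i →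
        B (x a) (u i) = (if s i then (1 : F) else -1) * B a (u i) := by
      intro i a hi
      have := hx a (u i)
      rw [hi, map_smul, smul_eq_mul] at this
      rw [← this, ← mul_assoc, hss, one_mul]
    have hsw' : ∀ (i : Fin k) (a : V),
        B (x a) (v i) = (if s i then (1 : F) else -1) * B a (v i) := by
      intro i a
      have := hx a (v i)
      rw [(hs i).2, map_smul, smul_eq_mul] at this
      rw [← this, ← mul_assoc, hss, one_mul]
    have hcomm : ∀ a, x (proj B u v a) = proj B u v (x a) := by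
      intro a
      simp only [proj, map_add, map_sub, map_sum, map_smul, hsw', fun i => hsw i a (hs i).1,
        fun i => (hs i).1, fun i => (hs i).2, smul_smul]
      congr 1
      · refine congrArg _ (Finset.sum_congr rfl fun i _ => by rw [mul_comm])
      · exact Finset.sum_congr rfl fun i _ => by rw [mul_comm]
    -- an eigenvector in the complement
    obtain ⟨e, t, he, hperp, hte⟩ : ∃ (e : V) (t : Bool), e ≠ 0 ∧
        (∀ i, B e (u i) = 0 ∧ B e (v i) = 0) ∧ x e = (if t then (1 : F) else -1) • e := by
      by_cases hp : proj B u v w + x (proj B u v w) = 0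
      · exact ⟨proj B u v w, false, hw, hf.proj_perp hA w,
          by simpa using eq_neg_of_add_eq_zero_right hp⟩
      · refine ⟨_, true, hp, fun i => ?_, ?_⟩
        · rw [hcomm]
          simp [LinearMap.map_add₂, hf.proj_perp hA w i, hf.proj_perp hA (x w) i]
        · simp [map_add, hxx, add_comm]
    set τ : F := if t then 1 else -1 with hτ
    have hττ : τ * τ = 1 := by rw [hτ]; split <;> simp
    obtain ⟨z, hz⟩ : ∃ z, B e z = 1 := by
      obtain ⟨z, hz⟩ : ∃ z, B e z ≠ 0 := by
        by_contra h0; push Not at h0; exact he (hN.1 e h0)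
      exact ⟨(B e z)⁻¹ • z, by simp [hz]⟩
    set f : V := proj B u v ((2 : F)⁻¹ • (z + τ • x z)) with hf'
    have hxf : x f = τ • f := by
      rw [hf', hcomm, map_smul, map_add, map_smul, hxx]
      have : x z + τ • z = τ • (z + τ • x z) := by rw [smul_add, smul_smul, hττ, one_smul, add_comm]
      rw [this, smul_comm, proj_smul]
    have hef : B e f = 1 := by
      have h1 : B e (x z) = τ := by
        have := hx e (x z)
        rw [hxx, hte, map_smul, LinearMap.smul_apply, hz, smul_eq_mul, mul_one] at this
        exact this.symm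
      have h3 : ∀ a, B e (proj B u v a) = B e a := fun a => by
        simp [proj, fun i => (hperp i).1, fun i => (hperp i).2]
      rw [hf', h3, map_smul, map_add, map_smul, h1, hz, smul_eq_mul, smul_eq_mul, hττ]
      field_simp
      norm_num
    refine ⟨Fin.cons e u, Fin.cons f v, Fin.cons t s,
      hf.cons hA hef hperp (fun i => hf.proj_perp hA _ i), fun i => ?_⟩
    induction i using Fin.cases with
    | zero => simp only [Fin.cons_zero]; exact ⟨hte, hxf⟩
    | succ i => simpa using hs i

include hV hA hN h2 hx in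
/-- `x² = -1` over a finite field: a frame of pairs `u, x u`. -/
theorem exists_frame_complex [Finite F] (hxx : ∀ a, x (x a) = -a) : ∀ k, k ≤ m →
    ∃ (u v : Fin k → V), IsFrame B u v ∧ ∀ i, x (u i) = v i ∧ x (v i) = -u i := by
  intro k
  induction k with
  | zero =>
    exact fun _ => ⟨Fin.elim0, Fin.elim0, ⟨fun i => i.elim0, fun i => i.elim0, fun i => i.elim0⟩,
      fun i => i.elim0⟩
  | succ k ih =>
    intro hk
    obtain ⟨u, v, hf, hs⟩ := ih (Nat.le_of_succ_le hk)
    obtain ⟨w, hw⟩ := IsFrame.exists_proj_ne_zero (B := B) hV hk u v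
    have hu : ∀ (i : Fin k) (a : V), B (x a) (u i) = -B a (v i) := by
      intro i a
      have := hx a (v i)
      rw [(hs i).2, map_neg] at this
      rw [← this, neg_neg]
    have hv : ∀ (i : Fin k) (a : V), B (x a) (v i) = B a (u i) := by
      intro i a
      have := hx a (u i)
      rw [(hs i).1] at this
      exact this
    have hcomm : ∀ a, x (proj B u v a) = proj B u v (x a) := by
      intro a
      simp only [proj, map_add, map_sub, map_sum, map_smul, hu, hv, fun i => (hs i).1,
        fun i => (hs i).2, smul_neg, neg_smul, Finset.sum_neg_distrib]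
      abel
    have hsymm : ∀ a b, B b (x a) = B a (x b) := fun a b => by
      have := hx b (x a)
      rw [hxx, map_neg, ← alt_swap hA] at this
      exact this.symm
    have hpx : ∀ a, (∀ i, B a (u i) = 0 ∧ B a (v i) = 0) →
        ∀ i, B (x a) (u i) = 0 ∧ B (x a) (v i) = 0 := fun a ha i =>
      ⟨by rw [hu, (ha i).2, neg_zero], by rw [hv, (ha i).1]⟩
    -- an anisotropic vector of `(a, b) ↦ B a (x b)` in the complement
    obtain ⟨e, he, hperp⟩ : ∃ e, B e (x e) ≠ 0 ∧ ∀ i, B e (u i) = 0 ∧ B e (v i) = 0 := by
      set p := proj B u v w with hp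
      obtain ⟨z, hz⟩ : ∃ z, B p z ≠ 0 := by
        by_contra h0; push Not at h0; exact hw (hN.1 p h0)
      have hp1 : ∀ i, B p (u i) = 0 ∧ B p (v i) = 0 := hf.proj_perp hA w
      set r := proj B u v (-(x z)) with hr
      have hpr : B p (x r) ≠ 0 := by
        have h3 : ∀ a, B p (proj B u v a) = B p a := fun a => by
          simp [proj, fun i => (hp1 i).1, fun i => (hp1 i).2]
        rw [hr, hcomm, h3, map_neg, hxx, neg_neg]
        exact hz
      by_cases h1 : B p (x p) = 0
      · by_cases h3 : B r (x r) = 0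
        · refine ⟨p + r, ?_, fun i => ?_⟩
          · simp only [map_add, LinearMap.map_add₂, LinearMap.add_apply, h1, h3, hsymm p r, zero_add, add_zero]
            intro hh
            exact mul_ne_zero h2 hpr (by linear_combination hh)
          · simp [LinearMap.map_add₂, hp, hr, hf.proj_perp hA]
        · exact ⟨r, h3, fun i => hf.proj_perp hA _ i⟩
      · exact ⟨p, h1, fun i => hf.proj_perp hA _ i⟩
    set d := B e (x e) with hd
    obtain ⟨α, β, hαβ⟩ : ∃ α β : F, α ^ 2 + β ^ 2 = d⁻¹ := by
      haveI := Fintype.ofFinite F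
      classical
      have hchar : ringChar F ≠ 2 := fun h => h2 (by
        have := ringChar.Nat.cast_ringChar (R := F); rw [h] at this; exact_mod_cast this)
      obtain ⟨α, β, h⟩ := FiniteField.exists_root_sum_quadratic
        (f := Polynomial.X ^ 2) (g := Polynomial.X ^ 2 - Polynomial.C d⁻¹)
        (Polynomial.degree_X_pow 2) (Polynomial.degree_X_pow_sub_C two_pos _)
        (Nat.odd_iff.1 (by
          rw [Nat.odd_iff]; exact FiniteField.odd_card_of_char_ne_two hchar))
      exact ⟨α, β, by simp at h; linear_combination h⟩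
    set e' := α • e + β • x e with he'
    have hperp' : ∀ i, B e' (u i) = 0 ∧ B e' (v i) = 0 := fun i => by
      simp [he', LinearMap.map_add₂, hperp i, hpx e hperp i]
    have hval : B e' (x e') = 1 := by
      have h5 : B (x e) e = -d := alt_swap hA e (x e)
      simp only [he', map_add, map_smul, hxx, LinearMap.map_add₂, LinearMap.add_apply, LinearMap.smul_apply, map_neg,
        hA.self_eq_zero, ← hd, h5, smul_eq_mul]
      have : d * (α ^ 2 + β ^ 2) = 1 := by rw [hαβ, mul_inv_cancel₀ he]
      linear_combination this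
    refine ⟨Fin.cons e' u, Fin.cons (x e') v, hf.cons hA hval hperp' (hpx e' hperp'), fun i => ?_⟩
    induction i using Fin.cases with
    | zero => simp [hxx]
    | succ i => simpa using hs i

end Act

include hV in
/-- Involutions whose frames have the same number of positive pairs are conjugate. -/
theorem exists_conj_of_frames (hA : B.IsAlt) (hm : 0 < m) (x y : V ≃ₗ[F] V) {u v u' v' : Fin m → V}
    {s s' : Fin m → Bool} (h : IsFrame B u v) (h' : IsFrame B u' v')
    (hs : ∀ i, x (u i) = (if s i then (1 : F) else -1) • u i ∧ x (v i) = (if s i then (1 : F) else -1) • v i)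
    (hs' : ∀ i, y (u' i) = (if s' i then (1 : F) else -1) • u' i ∧ y (v' i) = (if s' i then (1 : F) else -1) • v' i)
    (hcard : Fintype.card {i // s i = true} = Fintype.card {i // s' i = true}) :
    ∃ g : V ≃ₗ[F] V, (∀ a b, B (g a) (g b) = B a b) ∧ ∀ a, g (x a) = y (g a) := by
  classical
  let π : Equiv.Perm (Fin m) := (Fintype.equivOfCardEq hcard).extendSubtype
  have hπ : ∀ i, s' (π i) = s i := by
    intro i
    cases hi : s i
    · have := Equiv.extendSubtype_not_mem (Fintype.equivOfCardEq hcard) i (by simp [hi])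
      simpa using this
    · exact Equiv.extendSubtype_mem (Fintype.equivOfCardEq hcard) i hi
  have h'' : IsFrame B (u' ∘ π) (v' ∘ π) :=
    ⟨fun i j => by simp [h'.uv], fun i j => h'.uu _ _, fun i j => h'.vv _ _⟩
  refine h.exists_conj hV hA hm h'' x.toLinearMap y.toLinearMap fun i =>
    ⟨Pi.single i (Sum.elim (fun i => if s i then (1 : F) else -1)
      (fun i => if s i then (1 : F) else -1) i), ?_⟩
  rcases i with i | i <;>
    simp [Pi.single_apply, ite_smul, hs, hs', hπ]

include hV in
/-- Any two isometries with square `-1` are conjugate. -/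
theorem exists_conj_of_sq_eq_neg [Finite F] (hA : B.IsAlt) (hN : B.Nondegenerate) (h2 : (2 : F) ≠ 0)
    (hm : 0 < m) (x y : V ≃ₗ[F] V) (hx : ∀ a b, B (x a) (x b) = B a b)
    (hy : ∀ a b, B (y a) (y b) = B a b) (hxx : ∀ a, x (x a) = -a) (hyy : ∀ a, y (y a) = -a) :
    ∃ g : V ≃ₗ[F] V, (∀ a b, B (g a) (g b) = B a b) ∧ ∀ a, g (x a) = y (g a) := by
  classical
  obtain ⟨u, v, h, hs⟩ := exists_frame_complex hV hA hN h2 x hx hxx m le_rfl
  obtain ⟨u', v', h', hs'⟩ := exists_frame_complex hV hA hN h2 y hy hyy m le_rfl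
  refine h.exists_conj hV hA hm h' x.toLinearMap y.toLinearMap fun i => ⟨Sum.elim
    (fun i => Pi.single (M := fun _ => F) (Sum.inr i) 1)
    (fun i => Pi.single (M := fun _ => F) (Sum.inl i) (-1)) i, ?_⟩
  rcases i with i | i <;> simp [Pi.single_apply, ite_smul, hs, hs']

end Cfsg.Agent.Forms.SympInvolution
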