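/-
Area Forms: totally isotropic frames and subspaces of non-degenerate trace-valued epsilon-hermitian forms over a
finite field: counting, and orders of stabilisers.
-/
import Cfsg.Agent.Lib.Forms.Witt

set_option autoImplicit false

namespace Cfsg.Agent.Forms

universe uV

variable {F : Type*} [Field F] {V : Type uV} [AddCommGroup V] [Module F V] {σ : F →+* F} {ε : F}
  {B : V →ₛₗ[σ] V →ₗ[F] F}

/-- The orthogonal complement of two vectors. -/
def pairPerp (B : V →ₛₗ[σ] V →ₗ[F] F) (e f : V) : Submodule F V := LinearMap.ker (B e) ⊓ LinearMap.ker (B f)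

/-- The restriction of `B` to the complement of two vectors. -/
def pairRestrict (B : V →ₛₗ[σ] V →ₗ[F] F) (e f : V) : pairPerp B e f →ₛₗ[σ] pairPerp B e f →ₗ[F] F :=
  LinearMap.mk₂'ₛₗ σ (RingHom.id F) (fun x y => B x y)
    (fun a b c => by simp) (fun r a b => by simp [map_smulₛₗ]) (fun a b c => by simp) (fun r a b => by simp)

theorem pairRestrict_apply (e f : V) (x y : pairPerp B e f) : pairRestrict B e f x y = B x y := rfl

theorem pairPerp_left {e f : V} (x : pairPerp B e f) : B e (x : V) = 0 := (Submodule.mem_inf.1 x.2).1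

theorem pairPerp_right {e f : V} (x : pairPerp B e f) : B f (x : V) = 0 := (Submodule.mem_inf.1 x.2).2

theorem IsHermitianPolar.pair_other (hB : IsHermitianPolar σ ε B) {e f : V} (hef : B e f = 1) : B f e = ε := by
  rw [hB.swap e f, hef, map_one, mul_one]

theorem IsHermitianPolar.pair_mem (hB : IsHermitianPolar σ ε B) {e f : V} (hee : B e e = 0) (hff : B f f = 0)
    (hef : B e f = 1) (x : V) : x - (σ ε * B f x) • e - B e x • f ∈ pairPerp B e f := by
  have hfe := hB.pair_other hef
  refine Submodule.mem_inf.2 ⟨?_, ?_⟩ <;>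
    simp only [LinearMap.mem_ker, map_sub, map_smul, smul_eq_mul, hee, hff, hef, hfe]
  · ring
  · linear_combination -(B f x) * hB.eps

/-- Coordinates adapted to a hyperbolic pair. -/
noncomputable def pairSplit (hB : IsHermitianPolar σ ε B) {e f : V} (hee : B e e = 0) (hff : B f f = 0)
    (hef : B e f = 1) : V ≃ₗ[F] (F × F) × pairPerp B e f where
  toFun x := ((σ ε * B f x, B e x), ⟨_, hB.pair_mem hee hff hef x⟩)
  invFun p := p.1.1 • e + p.1.2 • f + (p.2 : V)
  map_add' x y := by
    refine Prod.ext (Prod.ext ?_ ?_) (Subtype.ext ?_)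
    · simp [mul_add]
    · simp
    · simp [mul_add, add_smul]; abel
  map_smul' r x := by
    refine Prod.ext (Prod.ext ?_ ?_) (Subtype.ext ?_)
    · simp; ring
    · simp
    · simp [smul_sub, smul_smul, mul_left_comm]
  left_inv x := by
    show (σ ε * B f x) • e + B e x • f + (x - (σ ε * B f x) • e - B e x • f) = x
    abel
  right_inv p := by
    have hfe := hB.pair_other hef
    have h1 : B e (p.1.1 • e + p.1.2 • f + (p.2 : V)) = p.1.2 := by
      simp [hee, hef, pairPerp_left p.2]
    have h2 : σ ε * B f (p.1.1 • e + p.1.2 • f + (p.2 : V)) = p.1.1 := by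
      simp [hff, hfe, pairPerp_right p.2]
      linear_combination p.1.1 * hB.eps
    refine Prod.ext (Prod.ext h2 h1) (Subtype.ext ?_)
    show (p.1.1 • e + p.1.2 • f + (p.2 : V)) - (σ ε * B f (p.1.1 • e + p.1.2 • f + (p.2 : V))) • e
      - B e (p.1.1 • e + p.1.2 • f + (p.2 : V)) • f = p.2
    rw [h1, h2]
    abel

/-- The complement of a hyperbolic pair is again non-degenerate. -/
theorem IsHermitianPolar.pairRestrict_polar (hB : IsHermitianPolar σ ε B) {e f : V} (hee : B e e = 0)
    (hff : B f f = 0) (hef : B e f = 1) : IsHermitianPolar σ ε (pairRestrict B e f) where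
  swap x y := hB.swap x y
  trace x := hB.trace x
  invol := hB.invol
  eps := hB.eps
  sep x h := by
    refine Subtype.ext (hB.sep x fun y => ?_)
    have h' : B (x : V) (y - (σ ε * B f y) • e - B e y • f) = 0 := h ⟨_, hB.pair_mem hee hff hef y⟩
    simpa [hB.eq_zero_comm (pairPerp_left x), hB.eq_zero_comm (pairPerp_right x)] using h'

theorem finrank_pairPerp [FiniteDimensional F V] (hB : IsHermitianPolar σ ε B) {e f : V} (hee : B e e = 0)
    (hff : B f f = 0) (hef : B e f = 1) :
    Module.finrank F (pairPerp B e f) = Module.finrank F V - 2 := by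
  rw [(pairSplit hB hee hff hef).finrank_eq, Module.finrank_prod, Module.finrank_prod, Module.finrank_self]
  omega

/-- An isotropic vector has an isotropic partner. -/
theorem IsHermitianPolar.exists_partner [FiniteDimensional F V] (hB : IsHermitianPolar σ ε B) {e : V}
    (he : e ≠ 0) (hee : B e e = 0) : ∃ f, B f f = 0 ∧ B e f = 1 := by
  obtain ⟨u, -, hue⟩ := hB.exists_perp (S := ⊥) (v := e) (by simpa using he)
  obtain ⟨τ, hτ⟩ := hB.trace u
  have heu : B e u = ε := by rw [hB.swap u e, hue, map_one, mul_one]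
  refine ⟨σ ε • (u - τ • e), ?_, ?_⟩
  · simp only [map_smulₛₗ, map_sub, LinearMap.sub_apply, LinearMap.smul_apply, smul_eq_mul,
      RingHom.id_apply, hee, hue, heu, hτ]
    ring
  · simp only [map_smul, map_sub, smul_eq_mul, hee, heu]
    linear_combination hB.eps

/-- Totally isotropic frames of length `k`. -/
abbrev IsoFrame (B : V →ₛₗ[σ] V →ₗ[F] F) (k : ℕ) : Type _ :=
  {v : Fin k → V // LinearIndependent F v ∧ ∀ i j, B (v i) (v j) = 0}

/-- Frames starting with `e`. -/
theorem card_frames_cons (hB : IsHermitianPolar σ ε B) {e f : V} (hee : B e e = 0) (hff : B f f = 0)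
    (hef : B e f = 1) (k : ℕ) :
    Nat.card {w : Fin k → V // LinearIndependent F (Fin.cons e w : Fin (k + 1) → V) ∧
        ∀ i j, B ((Fin.cons e w : Fin (k + 1) → V) i) ((Fin.cons e w : Fin (k + 1) → V) j) = 0}
      = Nat.card F ^ k * Nat.card (IsoFrame (pairRestrict B e f) k) := by
  let s := pairSplit hB hee hff hef
  have hfe := hB.pair_other hef
  have hdecomp : ∀ (a : F) (c : pairPerp B e f), s (a • e + (c : V)) = ((a, 0), c) := by
    intro a c
    rw [← s.eq_symm_apply]
    show a • e + (c : V) = a • e + (0 : F) • f + (c : V)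
    rw [zero_smul, add_zero]
  have hform : ∀ (a b : F) (c d : pairPerp B e f), B (a • e + (c : V)) (b • e + (d : V)) = B (c : V) d := by
    intro a b c d
    simp [hee, pairPerp_left d, hB.eq_zero_comm (pairPerp_left c)]
  have hli : ∀ (a : Fin k → F) (c : Fin k → pairPerp B e f),
      LinearIndependent F (Fin.cons e (fun i => a i • e + (c i : V)) : Fin (k + 1) → V) ↔
        LinearIndependent F c := by
    intro a c
    rw [Fintype.linearIndependent_iff, Fintype.linearIndependent_iff]
    constructor
    · intro h g hg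
      have := h (Fin.cons (- ∑ i, g i * a i) g) (by
        rw [Fin.sum_univ_succ]
        simp only [Fin.cons_zero, Fin.cons_succ, smul_add, Finset.sum_add_distrib, smul_smul, ← Finset.sum_smul]
        have hg' : (∑ i, g i • (c i : V)) = 0 := by
          have h0 := congrArg Subtype.val hg
          simpa using h0
        rw [hg', add_zero, neg_smul, neg_add_cancel])
      exact fun i => by simpa using this i.succ
    · intro h g hg
      rw [Fin.sum_univ_succ] at hg
      simp only [Fin.cons_zero, Fin.cons_succ, smul_add, Finset.sum_add_distrib, smul_smul, ← Finset.sum_smul] at hg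
      have hs := congrArg s (show (g 0 + ∑ i, g i.succ * a i) • e
          + ((∑ i, g i.succ • c i : pairPerp B e f) : V) = 0 by
        rw [add_smul, Submodule.coe_sum]
        simp only [SetLike.val_smul]
        rw [← hg]
        abel)
      rw [hdecomp, map_zero] at hs
      have h1 : g 0 + ∑ i, g i.succ * a i = 0 := congrArg (fun p => p.1.1) hs
      have h2 := h (fun i => g i.succ) (congrArg Prod.snd hs)
      refine Fin.cases ?_ h2
      simpa [h2] using h1
  have hzero : ∀ (a : Fin k → F) (c : Fin k → pairPerp B e f),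
      (∀ i j, B ((Fin.cons e (fun i => a i • e + (c i : V)) : Fin (k + 1) → V) i)
        ((Fin.cons e (fun i => a i • e + (c i : V)) : Fin (k + 1) → V) j) = 0) ↔
      ∀ i j, pairRestrict B e f (c i) (c j) = 0 := by
    intro a c
    refine ⟨fun h i j => ?_, fun h i j => ?_⟩
    · have := h i.succ j.succ
      rw [Fin.cons_succ, Fin.cons_succ, hform] at this
      exact this
    · refine Fin.cases ?_ (fun i => ?_) i <;> refine Fin.cases ?_ (fun j => ?_) j <;>
        simp only [Fin.cons_zero, Fin.cons_succ]
      · exact hee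
      · simp [hee, pairPerp_left (c j)]
      · simp [hee, hB.eq_zero_comm (pairPerp_left (c i))]
      · rw [hform]
        exact h i j
  have hback : ∀ w : {w : Fin k → V // LinearIndependent F (Fin.cons e w : Fin (k + 1) → V) ∧
      ∀ i j, B ((Fin.cons e w : Fin (k + 1) → V) i) ((Fin.cons e w : Fin (k + 1) → V) j) = 0},
      (fun i => (s (w.1 i)).1.1 • e + ((s (w.1 i)).2 : V)) = w.1 := by
    intro w
    funext i
    have h0 : B e (w.1 i) = 0 := by simpa using w.2.2 0 i.succ
    show (σ ε * B f (w.1 i)) • e + (w.1 i - (σ ε * B f (w.1 i)) • e - B e (w.1 i) • f) = w.1 i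
    rw [h0, zero_smul, sub_zero, add_sub_cancel]
  let E : {w : Fin k → V // LinearIndependent F (Fin.cons e w : Fin (k + 1) → V) ∧
      ∀ i j, B ((Fin.cons e w : Fin (k + 1) → V) i) ((Fin.cons e w : Fin (k + 1) → V) j) = 0}
      ≃ (Fin k → F) × IsoFrame (pairRestrict B e f) k :=
    { toFun := fun w => (fun i => (s (w.1 i)).1.1, ⟨fun i => (s (w.1 i)).2,
        (hli (fun i => (s (w.1 i)).1.1) _).1 (by rw [hback w]; exact w.2.1),
        (hzero (fun i => (s (w.1 i)).1.1) _).1 (by rw [hback w]; exact w.2.2)⟩)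
      invFun := fun p => ⟨fun i => p.1 i • e + (p.2.1 i : V), (hli _ _).2 p.2.2.1, (hzero _ _).2 p.2.2.2⟩
      left_inv := fun w => Subtype.ext (hback w)
      right_inv := fun p => by
        refine Prod.ext (funext fun i => ?_) (Subtype.ext (funext fun i => ?_))
        · show (s (p.1 i • e + (p.2.1 i : V))).1.1 = p.1 i
          rw [hdecomp]
        · show (s (p.1 i • e + (p.2.1 i : V))).2 = p.2.1 i
          rw [hdecomp] }
  rw [Nat.card_congr E, Nat.card_prod, Nat.card_fun, Nat.card_fin]

/-- If every non-degenerate space of dimension `n` has `J n` non-zero isotropic vectors then frames are counted by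
the recursion. -/
theorem card_isoFrame [Finite F] [FiniteDimensional F V] (hB : IsHermitianPolar σ ε B) (J : ℕ → ℕ)
    (hJ : ∀ {W : Type uV} [AddCommGroup W] [Module F W] [FiniteDimensional F W] (B' : W →ₛₗ[σ] W →ₗ[F] F),
      IsHermitianPolar σ ε B' → Nat.card {v : W // v ≠ 0 ∧ B' v v = 0} = J (Module.finrank F W))
    (k : ℕ) :
    Nat.card (IsoFrame B k) = ∏ i ∈ Finset.range k, J (Module.finrank F V - 2 * i) * Nat.card F ^ (k - 1 - i) := by
  induction k generalizing V with
  | zero =>
    haveI : Unique (IsoFrame B 0) :=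
      ⟨⟨⟨Fin.elim0, linearIndependent_empty_type, fun i => i.elim0⟩⟩,
        fun z => Subtype.ext (funext fun i => i.elim0)⟩
    simp
  | succ k ih =>
    classical
    haveI : Finite V := Module.finite_of_finite F
    haveI := Fintype.ofFinite {v : V // v ≠ 0 ∧ B v v = 0}
    let E : IsoFrame B (k + 1) ≃ Σ e : {v : V // v ≠ 0 ∧ B v v = 0},
        {w : Fin k → V // LinearIndependent F (Fin.cons e.1 w : Fin (k + 1) → V) ∧
          ∀ i j, B ((Fin.cons e.1 w : Fin (k + 1) → V) i) ((Fin.cons e.1 w : Fin (k + 1) → V) j) = 0} :=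
      { toFun := fun v => ⟨⟨v.1 0, v.2.1.ne_zero 0, v.2.2 0 0⟩, Fin.tail v.1, by
          simp only [Fin.cons_self_tail]; exact v.2⟩
        invFun := fun p => ⟨Fin.cons p.1.1 p.2.1, p.2.2⟩
        left_inv := fun v => Subtype.ext (Fin.cons_self_tail v.1)
        right_inv := fun p => rfl }
    have hfib : ∀ e : {v : V // v ≠ 0 ∧ B v v = 0},
        Nat.card {w : Fin k → V // LinearIndependent F (Fin.cons e.1 w : Fin (k + 1) → V) ∧
          ∀ i j, B ((Fin.cons e.1 w : Fin (k + 1) → V) i) ((Fin.cons e.1 w : Fin (k + 1) → V) j) = 0}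
        = Nat.card F ^ k * ∏ i ∈ Finset.range k, J (Module.finrank F V - 2 - 2 * i) * Nat.card F ^ (k - 1 - i) := by
      intro e
      obtain ⟨f, hff, hef⟩ := hB.exists_partner e.2.1 e.2.2
      rw [card_frames_cons hB e.2.2 hff hef, ih (hB.pairRestrict_polar e.2.2 hff hef),
        finrank_pairPerp hB e.2.2 hff hef]
    rw [Nat.card_congr E, Nat.card_sigma, Finset.sum_congr rfl fun e _ => hfib e, Finset.sum_const, smul_eq_mul,
      Finset.card_univ, ← Nat.card_eq_fintype_card, hJ B hB, Finset.prod_range_succ']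
    simp only [Nat.mul_zero, Nat.sub_zero, Nat.add_sub_cancel]
    have hp : ∏ i ∈ Finset.range k, J (Module.finrank F V - 2 - 2 * i) * Nat.card F ^ (k - 1 - i)
        = ∏ i ∈ Finset.range k, J (Module.finrank F V - 2 * (i + 1)) * Nat.card F ^ (k - (i + 1)) :=
      Finset.prod_congr rfl fun i _ => by
        rw [Nat.sub_sub, show 2 + 2 * i = 2 * (i + 1) by ring, show k - 1 - i = k - (i + 1) by omega]
    rw [hp]
    ring

/-- Each totally isotropic `k`-subspace has as many frames as it has bases. -/
theorem card_isoSubspace_mul [Finite F] [FiniteDimensional F V] (k : ℕ) :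
    Nat.card {W : Submodule F V // Module.finrank F W = k ∧ ∀ u ∈ W, ∀ v ∈ W, B u v = 0}
      * ∏ i : Fin k, (Nat.card F ^ k - Nat.card F ^ (i : ℕ)) = Nat.card (IsoFrame B k) := by
  classical
  haveI := Fintype.ofFinite F
  haveI : Finite V := Module.finite_of_finite F
  haveI := Fintype.ofFinite {W : Submodule F V // Module.finrank F W = k ∧ ∀ u ∈ W, ∀ v ∈ W, B u v = 0}
  let Φ : IsoFrame B k → {W : Submodule F V // Module.finrank F W = k ∧ ∀ u ∈ W, ∀ v ∈ W, B u v = 0} :=
    fun v => ⟨Submodule.span F (Set.range v.1),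
      by rw [finrank_span_eq_card v.2.1, Fintype.card_fin],
      fun a ha b hb => by
        have h1 : ∀ i, B (v.1 i) b = 0 := fun i =>
          (Submodule.span_le.2 (by rintro _ ⟨j, rfl⟩; exact v.2.2 i j) :
            Submodule.span F (Set.range v.1) ≤ LinearMap.ker (B (v.1 i))) hb
        induction ha using Submodule.span_induction with
        | mem x hx => obtain ⟨i, rfl⟩ := hx; exact h1 i
        | zero => simp
        | add x y _ _ hx hy => simp [hx, hy]
        | smul c x _ hx => simp [hx]⟩
  have hfib : ∀ W, Nat.card {v // Φ v = W} = ∏ i : Fin k, (Nat.card F ^ k - Nat.card F ^ (i : ℕ)) := by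
    intro W
    haveI := Fintype.ofFinite W.1
    have h2 : Nat.card {s : Fin k → W.1 // LinearIndependent F s}
        = ∏ i : Fin k, (Nat.card F ^ k - Nat.card F ^ (i : ℕ)) := by
      rw [card_linearIndependent (le_of_eq W.2.1.symm), Nat.card_eq_fintype_card, W.2.1]
    rw [← h2]
    refine Nat.card_congr
      { toFun := fun v => ⟨fun i => ⟨v.1.1 i, by
          have h : Submodule.span F (Set.range v.1.1) = W.1 := congrArg Subtype.val v.2
          rw [← h]
          exact Submodule.subset_span (Set.mem_range_self i)⟩, LinearIndependent.of_comp W.1.subtype v.1.2.1⟩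
        invFun := fun s => ⟨⟨fun i => (s.1 i : V), s.2.map' W.1.subtype W.1.ker_subtype,
          fun i j => W.2.2 _ (s.1 i).2 _ (s.1 j).2⟩, Subtype.ext <| by
            refine Submodule.eq_of_le_of_finrank_eq (Submodule.span_le.2 ?_) ?_
            · rintro _ ⟨i, rfl⟩
              exact (s.1 i).2
            · have hs' : LinearIndependent F fun i => (s.1 i : V) := s.2.map' W.1.subtype W.1.ker_subtype
              rw [finrank_span_eq_card hs', Fintype.card_fin, W.2.1]⟩
        left_inv := fun v => rfl
        right_inv := fun s => rfl }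
  rw [← Nat.card_congr (Equiv.sigmaFiberEquiv Φ), Nat.card_sigma, Finset.sum_congr rfl fun W _ => hfib W,
    Finset.sum_const, smul_eq_mul, Finset.card_univ, ← Nat.card_eq_fintype_card]

/-- Orbit counting for the stabiliser of a totally isotropic subspace. -/
theorem card_stab_isotropic [Finite F] [FiniteDimensional F V] (hB : IsHermitianPolar σ ε B) {k : ℕ}
    (W : Submodule F V) (hWk : Module.finrank F W = k) (hW : ∀ u ∈ W, ∀ v ∈ W, B u v = 0) :
    Nat.card {g : V ≃ₗ[F] V // g ∈ isom F (form2 B) ∧ ∀ v, v ∈ W ↔ g v ∈ W} * Nat.card (IsoFrame B k)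
      = (∏ i : Fin k, (Nat.card F ^ k - Nat.card F ^ (i : ℕ))) * Nat.card (isom F (form2 B)) := by
  classical
  haveI := Fintype.ofFinite F
  haveI : Finite V := Module.finite_of_finite F
  let b := Module.finBasisOfFinrankEq F W hWk
  let e : Fin k → V := fun i => (b i : V)
  have he : LinearIndependent F e := b.linearIndependent.map' W.subtype W.ker_subtype
  let G : Subgroup (V ≃ₗ[F] V) :=
    { carrier := {g | g ∈ isom F (form2 B) ∧ ∀ v, v ∈ W ↔ g v ∈ W}
      mul_mem' := fun {a c} ha hc => ⟨mul_mem ha.1 hc.1, fun v => (hc.2 v).trans (ha.2 (c v))⟩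
      one_mem' := ⟨one_mem _, fun v => Iff.rfl⟩
      inv_mem' := fun {a} ha => ⟨inv_mem ha.1, fun v => by
        have := ha.2 (a.symm v)
        rw [LinearEquiv.apply_symm_apply] at this
        exact this.symm⟩ }
  have hspanW : ∀ v : Fin k → V, LinearIndependent F v → (∀ i, v i ∈ W) →
      Submodule.span F (Set.range v) = W := fun v hv hvW =>
    Submodule.eq_of_le_of_finrank_eq (Submodule.span_le.2 (by rintro _ ⟨i, rfl⟩; exact hvW i))
      (by rw [finrank_span_eq_card hv, Fintype.card_fin, hWk])
  have hG := card_eq_orbit_mul_fix G e {v | LinearIndependent F v ∧ ∀ i, v i ∈ W}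
    (fun g hg => ⟨he.map' g.toLinearMap g.ker, fun i => (hg.2 _).1 (b i).2⟩)
    (by
      rintro v ⟨hv, hvW⟩
      obtain ⟨g, hg, hgv⟩ := witt_hermitian_tuple hB he hv
        (fun i j => (hW _ (hvW i) _ (hvW j)).trans (hW _ (b i).2 _ (b j).2).symm)
      have hmap : W.map (g : V →ₗ[F] V) = W := by
        conv_lhs => rw [← hspanW e he fun i => (b i).2]
        rw [Submodule.map_span, ← Set.range_comp, show (g : V →ₗ[F] V) ∘ e = v from funext hgv, hspanW v hv hvW]
      refine ⟨g, ⟨hg, fun x => ?_⟩, hgv⟩
      constructor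
      · intro hx
        rw [← hmap]
        exact Submodule.mem_map_of_mem hx
      · intro hx
        rw [← hmap] at hx
        obtain ⟨y, hy, hyx⟩ := hx
        rwa [← g.injective hyx])
  have hI := card_eq_orbit_mul_fix (isom F (form2 B)) e
    {v | LinearIndependent F v ∧ ∀ i j, B (v i) (v j) = 0}
    (fun g hg => ⟨he.map' g.toLinearMap g.ker, fun i j => by
      show B (g (e i)) (g (e j)) = 0
      rw [show B (g (e i)) (g (e j)) = B (e i) (e j) from hg _ _]
      exact hW _ (b i).2 _ (b j).2⟩)
    (fun v hv => by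
      obtain ⟨g, hg, hgv⟩ := witt_hermitian_tuple hB he hv.1
        (fun i j => (hv.2 i j).trans (hW _ (b i).2 _ (b j).2).symm)
      exact ⟨g, hg, hgv⟩)
  have hO : Nat.card {v : Fin k → V | LinearIndependent F v ∧ ∀ i, v i ∈ W}
      = ∏ i : Fin k, (Nat.card F ^ k - Nat.card F ^ (i : ℕ)) := by
    haveI := Fintype.ofFinite W
    have h2 : Nat.card {s : Fin k → W // LinearIndependent F s}
        = ∏ i : Fin k, (Nat.card F ^ k - Nat.card F ^ (i : ℕ)) := by
      rw [card_linearIndependent (le_of_eq hWk.symm), Nat.card_eq_fintype_card, hWk]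
    rw [← h2]
    exact Nat.card_congr
      { toFun := fun v => ⟨fun i => ⟨v.1 i, v.2.2 i⟩, LinearIndependent.of_comp W.subtype v.2.1⟩
        invFun := fun s => ⟨fun i => (s.1 i : V), s.2.map' W.subtype W.ker_subtype, fun i => (s.1 i).2⟩
        left_inv := fun v => rfl
        right_inv := fun s => rfl }
  have hfix : Nat.card {g : V ≃ₗ[F] V // g ∈ G ∧ ∀ i, g (e i) = e i}
      = Nat.card {g : V ≃ₗ[F] V // g ∈ isom F (form2 B) ∧ ∀ i, g (e i) = e i} := by
    refine Nat.card_congr (Equiv.subtypeEquivRight fun g => ⟨fun h => ⟨h.1.1, h.2⟩, fun h => ⟨⟨h.1, ?_⟩, h.2⟩⟩)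
    have hfixW : ∀ x ∈ W, g x = x := by
      intro x hx
      rw [← hspanW e he fun i => (b i).2] at hx
      induction hx using Submodule.span_induction with
      | mem y hy => obtain ⟨i, rfl⟩ := hy; exact h.2 i
      | zero => simp
      | add y z _ _ hy hz => simp [hy, hz]
      | smul c y _ hy => simp [hy]
    intro x
    refine ⟨fun hx => (hfixW x hx).symm ▸ hx, fun hx => ?_⟩
    rwa [g.injective (hfixW _ hx)] at hx
  change Nat.card G * _ = _
  rw [hG, hI, hO, hfix]
  show _ * Nat.card {v : Fin k → V // LinearIndependent F v ∧ ∀ i j, B (v i) (v j) = 0} = _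
  rw [Set.coe_setOf]
  ring

end Cfsg.Agent.Forms
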