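/-
Area Forms: isotropic frame counts for the symplectic and the Hermitian forms over finite fields.
-/
import Cfsg.Agent.Lib.Forms.Frames
import Cfsg.Agent.Lib.Forms.Classify

set_option autoImplicit false

namespace Cfsg.Agent.Forms

universe uW

variable {F : Type*} [Field F] {V : Type uW} [AddCommGroup V] [Module F V]

/-- Frames of an alternating form. -/
theorem card_isoFrame_alt [Fintype F] [FiniteDimensional F V] {B : LinearMap.BilinForm F V} (hA : B.IsAlt)
    (hB : B.Nondegenerate) (k : ℕ) : Nat.card (IsoFrame B k)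
    = ∏ i ∈ Finset.range k,
        (Fintype.card F ^ (Module.finrank F V - 2 * i) - 1) * Fintype.card F ^ (k - 1 - i) := by
  classical
  rw [← Nat.card_eq_fintype_card (α := F)]
  refine card_isoFrame (isHermitianPolar_of_isAlt hA hB) (fun d => Nat.card F ^ d - 1) ?_ k
  intro W _ _ _ B' hB'
  haveI : Finite W := Module.finite_of_finite F
  haveI := Fintype.ofFinite W
  have h0 : ∀ v, B' v v = 0 := by
    intro v
    obtain ⟨τ, hτ⟩ := hB'.trace v
    simp [hτ]
  rw [← Module.natCard_eq_pow_finrank (K := F),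
    Nat.card_congr (Equiv.subtypeEquivRight fun v => by simp [h0] : {v : W // v ≠ 0 ∧ B' v v = 0} ≃ {v : W // v ≠ 0}),
    Nat.card_eq_fintype_card, Nat.card_eq_fintype_card, Fintype.card_subtype_compl, Fintype.card_subtype_eq]

/-- Frames of a Hermitian form. -/
theorem card_isoFrame_herm [Fintype F] [FiniteDimensional F V] {q : ℕ} (hF : Fintype.card F = q ^ 2)
    {B : V →ₛₗ[qEnd hF] V →ₗ[F] F} (hB : IsHermitianPolar (qEnd hF) 1 B) (k : ℕ) : Nat.card (IsoFrame B k)
    = ∏ i ∈ Finset.range k,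
        (Nat.card {v : Fin (Module.finrank F V - 2 * i) → F //
          hermForm (Module.finrank F V - 2 * i) F q v v = 0} - 1) * Nat.card F ^ (k - 1 - i) := by
  classical
  refine card_isoFrame hB (fun d => Nat.card {v : Fin d → F // hermForm d F q v v = 0} - 1) ?_ k
  intro W _ _ _ B' hB'
  obtain ⟨e, he⟩ := exists_herm_coords hF (B := B')
    (fun x y => by rw [hB'.swap x y, one_mul]) hB'.sep
  have hq : q ≠ 0 := by have := one_lt_q hF; omega
  have h0 : hermForm (Module.finrank F W) F q (0 : Fin _ → F) 0 = 0 := by simp [hermForm]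
  rw [Nat.card_congr (Equiv.subtypeEquiv e.toEquiv (fun v => by simp [he]) :
    {v : W // v ≠ 0 ∧ B' v v = 0}
      ≃ {v : Fin (Module.finrank F W) → F // v ≠ 0 ∧ hermForm (Module.finrank F W) F q v v = 0})]
  rw [Nat.card_congr (Equiv.subtypeEquivRight (fun v => and_comm) :
    {v : Fin (Module.finrank F W) → F // v ≠ 0 ∧ hermForm (Module.finrank F W) F q v v = 0}
      ≃ {v : Fin (Module.finrank F W) → F // hermForm (Module.finrank F W) F q v v = 0 ∧ v ≠ 0}),
    Nat.card_congr (Equiv.subtypeSubtypeEquivSubtypeInter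
      (fun v : Fin (Module.finrank F W) → F => hermForm (Module.finrank F W) F q v v = 0) (· ≠ 0)).symm,
    Nat.card_eq_fintype_card, Nat.card_eq_fintype_card, Fintype.card_subtype_compl]
  congr 1
  exact Fintype.card_eq_one_iff.2 ⟨⟨⟨0, h0⟩, rfl⟩, fun x => Subtype.ext (Subtype.ext x.2)⟩

/-- The order of the stabiliser in `Sp` of a totally isotropic subspace. -/
theorem card_sp_stab_isotropic [Fintype F] {m k : ℕ} (hk : k ≤ m) (W : Submodule F (Fin m ⊕ Fin m → F))
    (hWk : Module.finrank F W = k) (hW : ∀ u ∈ W, ∀ v ∈ W, sympForm m F u v = 0) :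
    Nat.card ↥(stabilizing (spToMat m F) (W : Set (Fin m ⊕ Fin m → F)))
      = Fintype.card F ^ (k * (k + 1) / 2 + 2 * k * (m - k))
        * (Fintype.card F ^ ((m - k) ^ 2) * ∏ i ∈ Finset.range (m - k), (Fintype.card F ^ (2 * (i + 1)) - 1))
        * ∏ i : Fin k, (Fintype.card F ^ k - Fintype.card F ^ (i : ℕ)) := by
  classical
  have hq : 1 < Fintype.card F := Fintype.one_lt_card
  have h := card_stab_isotropic (sympB_polar (F := F) m) W hWk
    (fun u hu v hv => by rw [sympB_apply]; exact hW u hu v hv)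
  rw [form2_sympB, card_isom_sympForm, card_isoFrame_alt (sympB_isAlt m) (sympB_nondegenerate m),
    Module.finrank_fintype_fun_eq_card, Fintype.card_sum, Fintype.card_fin, ← two_mul,
    Nat.card_eq_fintype_card (α := F)] at h
  have hS : Nat.card ↥(stabilizing (spToMat m F) (W : Set (Fin m ⊕ Fin m → F)))
      = Nat.card {g : (Fin m ⊕ Fin m → F) ≃ₗ[F] (Fin m ⊕ Fin m → F) //
          g ∈ isom F (sympForm m F) ∧ ∀ v, v ∈ W ↔ g v ∈ W} := by
    refine (Nat.card_congr
      (Equiv.subtypeEquiv (spEquiv m F).toEquiv (fun A => ?_))).trans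
      (Nat.card_congr (Equiv.subtypeSubtypeEquivSubtypeInter
        (fun g => g ∈ isom F (sympForm m F)) (fun g => ∀ v, v ∈ W ↔ g v ∈ W)))
    exact Iff.rfl
  rw [← hS] at h
  have hprod : ∏ i ∈ Finset.range m, (Fintype.card F ^ (2 * (i + 1)) - 1)
      = (∏ i ∈ Finset.range (m - k), (Fintype.card F ^ (2 * (i + 1)) - 1))
        * ∏ i ∈ Finset.range k, (Fintype.card F ^ (2 * m - 2 * i) - 1) := by
    conv_lhs => rw [show m = (m - k) + k by omega, Finset.prod_range_add]
    congr 1
    rw [← Finset.prod_range_reflect]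
    refine Finset.prod_congr rfl fun i hi => ?_
    have := Finset.mem_range.1 hi
    congr 2
    omega
  have hsum : ∑ i ∈ Finset.range k, (k - 1 - i) = k * (k - 1) / 2 := by
    rw [Finset.sum_range_reflect (fun i => i) k, Finset.sum_range_id]
  rw [Finset.prod_mul_distrib, Finset.prod_pow_eq_pow_sum, hsum, hprod] at h
  have hexp : m ^ 2 = k * (k + 1) / 2 + 2 * k * (m - k) + (m - k) ^ 2 + k * (k - 1) / 2 := by
    have h1 : k * (k + 1) / 2 + k * (k - 1) / 2 = k ^ 2 := by
      obtain ⟨c, hc⟩ := even_iff_two_dvd.1 (Nat.even_mul_succ_self k)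
      rw [hc, Nat.mul_div_cancel_left _ two_pos]
      rcases k with _ | l
      · simp at hc ⊢; omega
      · have h2 : (l + 1) * (l + 1 - 1) + 2 * (l + 1) = 2 * c := by
          rw [← hc, Nat.add_sub_cancel]; ring
        rw [sq, show (l + 1) * (l + 1 - 1) = 2 * (c - (l + 1)) by omega, Nat.mul_div_cancel_left _ two_pos]
        have h3 : (l + 1) * (l + 1) + (l + 1) = 2 * c := by rw [← hc]; ring
        omega
    obtain ⟨d, rfl⟩ := Nat.exists_eq_add_of_le hk
    rw [Nat.add_sub_cancel_left, show k * (k + 1) / 2 + 2 * k * d + d ^ 2 + k * (k - 1) / 2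
      = k * (k + 1) / 2 + k * (k - 1) / 2 + 2 * k * d + d ^ 2 by ring, h1]
    ring
  have hpos : 0 < (∏ i ∈ Finset.range k, (Fintype.card F ^ (2 * m - 2 * i) - 1))
      * Fintype.card F ^ (k * (k - 1) / 2) := by
    refine Nat.mul_pos (Finset.prod_pos fun i hi => ?_) (pow_pos (by omega) _)
    have := Finset.mem_range.1 hi
    exact Nat.sub_pos_of_lt (Nat.one_lt_pow (by omega) hq)
  refine Nat.eq_of_mul_eq_mul_right hpos (h.trans ?_)
  rw [hexp, pow_add, pow_add, pow_add]
  ring

end Cfsg.Agent.Forms
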