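/-
Area Forms: the stabiliser of a totally isotropic subspace in GU and SU.
-/
import Cfsg.Agent.Lib.Forms.FrameCounts
import Cfsg.Prelude.Def_ClassicalGeometry

set_option autoImplicit false

namespace Cfsg.Agent.Forms

open scoped Matrix

variable {F : Type*} [Field F]

/-- The general order factor of the unitary groups. -/
def guFactor (q i : ℕ) : ℕ := if Even i then q ^ (i + 1) + 1 else q ^ (i + 1) - 1

variable [Fintype F] {q : ℕ} (hF : Fintype.card F = q ^ 2)

include hF in
theorem card_herm_isotropic_sub_one (d : ℕ) :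
    Nat.card {v : Fin (d + 2) → F // hermForm (d + 2) F q v v = 0} - 1 = guFactor q d * guFactor q (d + 1) := by
  rw [card_herm_isotropic hF, Nat.add_sub_cancel, guFactor, guFactor, show d + 2 - 1 = d + 1 from rfl]
  simp only [Nat.even_add_one, not_not]
  by_cases h : Even d <;> simp [h] <;> ring

include hF in
theorem prod_guFactor_split {n : ℕ} : ∀ {k : ℕ}, 2 * k ≤ n →
    (∏ i ∈ Finset.range (n - 2 * k), guFactor q i)
      * (∏ i ∈ Finset.range k, (Nat.card {v : Fin (n - 2 * i) → F // hermForm (n - 2 * i) F q v v = 0} - 1))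
      = ∏ i ∈ Finset.range n, guFactor q i := by
  intro k
  induction k with
  | zero => simp
  | succ k ih =>
    intro hk
    obtain ⟨d, hd⟩ : ∃ d, n - 2 * k = d + 2 := ⟨n - 2 * k - 2, by omega⟩
    rw [← ih (by omega), Finset.prod_range_succ, show n - 2 * (k + 1) = d by omega, hd,
      Finset.prod_range_succ _ (d + 1), Finset.prod_range_succ _ d]
    have h := card_herm_isotropic_sub_one hF d
    rw [h]
    ring

theorem unitary_stab_exponent {n : ℕ} : ∀ {k : ℕ}, 2 * k ≤ n →
    n * (n - 1) / 2 = (n - 2 * k) * (n - 2 * k - 1) / 2 + k * (2 * n - 3 * k) + k * (k - 1) := by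
  intro k hk
  obtain ⟨d, rfl⟩ := Nat.exists_eq_add_of_le hk
  rcases k with _ | k
  · simp
  rw [Nat.add_sub_cancel_left, show 2 * (2 * (k + 1) + d) - 3 * (k + 1) = k + 1 + 2 * d by omega,
    show k + 1 - 1 = k from rfl, show 2 * (k + 1) + d - 1 = 2 * k + 1 + d by omega]
  have h1 : (2 * (k + 1) + d) * (2 * k + 1 + d)
      = d * (d - 1) + ((k + 1) * (k + 1 + 2 * d) + (k + 1) * k) * 2 := by
    rcases d with _ | d
    · ring
    · rw [Nat.add_sub_cancel]; ring
  rw [h1, Nat.add_mul_div_right _ _ two_pos]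
  ring

include hF in
/-- The stabiliser in `GU` of a totally isotropic subspace. -/
theorem card_isom_stab_isotropic {n k : ℕ} (hk : 2 * k ≤ n) (W : Submodule F (Fin n → F))
    (hWk : Module.finrank F W = k) (hW : ∀ u ∈ W, ∀ v ∈ W, hermForm n F q u v = 0) :
    Nat.card {g : (Fin n → F) ≃ₗ[F] (Fin n → F) // g ∈ isom F (hermForm n F q) ∧ ∀ v, v ∈ W ↔ g v ∈ W}
      = q ^ (k * (2 * n - 3 * k)) * (∏ i : Fin k, ((q ^ 2) ^ k - (q ^ 2) ^ (i : ℕ)))
        * (q ^ ((n - 2 * k) * ((n - 2 * k) - 1) / 2) * ∏ i ∈ Finset.range (n - 2 * k), guFactor q i) := by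
  classical
  have hq := one_lt_q hF
  have h := card_stab_isotropic (hermB_polar hF n) W hWk (fun u hu v hv => hW v hv u hu)
  rw [← isom_hermForm hF n, ← Nat.card_congr (guEquiv n F q).toEquiv, card_GU hF,
    card_isoFrame_herm hF (hermB_polar hF n), Module.finrank_fintype_fun_eq_card, Fintype.card_fin,
    Nat.card_eq_fintype_card (α := F), hF] at h
  have hsum : ∑ i ∈ Finset.range k, (k - 1 - i) = k * (k - 1) / 2 := by
    rw [Finset.sum_range_reflect (fun i => i) k, Finset.sum_range_id]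
  have hev : 2 ∣ k * (k - 1) := (Nat.even_mul_pred_self k).two_dvd
  rw [Finset.prod_mul_distrib, Finset.prod_pow_eq_pow_sum, hsum, ← pow_mul, Nat.mul_div_cancel' hev] at h
  have hN : 0 < (∏ i ∈ Finset.range k,
      (Nat.card {v : Fin (n - 2 * i) → F // hermForm (n - 2 * i) F q v v = 0} - 1)) * q ^ (k * (k - 1)) := by
    refine Nat.mul_pos (Finset.prod_pos fun i hi => ?_) (pow_pos (by omega) _)
    obtain ⟨d, hd⟩ : ∃ d, n - 2 * i = d + 2 := ⟨n - 2 * i - 2, by have := Finset.mem_range.1 hi; omega⟩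
    rw [hd, card_herm_isotropic_sub_one hF]
    have hpos : ∀ j, 0 < guFactor q j := fun j => by
      rw [guFactor]
      split_ifs
      · omega
      · exact Nat.sub_pos_of_lt (Nat.one_lt_pow (Nat.succ_ne_zero j) hq)
    exact Nat.mul_pos (hpos _) (hpos _)
  refine Nat.eq_of_mul_eq_mul_right hN (h.trans ?_)
  have hP := prod_guFactor_split hF hk
  simp only [guFactor] at hP
  simp only [guFactor]
  rw [← hP, unitary_stab_exponent hk, pow_add, pow_add]
  ring

include hF in
/-- A scalar of norm one is `μ / σ μ`. -/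
theorem exists_hilbert90 {l : F} (hl : l ^ (q + 1) = 1) : ∃ μ : F, μ ≠ 0 ∧ μ / μ ^ q = l := by
  have hl0 : l ≠ 0 := by rintro rfl; simp at hl
  by_cases h1 : l = -1
  · obtain ⟨a, ha⟩ : ∃ a : F, qEnd hF a ≠ a := by
      by_contra h
      simp only [not_exists, not_not] at h
      exact qEnd_ne_id hF (RingHom.ext h)
    have hμ : a - qEnd hF a ≠ 0 := sub_ne_zero.2 (Ne.symm ha)
    refine ⟨a - qEnd hF a, hμ, ?_⟩
    rw [← qEnd_apply hF, map_sub, qEnd_qEnd, h1, ← neg_sub a (qEnd hF a), div_neg, div_self hμ]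
  · have hμ : 1 + l ≠ 0 := fun h => h1 (eq_neg_of_add_eq_zero_right h)
    refine ⟨1 + l, hμ, ?_⟩
    have hσ : (1 + l) ^ q = (1 + l) / l := by
      rw [← qEnd_apply hF, map_add, map_one, qEnd_apply, eq_div_iff hl0, add_mul, ← pow_succ, hl]
      ring
    rw [hσ, div_div_eq_mul_div, mul_comm, mul_div_assoc, div_self hμ, mul_one]

include hF in
/-- The stabiliser in `GU` of a totally isotropic subspace reaches every norm-one determinant. -/
theorem exists_stab_det {n : ℕ} (hn : 1 ≤ n) (W : Submodule F (Fin n → F))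
    (hW : ∀ u ∈ W, ∀ v ∈ W, hermForm n F q u v = 0) {l : Fˣ} (hl : (l : F) ^ (q + 1) = 1) :
    ∃ g : GU n F q, guDet n F q g = l ∧
      ∀ v, v ∈ W ↔ ((g : Matrix.GeneralLinearGroup (Fin n) F) : Matrix (Fin n) (Fin n) F) *ᵥ v ∈ W := by
  by_cases hW0 : W = ⊥
  · have hmem : l ∈ (guDet n F q).range := by
      rw [range_guDet hF hn]
      exact MonoidHom.mem_ker.2 (Units.ext (by simpa using hl))
    obtain ⟨g, hg⟩ := hmem
    refine ⟨g, hg, fun v => ?_⟩
    simp only [hW0, Submodule.mem_bot]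
    refine ⟨fun h => by rw [h, Matrix.mulVec_zero], fun h => ?_⟩
    have h' := congrArg
      (fun x => ((g⁻¹ : Matrix.GeneralLinearGroup (Fin n) F) : Matrix (Fin n) (Fin n) F) *ᵥ x) h
    simpa [Matrix.mulVec_mulVec, Matrix.mulVec_zero] using h'
  · obtain ⟨e, he, he0⟩ := Submodule.exists_mem_ne_zero_of_ne_bot hW0
    have hB := hermB_polar hF n
    have hee : hermB hF n e e = 0 := hW e he e he
    obtain ⟨f, hff, hef⟩ := hB.exists_partner he0 hee
    obtain ⟨μ, hμ, hμl⟩ := exists_hilbert90 hF hl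
    have hσμ : qEnd hF μ ≠ 0 := (map_ne_zero (qEnd hF)).2 hμ
    let s := pairSplit hB hee hff hef
    let d : (F × F) ≃ₗ[F] (F × F) :=
      (LinearEquiv.smulOfUnit (Units.mk0 μ hμ)).prodCongr (LinearEquiv.smulOfUnit (Units.mk0 _ (inv_ne_zero hσμ)))
    let T : (Fin n → F) ≃ₗ[F] (Fin n → F) := (s.trans (d.prodCongr (LinearEquiv.refl F _))).trans s.symm
    have hdecomp : ∀ x, x = (s x).1.1 • e + (s x).1.2 • f + ((s x).2 : Fin n → F) :=
      fun x => (s.symm_apply_apply x).symm
    have hTx : ∀ x, T x = (μ * (s x).1.1) • e + ((qEnd hF μ)⁻¹ * (s x).1.2) • f + ((s x).2 : Fin n → F) :=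
      fun x => rfl
    have hform : ∀ (a b a' b' : F) (c c' : pairPerp (hermB hF n) e f),
        hermB hF n (a • e + b • f + (c : Fin n → F)) (a' • e + b' • f + (c' : Fin n → F))
          = qEnd hF a * b' + qEnd hF b * a' + hermB hF n (c : Fin n → F) c' := by
      intro a b a' b' c c'
      simp [map_smulₛₗ, hee, hff, hef, hB.pair_other hef, pairPerp_left c', pairPerp_right c',
        hB.eq_zero_comm (pairPerp_left c), hB.eq_zero_comm (pairPerp_right c)]
    have hT : T ∈ isom F (hermForm n F q) := by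
      rw [isom_hermForm hF n]
      intro x y
      show hermB hF n (T x) (T y) = hermB hF n x y
      conv_rhs => rw [hdecomp x, hdecomp y]
      rw [hTx, hTx, hform, hform, map_mul, map_mul, map_inv₀, qEnd_qEnd]
      field_simp
    have hdet : LinearMap.det (T : (Fin n → F) →ₗ[F] (Fin n → F)) = l := by
      have h1 : (T : (Fin n → F) →ₗ[F] (Fin n → F))
          = (s.symm : ((F × F) × pairPerp (hermB hF n) e f) →ₗ[F] (Fin n → F)).comp
          ((LinearMap.prodMap (d : (F × F) →ₗ[F] (F × F))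
              (LinearMap.id : pairPerp (hermB hF n) e f →ₗ[F] pairPerp (hermB hF n) e f)).comp
            (s.symm.symm : (Fin n → F) →ₗ[F] ((F × F) × pairPerp (hermB hF n) e f))) := rfl
      have h2 : (d : (F × F) →ₗ[F] (F × F))
          = LinearMap.prodMap (μ • (LinearMap.id : F →ₗ[F] F)) ((qEnd hF μ)⁻¹ • (LinearMap.id : F →ₗ[F] F)) := by
        refine LinearMap.ext fun x => ?_
        rfl
      rw [h1, LinearMap.det_conj, LinearMap.det_prodMap, h2, LinearMap.det_prodMap, LinearMap.det_smul,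
        LinearMap.det_smul, LinearMap.det_id, LinearMap.det_id]
      simp only [Module.finrank_self, pow_one, mul_one]
      rw [qEnd_apply, ← div_eq_mul_inv, hμl]
    have hW1 : ∀ (T' : (Fin n → F) ≃ₗ[F] (Fin n → F)) (c : F),
        (∀ x ∈ W, T' x = x + c • ((s x).1.1 • e)) → ∀ x ∈ W, T' x ∈ W := fun T' c h x hx => by
      rw [h x hx]
      exact W.add_mem hx (W.smul_mem _ (W.smul_mem _ he))
    have hB0 : ∀ x ∈ W, (s x).1.2 = 0 := fun x hx => hW x hx e he
    have hTW : ∀ x ∈ W, T x ∈ W := hW1 T (μ - 1) fun x hx => by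
      conv_rhs => arg 1; rw [hdecomp x]
      rw [hTx, hB0 x hx, mul_zero, zero_smul, add_zero, add_zero, smul_smul, sub_mul, one_mul, sub_smul]
      abel
    have hmap : W.map (T : (Fin n → F) →ₗ[F] (Fin n → F)) = W :=
      Submodule.eq_of_le_of_finrank_eq (Submodule.map_le_iff_le_comap.2 hTW) (LinearEquiv.finrank_map_eq T W)
    refine ⟨(guEquiv n F q).symm ⟨T, hT⟩, Units.ext ?_, fun v => ?_⟩
    · have h : Matrix.toLin' ((((guEquiv n F q).symm ⟨T, hT⟩ : GU n F q) :
          Matrix.GeneralLinearGroup (Fin n) F) : Matrix (Fin n) (Fin n) F)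
          = (T : (Fin n → F) →ₗ[F] (Fin n → F)) := by
        refine LinearMap.ext fun v => ?_
        have := preservingEquiv_apply (hermForm n F q) ((guEquiv n F q).symm ⟨T, hT⟩) v
        rw [show preservingEquiv (hermForm n F q) ((guEquiv n F q).symm ⟨T, hT⟩) = ⟨T, hT⟩ from
          (guEquiv n F q).apply_symm_apply _] at this
        exact this.symm
      rw [← hdet, ← h, LinearMap.det_toLin']
      rfl
    · have := preservingEquiv_apply (hermForm n F q) ((guEquiv n F q).symm ⟨T, hT⟩) v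
      rw [show preservingEquiv (hermForm n F q) ((guEquiv n F q).symm ⟨T, hT⟩) = ⟨T, hT⟩ from
        (guEquiv n F q).apply_symm_apply _] at this
      rw [← this]
      constructor
      · exact fun hv => hTW v hv
      · intro hv
        change T v ∈ W at hv
        rw [← hmap] at hv
        obtain ⟨y, hy, hyx⟩ := hv
        rwa [← T.injective hyx]

include hF in
/-- The stabiliser in `SU` of a totally isotropic subspace. -/
theorem card_SU_stab_mul {n : ℕ} (hn : 1 ≤ n) (W : Submodule F (Fin n → F))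
    (hW : ∀ u ∈ W, ∀ v ∈ W, hermForm n F q u v = 0) :
    (q + 1) * Nat.card ↥((stabilizing (slToMat n F) (W : Set (Fin n → F))).subgroupOf (SU n F q))
      = Nat.card {g : (Fin n → F) ≃ₗ[F] (Fin n → F) // g ∈ isom F (hermForm n F q) ∧ ∀ v, v ∈ W ↔ g v ∈ W} := by
  let G : Subgroup (GU n F q) := (stabilizing (glToMat (Fin n) F) (W : Set (Fin n → F))).subgroupOf (GU n F q)
  let χ : G →* Fˣ := (guDet n F q).comp G.subtype
  have hG : Nat.card G
      = Nat.card {g : (Fin n → F) ≃ₗ[F] (Fin n → F) // g ∈ isom F (hermForm n F q) ∧ ∀ v, v ∈ W ↔ g v ∈ W} := by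
    refine (Nat.card_congr (Equiv.subtypeEquiv (guEquiv n F q).toEquiv (fun g => ?_))).trans
      (Nat.card_congr (Equiv.subtypeSubtypeEquivSubtypeInter
        (fun g => g ∈ isom F (hermForm n F q)) (fun g => ∀ v, v ∈ W ↔ g v ∈ W)))
    exact Iff.rfl
  have hrange : χ.range = (powMonoidHom (α := Fˣ) (q + 1)).ker := by
    apply le_antisymm
    · rintro _ ⟨g, rfl⟩
      rw [← range_guDet hF hn]
      exact ⟨g.1, rfl⟩
    · intro l hl
      obtain ⟨g, hg, hgW⟩ := exists_stab_det hF hn W hW (l := l) (by simpa using congrArg Units.val hl)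
      exact ⟨⟨g, hgW⟩, hg⟩
  let E : ↥((stabilizing (slToMat n F) (W : Set (Fin n → F))).subgroupOf (SU n F q)) ≃ χ.ker :=
    { toFun := fun g => ⟨⟨(suEquivKer n F q g.1).1, g.2⟩, (suEquivKer n F q g.1).2⟩
      invFun := fun g => ⟨(suEquivKer n F q).symm ⟨g.1.1, g.2⟩, g.1.2⟩
      left_inv := fun g => rfl
      right_inv := fun g => Subtype.ext (Subtype.ext (Subtype.ext (Units.ext rfl))) }
  rw [Nat.card_congr E, ← hG, Subgroup.card_eq_card_quotient_mul_card_subgroup χ.ker,
    Nat.card_congr (QuotientGroup.quotientKerEquivRange χ).toEquiv, hrange, card_norm_kernel hF]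

end Cfsg.Agent.Forms
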