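/-
Area Forms: the orthogonal groups of binary forms are dihedral.
-/
import Cfsg.Agent.Lib.Forms.QuadOrder
import Cfsg.Agent.Lib.Perm.SmallSuborbit
import Mathlib.FieldTheory.IsAlgClosed.AlgebraicClosure

set_option autoImplicit false

namespace Cfsg.Agent.Forms

variable {F : Type*} [Field F] [Fintype F]

/-- Recognition of a dihedral group from a cyclic subgroup inverted by an involution outside it. -/
theorem nonempty_dihedral_of_cyclic {G : Type*} [Group G] [Finite G] (R : Subgroup G) [IsCyclic R] (s : G)
    (hs : s * s = 1) (hsR : s ∉ R) (hinv : ∀ g ∈ R, s * g * s = g⁻¹) {n : ℕ} (hn : Nat.card R = n)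
    (hG : Nat.card G = 2 * n) : Nonempty (G ≃* DihedralGroup n) := by
  obtain ⟨r, hr⟩ := IsCyclic.exists_generator (α := R)
  have hrn : orderOf (r : G) = n := by
    rw [Subgroup.orderOf_coe, orderOf_eq_card_of_forall_mem_zpowers hr, hn]
  have hsinv : s⁻¹ = s := inv_eq_of_mul_eq_one_right hs
  refine Perm.nonempty_mulEquiv_dihedral (hn ▸ Nat.card_pos.ne') hs hrn ?_ ?_ hG
  · rw [hsinv]; exact hinv _ r.2
  · exact fun h => hsR (Subgroup.zpowers_le.2 r.2 h)

/-- The linear map `binMul a b u`. -/
def binMulL (a b : F) (u : F × F) : (F × F) →ₗ[F] F × F where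
  toFun := binMul a b u
  map_add' x y := by ext <;> simp only [binMul, Prod.fst_add, Prod.snd_add] <;> ring
  map_smul' c x := by
    ext <;> simp only [binMul, Prod.smul_fst, Prod.smul_snd, smul_eq_mul, RingHom.id_apply] <;> ring

/-- The orthogonal group of an anisotropic binary form is dihedral of order `2 (q + 1)`. -/
theorem isomQ_binQ_dihedral {a b : F}
    (hab : ∀ z₁ z₂ : F, z₁ ^ 2 + a * z₁ * z₂ + b * z₂ ^ 2 = 0 → z₁ = 0 ∧ z₂ = 0) :
    Nonempty (isomQ (binQ a b) ≃* DihedralGroup (Fintype.card F + 1)) := by
  classical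
  haveI : Finite (isomQ (binQ a b)) := Nat.finite_of_card_ne_zero (by rw [card_isomQ_binQ hab]; omega)
  have hconj : ∀ u, binQ a b (binConj a u) = binQ a b u := fun u => by
    simp only [binQ_apply, binConj]
    ring
  have hQg : ∀ (g : isomQ (binQ a b)) (x : F × F), binQ a b (g.1 x) = binQ a b x := fun g x => g.2 x x
  have hb1 : binQ a b (1, 0) = 1 := by simp [binQ_apply]
  have hright : ∀ u, binMul a b u (1, 0) = u := fun u => by ext <;> simp [binMul]
  let R : Subgroup (isomQ (binQ a b)) :=
    { carrier := {g | ∀ w, g.1 w = binMul a b (g.1 (1, 0)) w}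
      one_mem' := fun w => (binMul_one a b w).symm
      mul_mem' := fun {g h} hg hh w => by
        show g.1 (h.1 w) = binMul a b (g.1 (h.1 (1, 0))) w
        rw [hg, hh, binMul_assoc, hg (h.1 (1, 0))]
      inv_mem' := fun {g} hg => by
        have key : ∀ w, g.1.symm w = binMul a b (binConj a (g.1 (1, 0))) w := fun w => by
          rw [LinearEquiv.symm_apply_eq, hg, binMul_assoc, binMul_binConj', hQg, hb1, binMul_one]
        intro w
        show g.1.symm w = binMul a b (g.1.symm (1, 0)) w
        rw [key, key (1, 0), hright] }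
  obtain ⟨θ, hθ⟩ : ∃ θ : AlgebraicClosure F,
      θ ^ 2 - algebraMap F _ a * θ + algebraMap F _ b = 0 := by
    obtain ⟨θ, hθ⟩ := IsAlgClosed.exists_root
      ((Polynomial.X : Polynomial (AlgebraicClosure F)) ^ 2
        - Polynomial.C (algebraMap F _ a) * Polynomial.X + Polynomial.C (algebraMap F _ b))
      (by
        have : ((Polynomial.X : Polynomial (AlgebraicClosure F)) ^ 2
          - Polynomial.C (algebraMap F _ a) * Polynomial.X + Polynomial.C (algebraMap F _ b)).degree = 2 := by
          compute_degree!
        rw [this]; decide)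
    exact ⟨θ, by simpa using hθ⟩
  let ι : F × F → AlgebraicClosure F := fun z => algebraMap F _ z.1 + algebraMap F _ z.2 * θ
  have hιmul : ∀ u w, ι (binMul a b u w) = ι u * ι w := fun u w => by
    simp only [ι, binMul, map_add, map_sub, map_mul]
    linear_combination -(algebraMap F (AlgebraicClosure F) u.2 * algebraMap F (AlgebraicClosure F) w.2) * hθ
  have hιinj : ∀ z, ι z = 0 → z = 0 := fun z hz => by
    refine binQ_eq_zero hab ((algebraMap F (AlgebraicClosure F)).injective ?_)
    rw [map_zero, binQ_apply]
    simp only [map_add, map_mul, map_pow]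
    simp only [ι] at hz
    linear_combination (algebraMap F (AlgebraicClosure F) z.1
      + algebraMap F (AlgebraicClosure F) z.2 * (algebraMap F _ a - θ)) * hz
      + (algebraMap F (AlgebraicClosure F) z.2) ^ 2 * hθ
  have hιinj' : Function.Injective ι := fun x y h => sub_eq_zero.1 <| hιinj _ <| by
    simp only [ι] at h ⊢
    simp only [Prod.fst_sub, Prod.snd_sub, map_sub]
    linear_combination h
  let χ : R →* AlgebraicClosure F :=
    { toFun := fun g => ι (g.1.1 (1, 0))
      map_one' := by
        show ι ((1 : F), (0 : F)) = 1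
        simp [ι]
      map_mul' := fun g h => by
        show ι (g.1.1 (h.1.1 (1, 0))) = ι (g.1.1 (1, 0)) * ι (h.1.1 (1, 0))
        rw [g.2, hιmul] }
  have hχ : Function.Injective χ := fun g h e => Subtype.ext <| Subtype.ext <| LinearEquiv.ext fun w => by
    rw [g.2, h.2, hιinj' e]
  haveI : IsCyclic R := isCyclic_of_subgroup_isDomain χ hχ
  have hinjM : ∀ u, binQ a b u = 1 → Function.Injective (binMulL a b u) := fun u hu x y h => by
    have := congrArg (binMul a b (binConj a u)) (h : binMul a b u x = binMul a b u y)
    simp only [binMulL, LinearMap.coe_mk, AddHom.coe_mk] at this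
    rwa [binMul_assoc, binMul_assoc, binMul_binConj, hu, binMul_one, binMul_one] at this
  have hR : Nat.card R = Fintype.card F + 1 := by
    rw [← card_binQ_fibre hab one_ne_zero]
    refine Nat.card_congr
      { toFun := fun g => ⟨g.1.1 (1, 0), (hQg g.1 _).trans hb1⟩
        invFun := fun u => ⟨⟨LinearEquiv.ofInjectiveEndo (binMulL a b u.1) (hinjM u.1 u.2), fun x _ => by
            show binQ a b (binMul a b u.1 x) = binQ a b x
            rw [binQ_binMul, u.2, one_mul]⟩, fun w => by
          show binMul a b u.1 w = binMul a b (binMul a b u.1 (1, 0)) w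
          rw [hright]⟩
        left_inv := fun g => Subtype.ext <| Subtype.ext <| LinearEquiv.ext fun w => (g.2 w).symm
        right_inv := fun u => Subtype.ext (hright u.1) }
  let c : (F × F) ≃ₗ[F] F × F :=
    { toFun := binConj a
      invFun := binConj a
      map_add' := fun x y => by ext <;> simp only [binConj, Prod.fst_add, Prod.snd_add] <;> ring
      map_smul' := fun k x => by
        ext <;> simp only [binConj, Prod.smul_fst, Prod.smul_snd, smul_eq_mul, RingHom.id_apply] <;> ring
      left_inv := fun x => by ext <;> simp [binConj]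
      right_inv := fun x => by ext <;> simp [binConj] }
  let s : isomQ (binQ a b) := ⟨c, fun x _ => hconj x⟩
  refine nonempty_dihedral_of_cyclic R s ?_ ?_ ?_ hR (card_isomQ_binQ hab)
  · exact Subtype.ext <| LinearEquiv.ext fun x => by
      show binConj a (binConj a x) = x
      ext <;> simp [binConj]
  · intro h
    have h1 := h ((0 : F), (1 : F))
    change binConj a (0, 1) = binMul a b (binConj a (1, 0)) (0, 1) at h1
    simp [binConj, binMul] at h1
    obtain ⟨ha, h2⟩ := h1
    refine disc_ne_zero hab ?_
    have h20 : (2 : F) = 0 := by linear_combination -h2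
    linear_combination (2 * b) * h20 - a * ha
  · intro g hg
    refine eq_inv_of_mul_eq_one_left (Subtype.ext <| LinearEquiv.ext fun x => ?_)
    show binConj a (g.1 (binConj a (g.1 x))) = x
    have hm : ∀ u w, binConj a (binMul a b u (binConj a w)) = binMul a b (binConj a u) w := fun u w => by
      ext <;> simp only [binConj, binMul] <;> ring
    rw [hg (binConj a _), hm, hg x, binMul_assoc, binMul_binConj, hQg, hb1, binMul_one]

/-- The orthogonal group of a hyperbolic plane is dihedral of order `2 (q - 1)`. -/
theorem isomQ_quadPlus_one_dihedral :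
    Nonempty (isomQ (quadPlus 1 F) ≃* DihedralGroup (Fintype.card F - 1)) := by
  classical
  have hcard : Nat.card (isomQ (quadPlus 1 F)) = 2 * (Fintype.card F - 1) :=
    (card_isomQ_quadPlus 0).trans (by simp)
  haveI : Finite (isomQ (quadPlus 1 F)) := Nat.finite_of_card_ne_zero (by
    have := Fintype.one_lt_card (α := F)
    omega)
  let d : Fˣ → (Fin 1 ⊕ Fin 1 → F) ≃ₗ[F] (Fin 1 ⊕ Fin 1 → F) := fun c =>
    { toFun := fun v => Sum.elim (fun i => (c : F) * v (.inl i)) (fun i => ((c⁻¹ : Fˣ) : F) * v (.inr i))
      invFun := fun v => Sum.elim (fun i => ((c⁻¹ : Fˣ) : F) * v (.inl i)) (fun i => (c : F) * v (.inr i))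
      map_add' := fun x y => funext fun i => by rcases i with i | i <;> simp [mul_add]
      map_smul' := fun k x => funext fun i => by rcases i with i | i <;> simp [mul_left_comm]
      left_inv := fun x => funext fun i => by rcases i with i | i <;> simp [← mul_assoc]
      right_inv := fun x => funext fun i => by rcases i with i | i <;> simp [← mul_assoc] }
  let ρ : Fˣ →* isomQ (quadPlus 1 F) :=
    { toFun := fun c => ⟨d c, fun x _ => by simp [quadPlus, d]; field_simp⟩
      map_one' := Subtype.ext <| LinearEquiv.ext fun x => funext fun i => by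
        rcases i with i | i <;> simp [d]
      map_mul' := fun c c' => Subtype.ext <| LinearEquiv.ext fun x => funext fun i => by
        rcases i with i | i <;> simp [d, mul_assoc, mul_comm, mul_left_comm] }
  have hρ : Function.Injective ρ := fun c c' h => Units.ext <| by
    simpa [ρ, d] using congrFun (LinearEquiv.congr_fun (congrArg Subtype.val h)
      (fun _ => (1 : F))) (.inl 0)
  haveI : IsCyclic ρ.range := isCyclic_of_surjective ρ.rangeRestrict ρ.rangeRestrict_surjective
  have hR : Nat.card ρ.range = Fintype.card F - 1 := by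
    rw [← Nat.card_congr (MonoidHom.ofInjective hρ).toEquiv, Nat.card_units, Nat.card_eq_fintype_card]
  let sw : (Fin 1 ⊕ Fin 1 → F) ≃ₗ[F] (Fin 1 ⊕ Fin 1 → F) := LinearEquiv.funCongrLeft F F (Equiv.sumComm (Fin 1) (Fin 1))
  let s : isomQ (quadPlus 1 F) := ⟨sw, fun x _ => by simp [quadPlus, sw, mul_comm]⟩
  refine nonempty_dihedral_of_cyclic ρ.range s ?_ ?_ ?_ hR hcard
  · exact Subtype.ext <| LinearEquiv.ext fun x => funext fun i => by
      rcases i with i | i <;> simp [s, sw]
  · rintro ⟨c, hc⟩
    have := congrFun (LinearEquiv.congr_fun (congrArg Subtype.val hc)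
      (Sum.elim (fun _ => (1 : F)) fun _ => 0)) (.inl 0)
    simp [ρ, d, s, sw] at this
  · rintro _ ⟨c, rfl⟩
    rw [← map_inv]
    refine Subtype.ext <| LinearEquiv.ext fun x => funext fun i => ?_
    rcases i with i | i <;> simp [ρ, d, s, sw]

end Cfsg.Agent.Forms
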