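import Cfsg.Agent.Lib.ClassicalSimple.UnitaryMatrix
import Cfsg.Agent.Lib.ClassicalSimple.SympMatrix
import Cfsg.Agent.Lib.Forms.Symp
import Cfsg.Agent.Lib.Forms.HermCenter

/-!
# `PSU(4,2) ≅ PSp(4,3)` on forty common points

Coded vectors: `Fin 4` for the field of four elements, `ZMod 3` for the field of three elements.
-/

set_option autoImplicit false

open Matrix

namespace Cfsg.Agent.Forms.SmallPSU4

/-- The 40 anisotropic points. -/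
def unitPt : Fin 40 → Fin 4 → Fin 4 :=
  ![![0, 0, 0, 1],
    ![0, 0, 1, 0],
    ![0, 1, 0, 0],
    ![0, 1, 1, 1],
    ![0, 1, 1, 2],
    ![0, 1, 1, 3],
    ![0, 1, 2, 1],
    ![0, 1, 2, 2],
    ![0, 1, 2, 3],
    ![0, 1, 3, 1],
    ![0, 1, 3, 2],
    ![0, 1, 3, 3],
    ![1, 0, 0, 0],
    ![1, 0, 1, 1],
    ![1, 0, 1, 2],
    ![1, 0, 1, 3],
    ![1, 0, 2, 1],
    ![1, 0, 2, 2],
    ![1, 0, 2, 3],
    ![1, 0, 3, 1],
    ![1, 0, 3, 2],
    ![1, 0, 3, 3],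
    ![1, 1, 0, 1],
    ![1, 1, 0, 2],
    ![1, 1, 0, 3],
    ![1, 1, 1, 0],
    ![1, 1, 2, 0],
    ![1, 1, 3, 0],
    ![1, 2, 0, 1],
    ![1, 2, 0, 2],
    ![1, 2, 0, 3],
    ![1, 2, 1, 0],
    ![1, 2, 2, 0],
    ![1, 2, 3, 0],
    ![1, 3, 0, 1],
    ![1, 3, 0, 2],
    ![1, 3, 0, 3],
    ![1, 3, 1, 0],
    ![1, 3, 2, 0],
    ![1, 3, 3, 0]]

/-- The 40 points of the symplectic space, in the matching order. -/
def sympPt : Fin 40 → Fin 4 → ZMod 3 :=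
  ![![0, 0, 0, 1],
    ![0, 0, 1, 0],
    ![0, 0, 1, 1],
    ![1, 1, 0, 0],
    ![1, 1, 0, 1],
    ![1, 1, 0, 2],
    ![1, 1, 1, 0],
    ![1, 1, 1, 1],
    ![1, 1, 1, 2],
    ![1, 1, 2, 0],
    ![1, 1, 2, 1],
    ![1, 1, 2, 2],
    ![0, 0, 1, 2],
    ![1, 2, 0, 0],
    ![1, 2, 0, 2],
    ![1, 2, 0, 1],
    ![1, 2, 1, 0],
    ![1, 2, 1, 2],
    ![1, 2, 1, 1],
    ![1, 2, 2, 0],
    ![1, 2, 2, 2],
    ![1, 2, 2, 1],
    ![0, 1, 0, 0],
    ![0, 1, 0, 1],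
    ![0, 1, 0, 2],
    ![1, 0, 0, 0],
    ![1, 0, 1, 0],
    ![1, 0, 2, 0],
    ![0, 1, 1, 1],
    ![0, 1, 1, 2],
    ![0, 1, 1, 0],
    ![1, 0, 1, 1],
    ![1, 0, 2, 1],
    ![1, 0, 0, 1],
    ![0, 1, 2, 2],
    ![0, 1, 2, 0],
    ![0, 1, 2, 1],
    ![1, 0, 2, 2],
    ![1, 0, 0, 2],
    ![1, 0, 1, 2]]

/-- The common images. -/
def target : Fin 2 → Fin 40 → Fin 40 → Fin 40 :=
  ![![![0, 1, 2, 5, 3, 4, 8, 6, 7, 11, 9, 10, 12, 15, 13, 14, 18, 16, 17, 21, 19, 20, 24, 22, 23, 25, 26, 27, 30, 28, 29, 31, 32, 33, 36, 34, 35, 37, 38, 39],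
      ![0, 1, 2, 9, 10, 11, 3, 4, 5, 6, 7, 8, 12, 19, 20, 21, 13, 14, 15, 16, 17, 18, 22, 23, 24, 27, 25, 26, 28, 29, 30, 33, 31, 32, 34, 35, 36, 39, 37, 38],
      ![0, 1, 2, 7, 8, 6, 10, 11, 9, 4, 5, 3, 12, 13, 14, 15, 16, 17, 18, 19, 20, 21, 34, 35, 36, 37, 38, 39, 22, 23, 24, 25, 26, 27, 28, 29, 30, 31, 32, 33],
      ![4, 6, 11, 3, 5, 0, 9, 2, 8, 1, 10, 7, 12, 13, 24, 38, 27, 17, 28, 35, 31, 21, 22, 15, 33, 25, 19, 30, 37, 29, 16, 34, 32, 14, 20, 26, 36, 18, 23, 39],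
      ![5, 7, 9, 0, 4, 3, 6, 10, 2, 8, 1, 11, 12, 38, 14, 22, 29, 27, 18, 19, 36, 31, 33, 23, 13, 25, 20, 28, 17, 37, 30, 35, 32, 15, 34, 21, 26, 16, 24, 39],
      ![3, 8, 10, 4, 0, 5, 2, 7, 11, 9, 6, 1, 12, 23, 38, 15, 16, 30, 27, 31, 20, 34, 14, 33, 24, 25, 21, 29, 28, 18, 37, 36, 32, 13, 26, 35, 19, 17, 22, 39],
      ![7, 9, 5, 1, 4, 10, 6, 8, 0, 3, 2, 11, 12, 35, 32, 15, 16, 24, 39, 25, 20, 28, 22, 18, 31, 30, 26, 13, 38, 29, 19, 17, 34, 33, 14, 27, 36, 37, 21, 23],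
      ![8, 10, 3, 11, 1, 5, 0, 7, 6, 9, 4, 2, 12, 13, 36, 32, 39, 17, 22, 29, 25, 21, 31, 23, 16, 28, 26, 14, 20, 38, 30, 18, 35, 33, 34, 15, 27, 37, 19, 24],
      ![6, 11, 4, 3, 9, 1, 7, 0, 8, 2, 10, 5, 12, 32, 14, 34, 23, 39, 18, 19, 30, 25, 17, 31, 24, 29, 26, 15, 28, 21, 38, 16, 36, 33, 27, 35, 13, 37, 20, 22],
      ![10, 3, 8, 6, 2, 5, 1, 7, 4, 9, 11, 0, 12, 26, 14, 28, 35, 33, 18, 19, 24, 37, 22, 21, 32, 16, 30, 27, 39, 29, 13, 31, 20, 34, 17, 25, 36, 23, 38, 15],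
      ![11, 4, 6, 3, 7, 2, 5, 1, 8, 0, 10, 9, 12, 29, 26, 15, 16, 36, 33, 37, 20, 22, 32, 23, 19, 17, 28, 27, 14, 39, 30, 31, 21, 35, 34, 18, 25, 24, 38, 13],
      ![9, 5, 7, 2, 4, 8, 6, 3, 1, 10, 0, 11, 12, 13, 30, 26, 33, 17, 34, 23, 37, 21, 20, 32, 24, 18, 29, 27, 28, 15, 39, 31, 19, 36, 25, 35, 16, 22, 38, 14],
      ![0, 1, 2, 3, 4, 5, 6, 7, 8, 9, 10, 11, 12, 17, 18, 16, 20, 21, 19, 14, 15, 13, 29, 30, 28, 32, 33, 31, 35, 36, 34, 38, 39, 37, 23, 24, 22, 26, 27, 25],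
      ![14, 16, 2, 3, 24, 33, 27, 7, 36, 30, 39, 11, 21, 13, 15, 0, 19, 12, 18, 1, 20, 17, 22, 5, 38, 25, 9, 35, 28, 10, 26, 31, 8, 23, 34, 6, 32, 37, 4, 29],
      ![15, 17, 2, 33, 4, 22, 34, 27, 8, 9, 28, 39, 19, 0, 14, 13, 16, 20, 12, 18, 1, 21, 38, 23, 3, 25, 10, 36, 26, 29, 11, 31, 6, 24, 32, 35, 7, 37, 5, 30],
      ![13, 18, 2, 23, 33, 5, 6, 35, 27, 39, 10, 29, 20, 14, 0, 15, 12, 17, 21, 19, 16, 1, 4, 38, 24, 25, 11, 34, 9, 26, 30, 31, 7, 22, 8, 32, 36, 37, 3, 28],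
      ![17, 19, 2, 30, 37, 5, 6, 24, 31, 25, 10, 36, 15, 1, 14, 20, 16, 18, 0, 13, 12, 21, 22, 8, 39, 35, 26, 3, 28, 4, 27, 23, 32, 11, 34, 9, 33, 29, 38, 7],
      ![18, 20, 2, 3, 28, 37, 31, 7, 22, 34, 25, 11, 13, 21, 1, 15, 0, 17, 16, 19, 14, 12, 39, 23, 6, 36, 26, 4, 27, 29, 5, 24, 32, 9, 33, 35, 10, 30, 38, 8],
      ![16, 21, 2, 37, 4, 29, 23, 31, 8, 9, 35, 25, 14, 13, 19, 1, 17, 0, 18, 12, 20, 15, 7, 39, 24, 34, 26, 5, 3, 27, 30, 22, 32, 10, 11, 33, 36, 28, 38, 6],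
      ![20, 13, 2, 26, 4, 36, 30, 38, 8, 9, 24, 32, 18, 16, 12, 15, 1, 17, 14, 19, 21, 0, 22, 11, 37, 6, 35, 27, 28, 7, 25, 5, 23, 33, 34, 3, 31, 10, 29, 39],
      ![21, 14, 2, 34, 26, 5, 6, 28, 38, 32, 10, 22, 16, 13, 17, 12, 15, 1, 18, 0, 20, 19, 37, 23, 9, 7, 36, 27, 25, 29, 8, 3, 24, 33, 31, 35, 4, 11, 30, 39],
      ![19, 15, 2, 3, 35, 26, 38, 7, 29, 23, 32, 11, 17, 12, 14, 18, 16, 13, 1, 20, 0, 21, 10, 37, 24, 8, 34, 27, 6, 25, 30, 4, 22, 33, 5, 31, 36, 9, 28, 39],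
      ![23, 1, 28, 3, 15, 38, 6, 18, 39, 9, 21, 37, 36, 13, 5, 33, 16, 8, 31, 19, 11, 32, 22, 24, 0, 25, 26, 27, 34, 12, 30, 7, 10, 4, 2, 35, 29, 20, 14, 17],
      ![24, 1, 29, 38, 4, 13, 39, 7, 16, 37, 10, 19, 34, 33, 14, 3, 31, 17, 6, 32, 20, 9, 0, 23, 22, 25, 26, 27, 28, 35, 12, 8, 11, 5, 30, 2, 36, 21, 15, 18],
      ![22, 1, 30, 14, 38, 5, 17, 39, 8, 20, 37, 11, 35, 4, 33, 15, 7, 31, 18, 10, 32, 21, 23, 0, 24, 25, 26, 27, 12, 29, 36, 6, 9, 3, 34, 28, 2, 19, 13, 16],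
      ![0, 26, 31, 3, 4, 5, 19, 20, 21, 35, 36, 34, 39, 13, 14, 15, 9, 10, 11, 30, 28, 29, 22, 23, 24, 25, 27, 1, 7, 8, 6, 37, 12, 33, 18, 16, 17, 2, 38, 32],
      ![0, 27, 32, 35, 36, 34, 6, 7, 8, 13, 14, 15, 37, 30, 28, 29, 16, 17, 18, 3, 4, 5, 22, 23, 24, 1, 26, 25, 10, 11, 9, 31, 38, 12, 21, 19, 20, 33, 2, 39],
      ![0, 25, 33, 16, 17, 18, 35, 36, 34, 9, 10, 11, 38, 6, 7, 8, 30, 28, 29, 19, 20, 21, 22, 23, 24, 26, 1, 27, 4, 5, 3, 12, 32, 39, 15, 13, 14, 37, 31, 2],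
      ![29, 1, 34, 18, 27, 5, 21, 25, 8, 15, 26, 11, 24, 13, 10, 39, 16, 4, 37, 19, 7, 38, 2, 23, 35, 20, 14, 17, 28, 30, 0, 31, 32, 33, 22, 12, 36, 3, 6, 9],
      ![30, 1, 35, 3, 16, 27, 6, 19, 25, 9, 13, 26, 22, 39, 14, 11, 37, 17, 5, 38, 20, 8, 36, 2, 24, 21, 15, 18, 0, 29, 28, 31, 32, 33, 34, 23, 12, 4, 7, 10],
      ![28, 1, 36, 27, 4, 17, 25, 7, 20, 26, 10, 14, 23, 9, 39, 15, 3, 37, 18, 6, 38, 21, 22, 34, 2, 19, 13, 16, 29, 0, 30, 31, 32, 33, 12, 35, 24, 5, 8, 11],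
      ![0, 32, 37, 20, 21, 19, 24, 22, 23, 9, 10, 11, 27, 13, 14, 15, 8, 6, 7, 36, 34, 35, 18, 16, 17, 2, 26, 38, 28, 29, 30, 31, 33, 1, 3, 4, 5, 25, 12, 39],
      ![0, 33, 38, 3, 4, 5, 14, 15, 13, 24, 22, 23, 25, 36, 34, 35, 16, 17, 18, 11, 9, 10, 21, 19, 20, 39, 2, 27, 28, 29, 30, 1, 32, 31, 6, 7, 8, 37, 26, 12],
      ![0, 31, 39, 24, 22, 23, 6, 7, 8, 17, 18, 16, 26, 5, 3, 4, 36, 34, 35, 19, 20, 21, 15, 13, 14, 25, 37, 2, 28, 29, 30, 32, 1, 33, 9, 10, 11, 12, 38, 27],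
      ![35, 1, 22, 31, 4, 21, 32, 7, 15, 33, 10, 18, 30, 13, 6, 27, 16, 9, 25, 19, 3, 26, 28, 12, 24, 11, 5, 8, 2, 29, 23, 20, 14, 17, 34, 36, 0, 37, 38, 39],
      ![36, 1, 23, 19, 31, 5, 13, 32, 8, 16, 33, 11, 28, 27, 14, 7, 25, 17, 10, 26, 20, 4, 22, 29, 12, 9, 3, 6, 24, 2, 30, 21, 15, 18, 0, 35, 34, 37, 38, 39],
      ![34, 1, 24, 3, 20, 31, 6, 14, 32, 9, 17, 33, 29, 8, 27, 15, 11, 25, 18, 5, 26, 21, 12, 23, 30, 10, 4, 7, 28, 22, 2, 19, 13, 16, 35, 0, 36, 37, 38, 39],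
      ![0, 38, 25, 28, 29, 30, 6, 7, 8, 21, 19, 20, 33, 13, 14, 15, 4, 5, 3, 24, 22, 23, 11, 9, 10, 31, 12, 27, 18, 16, 17, 2, 32, 26, 34, 35, 36, 37, 39, 1],
      ![0, 39, 26, 15, 13, 14, 28, 29, 30, 9, 10, 11, 31, 24, 22, 23, 16, 17, 18, 7, 8, 6, 5, 3, 4, 25, 32, 12, 21, 19, 20, 27, 2, 33, 34, 35, 36, 1, 38, 37],
      ![0, 37, 27, 3, 4, 5, 18, 16, 17, 28, 29, 30, 32, 10, 11, 9, 24, 22, 23, 19, 20, 21, 8, 6, 7, 12, 26, 33, 15, 13, 14, 31, 25, 2, 34, 35, 36, 38, 1, 39]],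
    ![![0, 1, 2, 4, 5, 3, 7, 8, 6, 10, 11, 9, 12, 14, 15, 13, 17, 18, 16, 20, 21, 19, 23, 24, 22, 25, 26, 27, 29, 30, 28, 31, 32, 33, 35, 36, 34, 37, 38, 39],
      ![0, 1, 2, 6, 7, 8, 9, 10, 11, 3, 4, 5, 12, 16, 17, 18, 19, 20, 21, 13, 14, 15, 22, 23, 24, 26, 27, 25, 28, 29, 30, 32, 33, 31, 34, 35, 36, 38, 39, 37],
      ![0, 1, 2, 11, 9, 10, 5, 3, 4, 8, 6, 7, 12, 13, 14, 15, 16, 17, 18, 19, 20, 21, 28, 29, 30, 31, 32, 33, 34, 35, 36, 37, 38, 39, 22, 23, 24, 25, 26, 27],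
      ![5, 9, 7, 3, 0, 4, 1, 11, 8, 6, 10, 2, 12, 13, 33, 23, 30, 17, 37, 26, 34, 21, 22, 38, 14, 25, 35, 16, 18, 29, 27, 20, 32, 24, 31, 19, 36, 28, 15, 39],
      ![3, 10, 8, 5, 4, 0, 6, 1, 9, 2, 7, 11, 12, 24, 14, 33, 37, 28, 18, 19, 26, 35, 15, 23, 38, 25, 36, 17, 27, 16, 30, 21, 32, 22, 34, 31, 20, 29, 13, 39],
      ![4, 11, 6, 0, 3, 5, 10, 7, 1, 9, 2, 8, 12, 33, 22, 15, 16, 37, 29, 36, 20, 26, 38, 13, 24, 25, 34, 18, 28, 27, 17, 19, 32, 23, 21, 35, 31, 30, 14, 39],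
      ![8, 3, 10, 9, 4, 2, 6, 0, 7, 1, 5, 11, 12, 27, 34, 15, 16, 31, 23, 30, 20, 38, 22, 39, 17, 19, 26, 35, 21, 29, 25, 24, 14, 33, 32, 13, 36, 37, 28, 18],
      ![6, 4, 11, 2, 10, 5, 8, 7, 0, 9, 1, 3, 12, 13, 27, 35, 24, 17, 31, 38, 28, 21, 18, 23, 39, 20, 26, 36, 25, 19, 30, 22, 15, 33, 34, 32, 14, 37, 29, 16],
      ![7, 5, 9, 3, 2, 11, 0, 6, 8, 4, 10, 1, 12, 36, 14, 27, 31, 22, 18, 19, 38, 29, 39, 16, 24, 21, 26, 34, 28, 25, 20, 23, 13, 33, 15, 35, 32, 37, 30, 17],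
      ![11, 6, 4, 1, 8, 5, 3, 7, 2, 9, 0, 10, 12, 30, 14, 39, 25, 34, 18, 19, 32, 23, 22, 37, 20, 35, 13, 27, 15, 29, 26, 31, 24, 17, 33, 16, 36, 21, 38, 28],
      ![9, 7, 5, 3, 1, 6, 2, 4, 8, 11, 10, 0, 12, 39, 28, 15, 16, 25, 35, 24, 20, 32, 21, 23, 37, 36, 14, 27, 26, 13, 30, 31, 22, 18, 34, 33, 17, 19, 38, 29],
      ![10, 8, 3, 7, 4, 1, 6, 2, 5, 0, 9, 11, 12, 13, 39, 29, 36, 17, 25, 32, 22, 21, 37, 19, 24, 34, 15, 27, 28, 26, 14, 31, 23, 16, 18, 35, 33, 20, 38, 30],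
      ![0, 1, 2, 3, 4, 5, 6, 7, 8, 9, 10, 11, 12, 21, 19, 20, 15, 13, 14, 18, 16, 17, 36, 34, 35, 39, 37, 38, 24, 22, 23, 27, 25, 26, 30, 28, 29, 33, 31, 32],
      ![15, 19, 2, 3, 38, 23, 35, 7, 32, 26, 29, 11, 17, 13, 0, 14, 1, 21, 18, 16, 20, 12, 22, 33, 4, 25, 30, 6, 28, 39, 9, 31, 36, 5, 34, 27, 8, 37, 24, 10],
      ![13, 20, 2, 24, 4, 38, 32, 36, 8, 9, 26, 30, 18, 15, 14, 0, 16, 1, 19, 12, 17, 21, 5, 23, 33, 25, 28, 7, 10, 29, 39, 31, 34, 3, 6, 35, 27, 37, 22, 11],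
      ![14, 21, 2, 38, 22, 5, 6, 32, 34, 28, 10, 26, 16, 0, 13, 15, 20, 17, 1, 19, 12, 18, 33, 3, 24, 25, 29, 8, 39, 11, 30, 31, 35, 4, 27, 7, 36, 37, 23, 9],
      ![18, 13, 2, 27, 29, 5, 6, 39, 23, 35, 10, 33, 20, 19, 14, 12, 16, 0, 17, 1, 15, 21, 22, 31, 7, 9, 26, 30, 28, 37, 3, 8, 32, 36, 34, 25, 11, 4, 38, 24],
      ![16, 14, 2, 3, 27, 30, 24, 7, 39, 33, 36, 11, 21, 12, 20, 15, 18, 17, 0, 19, 1, 13, 8, 23, 31, 10, 26, 28, 4, 29, 37, 6, 32, 34, 9, 35, 25, 5, 38, 22],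
      ![17, 15, 2, 28, 4, 27, 39, 22, 8, 9, 33, 34, 19, 13, 12, 21, 0, 16, 18, 14, 20, 1, 31, 6, 24, 11, 26, 29, 37, 5, 30, 7, 32, 35, 25, 10, 36, 3, 38, 23],
      ![21, 16, 2, 35, 4, 31, 25, 29, 8, 9, 37, 23, 14, 1, 18, 15, 13, 17, 12, 19, 0, 20, 22, 32, 10, 30, 3, 27, 28, 38, 6, 36, 11, 33, 34, 26, 5, 24, 7, 39],
      ![19, 17, 2, 31, 36, 5, 6, 25, 30, 24, 10, 37, 15, 13, 1, 16, 12, 14, 18, 21, 20, 0, 11, 23, 32, 28, 4, 27, 7, 29, 38, 34, 9, 33, 3, 35, 26, 22, 8, 39],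
      ![20, 18, 2, 3, 31, 34, 28, 7, 25, 37, 22, 11, 13, 17, 14, 1, 16, 12, 15, 0, 19, 21, 32, 9, 24, 29, 5, 27, 38, 8, 30, 35, 10, 33, 26, 4, 36, 23, 6, 39],
      ![24, 1, 34, 3, 33, 14, 6, 31, 17, 9, 32, 20, 29, 13, 38, 4, 16, 39, 7, 19, 37, 10, 22, 0, 23, 25, 26, 27, 2, 36, 30, 18, 21, 15, 28, 35, 12, 11, 5, 8],
      ![22, 1, 35, 15, 4, 33, 18, 7, 31, 21, 10, 32, 30, 5, 14, 38, 8, 17, 39, 11, 20, 37, 24, 23, 0, 25, 26, 27, 28, 2, 34, 16, 19, 13, 12, 29, 36, 9, 3, 6],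
      ![23, 1, 36, 33, 13, 5, 31, 16, 8, 32, 19, 11, 28, 38, 3, 15, 39, 6, 18, 37, 9, 21, 0, 22, 24, 25, 26, 27, 35, 29, 2, 17, 20, 14, 34, 12, 30, 10, 4, 7],
      ![0, 27, 37, 3, 4, 5, 30, 28, 29, 16, 17, 18, 32, 13, 14, 15, 35, 36, 34, 6, 7, 8, 22, 23, 24, 25, 1, 26, 20, 21, 19, 2, 39, 33, 11, 9, 10, 31, 38, 12],
      ![0, 25, 38, 19, 20, 21, 6, 7, 8, 30, 28, 29, 33, 9, 10, 11, 16, 17, 18, 35, 36, 34, 22, 23, 24, 27, 26, 1, 14, 15, 13, 31, 2, 37, 5, 3, 4, 12, 32, 39],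
      ![0, 26, 39, 30, 28, 29, 13, 14, 15, 9, 10, 11, 31, 35, 36, 34, 3, 4, 5, 19, 20, 21, 22, 23, 24, 1, 25, 27, 17, 18, 16, 38, 32, 2, 8, 6, 7, 37, 12, 33],
      ![30, 1, 22, 37, 17, 5, 38, 20, 8, 39, 14, 11, 35, 13, 26, 9, 16, 27, 3, 19, 25, 6, 34, 23, 12, 7, 10, 4, 28, 0, 29, 31, 32, 33, 2, 24, 36, 18, 21, 15],
      ![28, 1, 23, 3, 37, 18, 6, 38, 21, 9, 39, 15, 36, 10, 14, 26, 4, 17, 27, 7, 20, 25, 12, 35, 24, 8, 11, 5, 30, 29, 0, 31, 32, 33, 34, 2, 22, 16, 19, 13],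
      ![29, 1, 24, 16, 4, 37, 19, 7, 38, 13, 10, 39, 34, 26, 11, 15, 27, 5, 18, 25, 8, 21, 22, 12, 36, 6, 9, 3, 0, 28, 30, 31, 32, 33, 23, 35, 2, 17, 20, 14],
      ![0, 33, 25, 34, 35, 36, 17, 18, 16, 9, 10, 11, 38, 13, 14, 15, 23, 24, 22, 5, 3, 4, 7, 8, 6, 37, 26, 12, 28, 29, 30, 31, 1, 32, 20, 21, 19, 2, 27, 39],
      ![0, 31, 26, 3, 4, 5, 34, 35, 36, 20, 21, 19, 39, 8, 6, 7, 16, 17, 18, 23, 24, 22, 10, 11, 9, 12, 38, 27, 28, 29, 30, 33, 32, 1, 14, 15, 13, 37, 2, 25],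
      ![0, 32, 27, 14, 15, 13, 6, 7, 8, 34, 35, 36, 37, 23, 24, 22, 11, 9, 10, 19, 20, 21, 4, 5, 3, 25, 12, 39, 28, 29, 30, 1, 31, 33, 17, 18, 16, 26, 38, 2],
      ![36, 1, 28, 20, 4, 26, 14, 7, 27, 17, 10, 25, 23, 13, 32, 8, 16, 33, 11, 19, 31, 5, 2, 30, 24, 18, 21, 15, 22, 29, 12, 3, 6, 9, 34, 0, 35, 37, 38, 39],
      ![34, 1, 29, 26, 21, 5, 27, 15, 8, 25, 18, 11, 24, 6, 14, 32, 9, 17, 33, 3, 20, 31, 22, 2, 28, 16, 19, 13, 12, 23, 30, 4, 7, 10, 36, 35, 0, 37, 38, 39],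
      ![35, 1, 30, 3, 26, 19, 6, 27, 13, 9, 25, 16, 22, 32, 7, 15, 33, 10, 18, 31, 4, 21, 29, 23, 2, 17, 20, 14, 28, 12, 24, 5, 8, 11, 0, 34, 36, 37, 38, 39],
      ![0, 39, 31, 18, 16, 17, 6, 7, 8, 23, 24, 22, 26, 13, 14, 15, 29, 30, 28, 10, 11, 9, 20, 21, 19, 2, 33, 27, 3, 4, 5, 25, 32, 12, 34, 35, 36, 37, 1, 38],
      ![0, 37, 32, 23, 24, 22, 21, 19, 20, 9, 10, 11, 27, 4, 5, 3, 16, 17, 18, 29, 30, 28, 14, 15, 13, 25, 2, 31, 6, 7, 8, 12, 26, 33, 34, 35, 36, 39, 38, 1],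
      ![0, 38, 33, 3, 4, 5, 23, 24, 22, 15, 13, 14, 25, 29, 30, 28, 7, 8, 6, 19, 20, 21, 17, 18, 16, 32, 26, 2, 9, 10, 11, 31, 12, 27, 34, 35, 36, 1, 37, 39]]]

/-- Addition of codes. -/
def add4 : Fin 4 → Fin 4 → Fin 4 := ![![0, 1, 2, 3], ![1, 0, 3, 2], ![2, 3, 0, 1], ![3, 2, 1, 0]]

/-- Multiplication of codes. -/
def mul4 : Fin 4 → Fin 4 → Fin 4 := ![![0, 0, 0, 0], ![0, 1, 2, 3], ![0, 2, 3, 1], ![0, 3, 1, 2]]

/-- The coded hermitian form. -/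
def herm4 (x y : Fin 4 → Fin 4) : Fin 4 :=
  add4 (add4 (add4 (mul4 (x 0) (mul4 (y 0) (y 0))) (mul4 (x 1) (mul4 (y 1) (y 1))))
    (mul4 (x 2) (mul4 (y 2) (y 2)))) (mul4 (x 3) (mul4 (y 3) (y 3)))

/-- The multiplier of the two pseudo-reflections. -/
def mult : Fin 2 → Fin 4 := ![2, 3]

/-- Signs. -/
def sign : Fin 2 → ZMod 3 := ![1, -1]

/-- Coded image of `x` under the pseudo-reflection at the `k`-th point. -/
def sCode (ε : Fin 2) (k : Fin 40) (x : Fin 4 → Fin 4) : Fin 4 → Fin 4 :=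
  fun i => mul4 (mult ε) (add4 (x i) (mul4 (mul4 (mult ε) (herm4 x (unitPt k))) (unitPt k i)))

/-- Coded symplectic form. -/
def symp3 (x y : Fin 4 → ZMod 3) : ZMod 3 := x 2 * y 0 - x 0 * y 2 + (x 3 * y 1 - x 1 * y 3)

/-- Coded image of `x` under a transvection at the `k`-th point. -/
def tCode (ε : Fin 2) (k : Fin 40) (x : Fin 4 → ZMod 3) : Fin 4 → ZMod 3 :=
  fun i => x i + sign ε * symp3 x (sympPt k) * sympPt k i

theorem t_target : ∀ ε k i, ∃ a : ZMod 3, a ≠ 0 ∧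
    ∀ l, tCode ε k (sympPt i) l = a * sympPt (target ε k i) l := by
  decide +kernel

theorem s_target : ∀ ε k i, ∃ a : Fin 4, a ≠ 0 ∧
    ∀ l, sCode ε k (unitPt i) l = mul4 a (unitPt (target ε k i) l) := by
  decide +kernel

theorem unit_cover : ∀ a b c d : Fin 4, herm4 ![a, b, c, d] ![a, b, c, d] = 1 →
    ∃ k r, r ≠ 0 ∧ ∀ l, ![a, b, c, d] l = mul4 r (unitPt k l) := by
  decide +kernel

theorem symp_cover : ∀ a b c d : ZMod 3, (∃ l, ![a, b, c, d] l ≠ 0) →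
    ∃ k r, r ≠ 0 ∧ ∀ l, ![a, b, c, d] l = r * sympPt k l := by
  decide +kernel

theorem unit_distinct : ∀ j k (r : Fin 4), (∀ l, unitPt j l = mul4 r (unitPt k l)) → j = k := by
  decide +kernel

theorem symp_distinct : ∀ j k (r : ZMod 3), (∀ l, sympPt j l = r * sympPt k l) → j = k := by
  decide +kernel

theorem unit_norm : ∀ k, herm4 (unitPt k) (unitPt k) = 1 := by decide +kernel

theorem symp_ne_zero : ∀ k, ∃ l, sympPt k l ≠ 0 := by decide +kernel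

theorem mult_spec : ∀ ε, mult ε ≠ 0 ∧ add4 (add4 (mul4 (mult ε) (mult ε)) (mult ε)) 1 = 0 := by
  decide +kernel

theorem sign_cover : ∀ s r : ZMod 3, s ≠ 0 → r ≠ 0 → ∃ ε, sign ε = s * r * r := by decide +kernel

theorem target_moves : ∃ ε k i, target ε k i ≠ i := by decide +kernel

/-- Permutation action of a matrix group on a list of projective points. -/
theorem exists_pointHom {G F ι : Type*} [Group G] [Field F] [Fintype ι] [DecidableEq ι] {n : ℕ}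
    (ρ : G →* Matrix ι ι F) (p : Fin n → ι → F)
    (hcov : ∀ g i, ∃ j, ∃ a : F, a ≠ 0 ∧ ρ g *ᵥ p i = a • p j)
    (hinj : ∀ j k, ∀ a : F, p j = a • p k → j = k) :
    ∃ φ : G →* Equiv.Perm (Fin n), ∀ g i j, (∃ a : F, a ≠ 0 ∧ ρ g *ᵥ p i = a • p j) → φ g i = j := by
  choose π a ha hπ using hcov
  have huniq : ∀ g i j, (∃ b : F, b ≠ 0 ∧ ρ g *ᵥ p i = b • p j) → π g i = j := by
    rintro g i j ⟨b, -, hb⟩
    refine hinj _ _ ((a g i)⁻¹ * b) ?_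
    rw [← smul_smul, ← hb, hπ, smul_smul, inv_mul_cancel₀ (ha g i), one_smul]
  have hone : ∀ i, π 1 i = i := fun i =>
    huniq 1 i i ⟨1, one_ne_zero, by rw [map_one, one_mulVec, one_smul]⟩
  have hmul : ∀ g h i, π (g * h) i = π g (π h i) := fun g h i => huniq _ _ _
    ⟨a h i * a g (π h i), mul_ne_zero (ha _ _) (ha _ _),
      by rw [map_mul, ← mulVec_mulVec, hπ h i, mulVec_smul, hπ g, smul_smul]⟩
  exact ⟨{ toFun := fun g => ⟨π g, π g⁻¹, fun i => by rw [← hmul, inv_mul_cancel, hone],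
        fun i => by rw [← hmul, mul_inv_cancel, hone]⟩
           map_one' := Equiv.ext hone
           map_mul' := fun g h => Equiv.ext (hmul g h) }, huniq⟩

section Four

variable {F : Type*} [Field F] (w : F)

/-- Decoding. -/
def dec : Fin 4 → F := ![0, 1, w, w ^ 2]

variable {w} (h2 : (2 : F) = 0) (hw : w ^ 2 + w + 1 = 0)

include h2 hw in
theorem dec_add : ∀ a b, dec w (add4 a b) = dec w a + dec w b := by
  intro a b
  fin_cases a <;> fin_cases b <;> simp [dec, add4] <;> grind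

include hw in
theorem dec_mul : ∀ a b, dec w (mul4 a b) = dec w a * dec w b := by
  intro a b
  fin_cases a <;> fin_cases b <;> simp [dec, mul4] <;> grind

include h2 hw in
theorem dec_injective : Function.Injective (dec w) := by
  intro a b h
  have h0 : w ≠ 0 := fun e => by rw [e] at hw; simp at hw
  have h1 : w ≠ 1 := fun e => one_ne_zero (α := F) (by rw [e] at hw; linear_combination hw - h2)
  have h3 : w ^ 2 ≠ 1 := fun e => h0 (by linear_combination hw - e - h2)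
  have h4 : w ^ 2 ≠ w := fun e => h1 (mul_left_cancel₀ h0 (by linear_combination e))
  fin_cases a <;> fin_cases b <;> simp [dec] at h ⊢ <;> grind

/-- Decoded vectors. -/
def decVec (w : F) (x : Fin 4 → Fin 4) : Fin 4 → F := fun i => dec w (x i)

include h2 hw in
theorem dec_herm (x y : Fin 4 → Fin 4) :
    Cfsg.hermForm 4 F 2 (decVec w x) (decVec w y) = dec w (herm4 x y) := by
  simp [Cfsg.hermForm, herm4, decVec, Fin.sum_univ_four, dec_add h2 hw, dec_mul hw, sq]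

include h2 hw in
theorem decVec_surjective [Fintype F] (hF : Fintype.card F = 4) (v : Fin 4 → F) :
    ∃ a b c d, decVec w ![a, b, c, d] = v := by
  have hs : Function.Surjective (dec w) :=
    ((Fintype.bijective_iff_injective_and_card _).2 ⟨dec_injective h2 hw, by simp [hF]⟩).2
  choose f hf using hs
  refine ⟨f (v 0), f (v 1), f (v 2), f (v 3), funext fun i => ?_⟩
  fin_cases i <;> simp [decVec, hf]

include h2 hw in
/-- The pseudo-reflections lie in `SU(4,2)`. -/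
theorem exists_refl [Fintype F] (hF : Fintype.card F = 2 ^ 2) (ε : Fin 2) (k : Fin 40) :
    ∃ g : Cfsg.SU 4 F 2, ∀ x, g.1.1 *ᵥ decVec w x = decVec w (sCode ε k x) := by
  classical
  obtain ⟨hm0, hmq⟩ := mult_spec ε
  set μ := dec w (mult ε) with hμ
  have hμq : μ * μ + μ + 1 = 0 := by
    have e := congrArg (dec w) hmq
    rw [dec_add h2 hw, dec_add h2 hw, dec_mul hw] at e
    simpa [dec, hμ] using e
  set p := decVec w (unitPt k) with hp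
  have hpp : Cfsg.hermForm 4 F 2 p p = 1 := by
    rw [hp, dec_herm h2 hw, unit_norm]
    rfl
  set A : Matrix (Fin 4) (Fin 4) F := μ • Cfsg.unitaryTransvection 4 2 p μ with hA
  have hdet : A.det = 1 := by
    have hdot : (fun j => p j ^ 2) ⬝ᵥ (μ • p) = μ := by
      rw [dotProduct_smul, smul_eq_mul]
      conv_rhs => rw [← mul_one μ, ← hpp]
      simp only [Cfsg.hermForm, dotProduct]
      congr 1
      exact Finset.sum_congr rfl fun i _ => mul_comm _ _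
    rw [hA, Cfsg.unitaryTransvection, det_smul, ← smul_vecMulVec, vecMulVec_eq Unit,
      det_one_add_replicateCol_mul_replicateRow, hdot, Fintype.card_fin]
    linear_combination (μ ^ 3 + μ ^ 2 - μ) * h2 * 0 + (μ ^ 3 - μ + 1) * hμq - 1 * h2
  have hmv : ∀ x, A *ᵥ x = μ • (x + (μ * Cfsg.hermForm 4 F 2 x p) • p) := fun x => by
    rw [hA, smul_mulVec, ClassicalSimple.unitaryTransvection_mulVec hF, hermB_apply]
  refine ⟨⟨⟨A, hdet⟩, ?_⟩, fun x => ?_⟩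
  · refine (ClassicalSimple.mem_SU_iff hF _).2 fun x y => ?_
    show hermB hF 4 (A *ᵥ x) (A *ᵥ y) = _
    rw [hmv, hmv]
    have hsw : ∀ u, Cfsg.hermForm 4 F 2 p u = (Cfsg.hermForm 4 F 2 u p) ^ 2 := fun u => by
      rw [← hermForm_swap hF u p, qEnd_apply]
    have h4 : Cfsg.hermForm 4 F 2 x p ^ 4 = Cfsg.hermForm 4 F 2 x p := by
      have := FiniteField.pow_card (Cfsg.hermForm 4 F 2 x p)
      rwa [hF] at this
    simp only [map_smulₛₗ, map_add, LinearMap.add_apply, LinearMap.smul_apply, map_smul,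
      RingHom.id_apply, smul_eq_mul, qEnd_apply, hermB_apply, hpp, mul_pow, mul_one]
    rw [hsw x]
    linear_combination (Cfsg.hermForm 4 F 2 y x * (μ - 1) + Cfsg.hermForm 4 F 2 y p * Cfsg.hermForm 4 F 2 x p ^ 2 *
      μ ^ 4) * hμq
  · funext i
    show (A *ᵥ decVec w x) i = _
    rw [hmv, hp, dec_herm h2 hw]
    simp [decVec, sCode, dec_add h2 hw, dec_mul hw, hμ]

end Four

section Three

variable {K : Type*} [Field K] [CharP K 3]

/-- Decoded symplectic vectors. -/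
def symVec (x : Fin 4 → ZMod 3) : Fin 2 ⊕ Fin 2 → K :=
  Sum.elim ![ZMod.castHom dvd_rfl K (x 0), ZMod.castHom dvd_rfl K (x 1)]
    ![ZMod.castHom dvd_rfl K (x 2), ZMod.castHom dvd_rfl K (x 3)]

theorem symVec_surjective [Fintype K] (hK : Fintype.card K = 3) (v : Fin 2 ⊕ Fin 2 → K) :
    ∃ a b c d, symVec ![a, b, c, d] = v := by
  have hs : Function.Surjective (ZMod.castHom dvd_rfl K : ZMod 3 →+* K) :=
    ((Fintype.bijective_iff_injective_and_card _).2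
      ⟨(ZMod.castHom dvd_rfl K).injective, by simp [hK]⟩).2
  choose f hf using hs
  refine ⟨f (v (.inl 0)), f (v (.inl 1)), f (v (.inr 0)), f (v (.inr 1)), funext fun i => ?_⟩
  rcases i with i | i <;> fin_cases i <;> simp [symVec, hf]

theorem symVec_smul (r : ZMod 3) (x : Fin 4 → ZMod 3) :
    symVec (K := K) (fun l => r * x l) = ZMod.castHom dvd_rfl K r • symVec x := by
  funext i
  rcases i with i | i <;> fin_cases i <;> simp [symVec]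

theorem symVec_injective : Function.Injective (symVec (K := K)) := fun x y h => funext fun i => by
  have hi := (ZMod.castHom dvd_rfl K : ZMod 3 →+* K).injective
  fin_cases i
  exacts [hi (congrFun h (.inl 0)), hi (congrFun h (.inl 1)), hi (congrFun h (.inr 0)),
    hi (congrFun h (.inr 1))]

theorem symVec_transvection (ε : Fin 2) (k : Fin 40) (x : Fin 4 → ZMod 3) :
    Cfsg.sympTransvection 2 (symVec (K := K) (sympPt k)) (ZMod.castHom dvd_rfl K (sign ε)) *ᵥ symVec x =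
      symVec (tCode ε k x) := by
  rw [ClassicalSimple.sympTransvection_mulVec, ClassicalSimple.sympBilin_apply, sympForm_eq_sum,
    Fin.sum_univ_two]
  funext i
  rcases i with i | i <;> fin_cases i <;>
    simp [symVec, tCode, symp3, map_add, map_sub, map_mul]

end Three

/-- `PSU(4,2) ≅ PSp(4,3)`. -/
theorem nonempty_iso {F K : Type*} [Field F] [Fintype F] [Field K] [Fintype K]
    (hF : Fintype.card F = 4) (hK : Fintype.card K = 3)
    (hsimpU : IsSimpleGroup (Cfsg.PSU 4 F 2)) (hsimpS : IsSimpleGroup (Cfsg.PSp 2 K))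
    (hcardU : Nat.card (Cfsg.PSU 4 F 2) = Nat.card (Cfsg.PSp 2 K))
    (hcenS : ∀ g ∈ Subgroup.center (Matrix.symplecticGroup (Fin 2) K), ∃ c : K, c * c = 1 ∧
      g.1 = c • (1 : Matrix (Fin 2 ⊕ Fin 2) (Fin 2 ⊕ Fin 2) K)) :
    Nonempty (Cfsg.PSU 4 F 2 ≃* Cfsg.PSp 2 K) := by
  classical
  have hF' : Fintype.card F = 2 ^ 2 := hF
  haveI : CharP K 3 := by
    haveI : Fact (Nat.Prime 3) := ⟨Nat.prime_three⟩
    exact charP_of_card_eq_prime (by rw [hK])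
  have h2 : (2 : F) = 0 := by
    have h4 : ((4 : ℕ) : F) = 0 := by rw [← hF]; exact Nat.cast_card_eq_zero F
    have : (2 : F) * 2 = 0 := by rw [← h4]; norm_num
    exact mul_self_eq_zero.1 this
  obtain ⟨w, hw⟩ : ∃ w : F, w ^ 2 + w + 1 = 0 := by
    obtain ⟨w, -, hw01⟩ := Finset.exists_mem_notMem_of_card_lt_card
      (s := ({0, 1} : Finset F)) (t := Finset.univ)
      (Finset.card_le_two.trans_lt (by rw [Finset.card_univ, hF]; norm_num))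
    simp only [Finset.mem_insert, Finset.mem_singleton, not_or] at hw01
    have h3 : w ^ 3 = 1 := by simpa [hF] using FiniteField.pow_card_sub_one_eq_one w hw01.1
    exact ⟨w, mul_left_cancel₀ (sub_ne_zero.2 hw01.2) (by linear_combination h3)⟩
  have hdz : ∀ a : Fin 4, a ≠ 0 → dec w a ≠ 0 := fun a ha h =>
    ha (dec_injective h2 hw (h.trans (by simp [dec])))
  have hdsmul : ∀ (r : Fin 4) (x : Fin 4 → Fin 4),
      decVec w (fun l => mul4 r (x l)) = dec w r • decVec w x := fun r x => funext fun l => by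
    simp [decVec, dec_mul hw]
  -- unitary action
  let ρU : Cfsg.SU 4 F 2 →* Matrix (Fin 4) (Fin 4) F :=
    (Cfsg.slToMat 4 F).comp (Cfsg.SU 4 F 2).subtype
  have hρU : ∀ g, ρU g = g.1.1 := fun g => rfl
  obtain ⟨φU, hφU⟩ := exists_pointHom ρU (fun i => decVec w (unitPt i))
    (fun g i => by
      obtain ⟨a, b, c, d, hv⟩ := decVec_surjective h2 hw hF (ρU g *ᵥ decVec w (unitPt i))
      have hn : herm4 ![a, b, c, d] ![a, b, c, d] = 1 := by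
        apply dec_injective h2 hw
        rw [← dec_herm h2 hw, hv]
        refine (g.2 _ _).trans ?_
        rw [dec_herm h2 hw, unit_norm]
      obtain ⟨j, r, hr, hl⟩ := unit_cover a b c d hn
      exact ⟨j, dec w r, hdz r hr, by rw [← hv, ← hdsmul, ← funext hl]⟩)
    (fun j k x h => by
      obtain ⟨r, rfl⟩ := ((Fintype.bijective_iff_injective_and_card (dec w)).2
        ⟨dec_injective h2 hw, by simp [hF]⟩).2 x
      exact unit_distinct j k r fun l => dec_injective h2 hw (by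
        simpa [decVec, dec_mul hw] using congrFun h l))
  -- symplectic action
  let e3 : ZMod 3 →+* K := ZMod.castHom dvd_rfl K
  let ρS : Matrix.symplecticGroup (Fin 2) K →* Matrix (Fin 2 ⊕ Fin 2) (Fin 2 ⊕ Fin 2) K :=
    (Matrix.symplecticGroup (Fin 2) K).subtype
  obtain ⟨φS, hφS⟩ := exists_pointHom ρS (fun i => symVec (sympPt i))
    (fun g i => by
      obtain ⟨a, b, c, d, hv⟩ := symVec_surjective hK (ρS g *ᵥ symVec (sympPt i))
      have hne : ∃ l, ![a, b, c, d] l ≠ 0 := by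
        by_contra h0
        push Not at h0
        obtain ⟨l, hl⟩ := symp_ne_zero i
        apply hl
        have hz : ρS g *ᵥ symVec (sympPt i) = 0 := by
          rw [← hv, funext h0]
          funext t
          rcases t with t | t <;> fin_cases t <;> simp [symVec]
        have h1 : symVec (K := K) (sympPt i) = 0 := by
          have h' := congrArg (ρS g⁻¹ *ᵥ ·) hz
          simpa only [mulVec_mulVec, ← map_mul, inv_mul_cancel, map_one, one_mulVec, mulVec_zero]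
            using h'
        have h2' : sympPt i = 0 := symVec_injective (K := K) (h1.trans (by
          funext t; rcases t with t | t <;> fin_cases t <;> simp [symVec]))
        exact congrFun h2' l
      obtain ⟨j, r, hr, hl⟩ := symp_cover a b c d hne
      refine ⟨j, e3 r, (map_ne_zero e3).2 hr, ?_⟩
      rw [← hv, ← symVec_smul, ← funext hl])
    (fun j k x h => by
      obtain ⟨r, rfl⟩ := ((Fintype.bijective_iff_injective_and_card e3).2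
        ⟨e3.injective, by simp [hK]⟩).2 x
      rw [← symVec_smul] at h
      exact symp_distinct j k r (congrFun (symVec_injective h)))
  -- transvections are pseudo-reflections
  have hgen : ∀ ε k, ∃ g : Cfsg.SU 4 F 2, φU g =
      φS (ClassicalSimple.sympTransvectionElt (symVec (sympPt k)) (e3 (sign ε))) := by
    intro ε k
    obtain ⟨g, hg⟩ := exists_refl h2 hw hF' ε k
    refine ⟨g, Equiv.ext fun i => ?_⟩
    obtain ⟨a, ha, ha'⟩ := s_target ε k i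
    obtain ⟨b, hb, hb'⟩ := t_target ε k i
    rw [hφU g i (target ε k i) ⟨dec w a, hdz a ha, by
        rw [hρU, hg, ← hdsmul, ← funext ha']⟩,
      hφS _ i (target ε k i) ⟨e3 b, (map_ne_zero e3).2 hb, by
        refine (symVec_transvection ε k (sympPt i)).trans ?_
        rw [← symVec_smul, ← funext hb']⟩]
  have hle : φS.range ≤ φU.range := by
    rw [MonoidHom.range_eq_map, ← ClassicalSimple.closure_sympTransvectionSet, MonoidHom.map_closure,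
      Subgroup.closure_le]
    rintro _ ⟨A, ⟨v, c, hA⟩, rfl⟩
    rw [show A = ClassicalSimple.sympTransvectionElt v c from Subtype.ext hA]
    rcases eq_or_ne v 0 with rfl | hv
    · rw [show ClassicalSimple.sympTransvectionElt (0 : Fin 2 ⊕ Fin 2 → K) c = 1 from
        Subtype.ext (by simp [ClassicalSimple.sympTransvectionElt, Cfsg.sympTransvection]), map_one]
      exact one_mem _
    rcases eq_or_ne c 0 with rfl | hc
    · rw [show ClassicalSimple.sympTransvectionElt v (0 : K) = 1 from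
        Subtype.ext (by simp [ClassicalSimple.sympTransvectionElt, Cfsg.sympTransvection]), map_one]
      exact one_mem _
    obtain ⟨a, b, c', d, hvv⟩ := symVec_surjective hK v
    have hne : ∃ l, ![a, b, c', d] l ≠ 0 := by
      by_contra h0
      push Not at h0
      apply hv
      rw [← hvv, funext h0]
      funext t
      rcases t with t | t <;> fin_cases t <;> simp [symVec]
    obtain ⟨k, r, hr, hl⟩ := symp_cover a b c' d hne
    obtain ⟨s, rfl⟩ := ((Fintype.bijective_iff_injective_and_card e3).2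
      ⟨e3.injective, by simp [hK]⟩).2 c
    have hv' : v = e3 r • symVec (sympPt k) := by rw [← hvv, ← symVec_smul, ← funext hl]
    obtain ⟨ε, hε⟩ : ∃ ε, sign ε = s * r * r := by
      exact sign_cover s r (fun h => hc (by rw [h, map_zero])) hr
    obtain ⟨g, hg⟩ := hgen ε k
    refine ⟨g, hg.trans (congrArg φS (Subtype.ext ?_))⟩
    show Cfsg.sympTransvection 2 (symVec (sympPt k)) (e3 (sign ε)) = Cfsg.sympTransvection 2 v (e3 s)
    rw [hv', hε, map_mul, map_mul, Cfsg.sympTransvection, Cfsg.sympTransvection, mulVec_smul,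
      vecMulVec_smul, smul_vecMulVec, smul_smul, smul_smul]

  -- both actions descend injectively
  have hkerS : Subgroup.center (Matrix.symplecticGroup (Fin 2) K) ≤ φS.ker := by
    intro g hg
    obtain ⟨c, hc, hgc⟩ := hcenS g hg
    refine MonoidHom.mem_ker.2 (Equiv.ext fun i => hφS g i i ⟨c, ?_, ?_⟩)
    · rintro rfl
      simp at hc
    · show g.1 *ᵥ _ = _
      rw [hgc, smul_mulVec, one_mulVec]
  have hcU : Subgroup.center (Cfsg.SU 4 F 2) = ⊥ := by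
    rw [Subgroup.eq_bot_iff_card, card_center_SU hF' (by norm_num)]
    rfl
  let ψS : Cfsg.PSp 2 K →* Equiv.Perm (Fin 40) := QuotientGroup.lift _ φS hkerS
  let ψU : Cfsg.PSU 4 F 2 →* Equiv.Perm (Fin 40) := QuotientGroup.lift _ φU (by rw [hcU]; exact bot_le)
  have hrS : ψS.range = φS.range := by
    rw [show φS = ψS.comp (QuotientGroup.mk' _) from MonoidHom.ext fun g => rfl, MonoidHom.range_comp,
      MonoidHom.range_eq_top.2 (QuotientGroup.mk'_surjective _), ← MonoidHom.range_eq_map]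
  have hrU : ψU.range = φU.range := by
    rw [show φU = ψU.comp (QuotientGroup.mk' _) from MonoidHom.ext fun g => rfl, MonoidHom.range_comp,
      MonoidHom.range_eq_top.2 (QuotientGroup.mk'_surjective _), ← MonoidHom.range_eq_map]
  obtain ⟨ε, k, i, hmove⟩ := target_moves
  have hneS : φS (ClassicalSimple.sympTransvectionElt (symVec (sympPt k)) (e3 (sign ε))) ≠ 1 := fun h => by
    obtain ⟨b, hb, hb'⟩ := t_target ε k i
    apply hmove
    rw [← hφS (ClassicalSimple.sympTransvectionElt (symVec (sympPt k)) (e3 (sign ε))) i (target ε k i) ⟨e3 b, (map_ne_zero e3).2 hb, by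
        refine (symVec_transvection ε k (sympPt i)).trans ?_
        rw [← symVec_smul, ← funext hb']⟩, h]
    rfl
  have hiS : Function.Injective ψS := by
    rw [← MonoidHom.ker_eq_bot_iff]
    refine (ψS.normal_ker.eq_bot_or_eq_top).resolve_right fun h => hneS ?_
    have hm := Subgroup.mem_top (QuotientGroup.mk
      (ClassicalSimple.sympTransvectionElt (symVec (K := K) (sympPt k)) (e3 (sign ε))) : Cfsg.PSp 2 K)
    rw [← h] at hm
    exact MonoidHom.mem_ker.1 hm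
  have hiU : Function.Injective ψU := by
    rw [← MonoidHom.ker_eq_bot_iff]
    refine (ψU.normal_ker.eq_bot_or_eq_top).resolve_right fun h => hneS ?_
    obtain ⟨g, hg⟩ := hgen ε k
    rw [← hg]
    have hm := Subgroup.mem_top (QuotientGroup.mk g : Cfsg.PSU 4 F 2)
    rw [← h] at hm
    exact MonoidHom.mem_ker.1 hm
  have heq : ψS.range = ψU.range := by
    haveI : Finite ψU.range := inferInstance
    refine Subgroup.eq_of_le_of_card_ge (by rw [hrS, hrU]; exact hle) ?_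
    rw [← Nat.card_congr (MonoidHom.ofInjective hiS).toEquiv,
      ← Nat.card_congr (MonoidHom.ofInjective hiU).toEquiv, hcardU]
  exact ⟨(MonoidHom.ofInjective hiU).trans
    ((MulEquiv.subgroupCongr heq.symm).trans (MonoidHom.ofInjective hiS).symm)⟩

end Cfsg.Agent.Forms.SmallPSU4
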