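/-
Centralisers of involutions in characteristic two: the model `(α, γ, w) ↦ (α, γ + α, w)` for the forms
`α G γ' + γ G α' + f(w, w')` and `α G γ + q(w)`, and the order of its centraliser.
-/
import Cfsg.Agent.Lib.Forms.Isom
import Mathlib.Data.Sym.Card

set_option autoImplicit false
set_option linter.unusedSectionVars false

namespace Cfsg.Agent.Forms.CentTwo

open scoped Matrix
open Module (finrank)

variable {F : Type*} [Field F] [CharP F 2] {ι : Type} [Fintype ι] [DecidableEq ι]
  {C : Type*} [AddCommGroup C] [Module F C]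

local notation "𝕄" => ((ι → F) × (ι → F)) × C

/-- `a G b`. -/
def pair (G : Matrix ι ι F) (a b : ι → F) : F := a ⬝ᵥ (G *ᵥ b)

theorem pair_comm {G : Matrix ι ι F} (hG : Gᵀ = G) (a b : ι → F) : pair G a b = pair G b a := by
  rw [pair, pair, dotProduct_comm, ← Matrix.vecMul_transpose, hG, ← Matrix.dotProduct_mulVec]

theorem pair_single (G : Matrix ι ι F) (i j : ι) : pair G (Pi.single i 1) (Pi.single j 1) = G i j := by
  simp [pair, Matrix.mulVec_single]

/-- `α G γ'`. -/
noncomputable def cross (G : Matrix ι ι F) : LinearMap.BilinForm F 𝕄 :=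
  (Matrix.toBilin' G).compl₁₂ ((LinearMap.fst F (ι → F) (ι → F)) ∘ₗ LinearMap.fst F _ C)
    ((LinearMap.snd F (ι → F) (ι → F)) ∘ₗ LinearMap.fst F _ C)

theorem cross_apply (G : Matrix ι ι F) (p q : 𝕄) : cross G p q = pair G p.1.1 q.1.2 := by
  simp [cross, pair, Matrix.toBilin'_apply']

/-- The bilinear form of the model. -/
noncomputable def bB (G : Matrix ι ι F) (fC : LinearMap.BilinForm F C) : LinearMap.BilinForm F 𝕄 :=
  cross G + (cross G).flip + fC.compl₁₂ (LinearMap.snd F _ C) (LinearMap.snd F _ C)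

theorem bB_apply (G : Matrix ι ι F) (fC : LinearMap.BilinForm F C) (p q : 𝕄) :
    bB G fC p q = pair G p.1.1 q.1.2 + pair G q.1.1 p.1.2 + fC p.2 q.2 := by
  simp [bB, cross_apply]

/-- The quadratic form of the model. -/
noncomputable def qq (G : Matrix ι ι F) (qC : QuadraticForm F C) : QuadraticForm F 𝕄 :=
  (cross G).toQuadraticMap + qC.comp (LinearMap.snd F _ C)

theorem qq_apply (G : Matrix ι ι F) (qC : QuadraticForm F C) (p : 𝕄) :
    qq G qC p = pair G p.1.1 p.1.2 + qC p.2 := by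
  simp [qq, cross_apply]

theorem qq_add (G : Matrix ι ι F) (qC : QuadraticForm F C) (p q : 𝕄) :
    qq G qC (p + q) = qq G qC p + qq G qC q + bB G (QuadraticMap.polarBilin qC) p q := by
  have e : qC (p.2 + q.2) = qC p.2 + qC q.2 + QuadraticMap.polarBilin qC p.2 q.2 := by
    simp [QuadraticMap.polar]
  simp only [qq_apply, bB_apply, Prod.fst_add, Prod.snd_add, e]
  simp only [pair, Matrix.mulVec_add, add_dotProduct, dotProduct_add]
  ring

/-- The model of `t - 1`. -/
def nn : 𝕄 →ₗ[F] 𝕄 where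
  toFun p := ((0, p.1.1), 0)
  map_add' p q := by simp
  map_smul' r p := by simp

theorem nn_apply (p : 𝕄) : nn p = (((0, p.1.1), 0) : 𝕄) := rfl

/-- Rows of the projections of a tuple. -/
def rowA (x : ι → 𝕄) : Matrix ι ι F := Matrix.of fun i => (x i).1.1

theorem pair_rows (G : Matrix ι ι F) (x : ι → 𝕄) (i j : ι) :
    pair G (x i).1.1 (x j).1.1 = (rowA x * G * (rowA x)ᵀ) i j := by
  simp only [pair, rowA, Matrix.mul_apply, Matrix.transpose_apply, Matrix.of_apply, dotProduct,
    Matrix.mulVec, Finset.mul_sum, Finset.sum_mul]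
  rw [Finset.sum_comm]
  exact Finset.sum_congr rfl fun a _ => Finset.sum_congr rfl fun b _ => by ring

/-- The matrices fixing `G`. -/
def Orth (G : Matrix ι ι F) : Set (Matrix ι ι F) := {A | A * G * Aᵀ = G}

theorem isUnit_det_of_orth {G A : Matrix ι ι F} (hd : IsUnit G.det) (h : A ∈ Orth G) : IsUnit A.det := by
  have := congrArg Matrix.det (show A * G * Aᵀ = G from h)
  rw [Matrix.det_mul, Matrix.det_mul, Matrix.det_transpose] at this
  rw [← this] at hd
  exact isUnit_of_mul_isUnit_left (isUnit_of_mul_isUnit_left hd)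

variable (G : Matrix ι ι F) (fC : LinearMap.BilinForm F C)

/-- The images of the standard vectors under the centraliser. -/
def Frames : Set (ι → 𝕄) :=
  {x | rowA x ∈ Orth G ∧ ∀ i j, bB G fC (x i) (x j) = 0}

theorem bB_nn (p q : 𝕄) : bB G fC p (nn q) = pair G p.1.1 q.1.1 := by
  simp [bB_apply, nn_apply, pair]

theorem nn_bB (hG : Gᵀ = G) (p q : 𝕄) : bB G fC (nn p) q = pair G p.1.1 q.1.1 := by
  rw [pair_comm hG p.1.1]
  simp [bB_apply, nn_apply, pair]

theorem bB_comm (hC : fC.IsAlt) (p q : 𝕄) : bB G fC p q = bB G fC q p := by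
  rw [bB_apply, bB_apply, ← LinearMap.BilinForm.IsAlt.neg_eq hC p.2 q.2, CharTwo.neg_eq]
  ring

theorem bB_sep (hd : IsUnit G.det) (hs : ∀ w, (∀ v, fC w v = 0) → w = 0) (p : 𝕄)
    (h : ∀ q, bB G fC p q = 0) : p = 0 := by
  have h1 : ∀ q : 𝕄, pair G p.1.1 q.1.2 + pair G q.1.1 p.1.2 + fC p.2 q.2 = 0 := fun q => by
    rw [← bB_apply]; exact h q
  have hw : p.2 = 0 := hs _ fun v => by simpa [pair] using h1 ((0, 0), v)
  have hb : G *ᵥ p.1.2 = 0 := funext fun i => by
    simpa [pair] using h1 ((Pi.single i 1, 0), 0)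
  have ha : p.1.1 ᵥ* G = 0 := funext fun i => by
    have := h1 ((0, Pi.single i 1), 0)
    simp only [pair, zero_dotProduct, add_zero, map_zero, Matrix.dotProduct_mulVec] at this
    simpa using this
  have hb' : p.1.2 = 0 := (Matrix.mulVec_injective_of_isUnit ((Matrix.isUnit_iff_isUnit_det G).2 hd))
    (by rw [hb, Matrix.mulVec_zero])
  have ha' : p.1.1 = 0 := (Matrix.vecMul_injective_of_isUnit ((Matrix.isUnit_iff_isUnit_det G).2 hd))
    (by show p.1.1 ᵥ* G = 0 ᵥ* G; rw [ha, Matrix.zero_vecMul])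
  exact Prod.ext (Prod.ext ha' hb') hw

variable {G fC}

/-- The element with given images of the standard vectors. -/
noncomputable def build (G : Matrix ι ι F) (fC : LinearMap.BilinForm F C) (x : ι → 𝕄) : 𝕄 →ₗ[F] 𝕄 where
  toFun p := (∑ i, p.1.1 i • x i + ∑ i, p.1.2 i • nn (x i)) +
    (((0, (rowA x * G)⁻¹ *ᵥ fun j => fC (x j).2 p.2), p.2) : 𝕄)
  map_add' p q := by
    have e : (rowA x * G)⁻¹ *ᵥ (fun j => fC (x j).2 (p.2 + q.2)) =
        ((rowA x * G)⁻¹ *ᵥ fun j => fC (x j).2 p.2) + (rowA x * G)⁻¹ *ᵥ fun j => fC (x j).2 q.2 := by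
      rw [← Matrix.mulVec_add]
      congr 1
      funext j
      simp
    simp only [Prod.fst_add, Prod.snd_add, Pi.add_apply, add_smul, Finset.sum_add_distrib, e]
    rw [show ∀ a b : ι → F, ((((0 : ι → F), a + b), p.2 + q.2) : 𝕄) = (((0, a), p.2) : 𝕄) + ((0, b), q.2) from
      fun a b => by simp only [Prod.mk_add_mk, add_zero]]
    abel
  map_smul' r p := by
    have e : (rowA x * G)⁻¹ *ᵥ (fun j => fC (x j).2 (r • p.2)) =
        r • ((rowA x * G)⁻¹ *ᵥ fun j => fC (x j).2 p.2) := by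
      rw [← Matrix.mulVec_smul]
      congr 1
      funext j
      simp
    simp only [Prod.smul_fst, Prod.smul_snd, Pi.smul_apply, smul_assoc, ← Finset.smul_sum, e,
      RingHom.id_apply, smul_add]
    simp

theorem build_apply (x : ι → 𝕄) (p : 𝕄) :
    build G fC x p = (∑ i, p.1.1 i • x i + ∑ i, p.1.2 i • nn (x i)) +
      (((0, (rowA x * G)⁻¹ *ᵥ fun j => fC (x j).2 p.2), p.2) : 𝕄) := rfl

theorem build_single (x : ι → 𝕄) (i : ι) : build G fC x ((Pi.single i 1, 0), 0) = x i := by
  rw [build_apply]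
  simp [Pi.single_apply, ite_smul, ← Pi.zero_def]

theorem build_nn (x : ι → 𝕄) (p : 𝕄) : build G fC x (nn p) = nn (build G fC x p) := by
  rw [build_apply, build_apply]
  simp only [map_add, map_sum, map_smul]
  simp [nn_apply, ← Pi.zero_def, Prod.ext_iff]

/-- `w ↦ k w` is orthogonal to the tuple. -/
theorem bB_k (hd : IsUnit G.det) {x : ι → 𝕄} (hx : x ∈ Frames G fC) (j : ι) (w : C) :
    bB G fC (x j) ((0, (rowA x * G)⁻¹ *ᵥ fun i => fC (x i).2 w), w) = 0 := by
  have hu : IsUnit (rowA x * G).det := by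
    rw [Matrix.det_mul]; exact (isUnit_det_of_orth hd hx.1).mul hd
  have e : pair G (x j).1.1 ((rowA x * G)⁻¹ *ᵥ fun i => fC (x i).2 w) =
      ((rowA x * G) *ᵥ ((rowA x * G)⁻¹ *ᵥ fun i => fC (x i).2 w)) j := by
    rw [pair, ← Matrix.mulVec_mulVec _ (rowA x) G]
    rfl
  rw [bB_apply, e, Matrix.mulVec_mulVec, Matrix.mul_nonsing_inv _ hu, Matrix.one_mulVec]
  simp [pair, CharTwo.add_self_eq_zero]

theorem build_bB (hG : Gᵀ = G) (hd : IsUnit G.det) (hC : fC.IsAlt) {x : ι → 𝕄}
    (hx : x ∈ Frames G fC) (p q : 𝕄) : bB G fC (build G fC x p) (build G fC x q) = bB G fC p q := by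
  have h1 : ∀ i j, bB G fC (x i) (x j) = 0 := hx.2
  have h2 : ∀ i j, bB G fC (x i) (nn (x j)) = G i j := fun i j => by
    rw [bB_nn, pair_rows, show rowA x * G * (rowA x)ᵀ = G from hx.1]
  have h2' : ∀ i j, bB G fC (nn (x i)) (x j) = G i j := fun i j => by
    rw [nn_bB G fC hG, pair_rows, show rowA x * G * (rowA x)ᵀ = G from hx.1]
  have h3 : ∀ i j, bB G fC (nn (x i)) (nn (x j)) = 0 := fun i j => by
    rw [bB_nn]; simp [nn_apply, pair]
  have h4 := bB_k hd hx
  have h4' : ∀ j w, bB G fC ((0, (rowA x * G)⁻¹ *ᵥ fun i => fC (x i).2 w), w) (x j) = 0 := fun j w => by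
    rw [bB_comm G fC hC]; exact h4 j w
  have h5 : ∀ j w c, bB G fC (nn (x j)) (((0, c), w) : 𝕄) = 0 := fun j w c => by
    simp [bB_apply, nn_apply, pair]
  have h5' : ∀ j w c, bB G fC (((0, c), w) : 𝕄) (nn (x j)) = 0 := fun j w c => by
    rw [bB_comm G fC hC]; exact h5 j w c
  have h6 : ∀ w v c c', bB G fC (((0, c), w) : 𝕄) (((0, c'), v) : 𝕄) = fC w v := fun w v c c' => by
    simp [bB_apply, pair]
  simp only [build_apply, map_add, LinearMap.add_apply, map_sum, LinearMap.sum_apply, map_smul,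
    LinearMap.smul_apply, smul_eq_mul, h1, h2, h2', h3, h4, h4', h5, h5', h6, mul_zero,
    Finset.sum_const_zero, zero_add, add_zero]
  rw [bB_apply]
  simp only [pair, dotProduct, Matrix.mulVec, Finset.mul_sum]
  congr 1
  rw [add_comm]
  congr 1
  · rw [Finset.sum_comm]
    exact Finset.sum_congr rfl fun i _ => Finset.sum_congr rfl fun j _ => by ring
  · refine Finset.sum_congr rfl fun i _ => Finset.sum_congr rfl fun j _ => ?_
    rw [show G i j = G j i from congrFun (congrFun hG j) i]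
    ring

variable (G fC)

/-- The centraliser of the model involution. -/
noncomputable def cent : Subgroup (𝕄 ≃ₗ[F] 𝕄) where
  carrier := {g | (∀ u v, bB G fC (g u) (g v) = bB G fC u v) ∧ ∀ p, g (nn p) = nn (g p)}
  mul_mem' {a b} ha hb := ⟨fun u v => (ha.1 _ _).trans (hb.1 u v), fun p => by
    show a (b (nn p)) = nn (a (b p))
    rw [hb.2, ha.2]⟩
  one_mem' := ⟨fun _ _ => rfl, fun _ => rfl⟩
  inv_mem' {a} ha := ⟨fun u v => by
    show bB G fC (a.symm u) (a.symm v) = _
    rw [← ha.1, a.apply_symm_apply, a.apply_symm_apply], fun p => by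
    show a.symm (nn p) = nn (a.symm p)
    rw [a.symm_apply_eq, ha.2, a.apply_symm_apply]⟩

variable {G fC}

theorem frame_of_cent {g : 𝕄 ≃ₗ[F] 𝕄} (hg : g ∈ cent G fC) :
    (fun i => g ((Pi.single i 1, 0), 0)) ∈ Frames G fC := by
  refine ⟨Matrix.ext fun i j => ?_, fun i j => ?_⟩
  · rw [← pair_rows, ← bB_nn G fC, ← hg.2, hg.1, bB_nn]
    exact pair_single G i j
  · rw [hg.1]; simp [bB_apply, pair]

theorem exists_build [FiniteDimensional F C] (hG : Gᵀ = G) (hd : IsUnit G.det) (hC : fC.IsAlt)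
    (hs : ∀ w, (∀ v, fC w v = 0) → w = 0) {x : ι → 𝕄} (hx : x ∈ Frames G fC) :
    ∃ g ∈ cent G fC, (∀ i, g ((Pi.single i 1, 0), 0) = x i) ∧ ∀ p, g p = build G fC x p := by
  have hinj : Function.Injective (build G fC x) := by
    rw [← LinearMap.ker_eq_bot, LinearMap.ker_eq_bot']
    intro p hp
    refine bB_sep G fC hd hs p fun q => ?_
    rw [← build_bB hG hd hC hx, hp, map_zero, LinearMap.zero_apply]
  refine ⟨LinearEquiv.ofBijective (build G fC x) ⟨hinj, LinearMap.surjective_of_injective hinj⟩,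
    ⟨fun u v => build_bB hG hd hC hx u v, fun p => build_nn x p⟩, build_single x, fun p => rfl⟩

/-- Fixing the standard vectors. -/
theorem fix_iff {g : 𝕄 ≃ₗ[F] 𝕄} (hn : ∀ p, g (nn p) = nn (g p))
    (h : ∀ i, g ((Pi.single i 1, 0), 0) = ((Pi.single i 1, 0), 0)) (a : (ι → F) × (ι → F)) :
    g (a, 0) = (a, 0) := by
  have e : ((a, 0) : 𝕄) = ∑ i, a.1 i • (((Pi.single i 1, 0), 0) : 𝕄) +
      ∑ i, a.2 i • nn (((Pi.single i 1, 0), 0) : 𝕄) := by
    ext <;> simp [nn_apply, Prod.fst_sum, Prod.snd_sum, Pi.single_apply]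
  rw [e]
  simp only [map_add, map_sum, map_smul, hn, h]

theorem perp_of_fix (hd : IsUnit G.det) {g : 𝕄 ≃ₗ[F] 𝕄}
    (hB : ∀ u v, bB G fC (g u) (g v) = bB G fC u v) (hf : ∀ a : (ι → F) × (ι → F), g (a, 0) = (a, 0))
    (c : C) : (g (0, c)).1 = 0 := by
  have h1 : ∀ a : (ι → F) × (ι → F), pair G a.1 (g (0, c)).1.2 + pair G (g (0, c)).1.1 a.2 = 0 := fun a => by
    have h := hB (a, 0) (0, c)
    rw [hf] at h
    simpa [bB_apply, pair] using h
  refine (Prod.ext_iff.2 ⟨?_, ?_⟩ : (g (0, c)).1 = ((0, 0) : (ι → F) × (ι → F)))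
  · refine Matrix.vecMul_injective_of_isUnit ((Matrix.isUnit_iff_isUnit_det G).2 hd) ?_
    show (g (0, c)).1.1 ᵥ* G = 0 ᵥ* G
    funext i
    have := h1 (0, Pi.single i 1)
    simp only [pair, zero_dotProduct, zero_add, Matrix.dotProduct_mulVec] at this
    simpa using this
  · refine Matrix.mulVec_injective_of_isUnit ((Matrix.isUnit_iff_isUnit_det G).2 hd) ?_
    show G *ᵥ (g (0, c)).1.2 = G *ᵥ 0
    funext i
    simpa [pair] using h1 (Pi.single i 1, 0)

section Count

variable [Fintype F]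

theorem card_symm : Nat.card {M : Matrix ι ι F // Mᵀ = M} =
    Fintype.card F ^ (Fintype.card ι + 1).choose 2 := by
  classical
  have e : {M : Matrix ι ι F // Mᵀ = M} ≃ (Sym2 ι → F) :=
    { toFun := fun M => Sym2.lift ⟨fun i j => M.1 i j, fun i j => (congrFun (congrFun M.2 i) j).symm⟩
      invFun := fun f => ⟨Matrix.of fun i j => f s(i, j), by
        ext i j
        simp [Sym2.eq_swap]⟩
      left_inv := fun M => rfl
      right_inv := fun f => funext fun z => by induction z using Sym2.ind; rfl }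
  rw [Nat.card_congr e, Nat.card_fun, Nat.card_eq_fintype_card, Nat.card_eq_fintype_card, Sym2.card]

theorem card_symm_diag : Nat.card {M : Matrix ι ι F // Mᵀ = M ∧ ∀ i, M i i = 0} =
    Fintype.card F ^ (Fintype.card ι).choose 2 := by
  classical
  let mk : ({z : Sym2 ι // ¬ z.IsDiag} → F) → Matrix ι ι F := fun f =>
    Matrix.of fun i j => if h : (s(i, j) : Sym2 ι).IsDiag then 0 else f ⟨s(i, j), h⟩
  have e : {M : Matrix ι ι F // Mᵀ = M ∧ ∀ i, M i i = 0} ≃ ({z : Sym2 ι // ¬ z.IsDiag} → F) :=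
    { toFun := fun M z => Sym2.lift ⟨fun i j => M.1 i j, fun i j => (congrFun (congrFun M.2.1 i) j).symm⟩ z.1
      invFun := fun f => ⟨mk f, by
        ext i j
        simp only [mk, Matrix.transpose_apply, Matrix.of_apply, Sym2.eq_swap (a := j) (b := i)], fun i => by
        simp [mk]⟩
      left_inv := fun M => Subtype.ext (Matrix.ext fun i j => by
        by_cases h : i = j
        · subst h; simp [mk, M.2.2 i]
        · simp [mk, h])
      right_inv := fun f => funext fun z => by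
        obtain ⟨z, hz⟩ := z
        induction z using Sym2.ind with
        | h i j => simp only [Sym2.lift_mk, mk, Matrix.of_apply, dif_neg hz] }
  rw [Nat.card_congr e, Nat.card_fun, Nat.card_eq_fintype_card, Nat.card_eq_fintype_card,
    Sym2.card_subtype_not_diag]

/-- Solutions of `M + Mᵀ = Φ`. -/
theorem card_solutions (Φ : Matrix ι ι F) (h1 : Φᵀ = Φ) (h2 : ∀ i, Φ i i = 0) :
    Nat.card {M : Matrix ι ι F // M + Mᵀ = Φ} = Fintype.card F ^ (Fintype.card ι + 1).choose 2 ∧
      ∀ d : ι → F, Nat.card {M : Matrix ι ι F // M + Mᵀ = Φ ∧ ∀ i, M i i = d i} =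
        Fintype.card F ^ (Fintype.card ι).choose 2 := by
  classical
  let e := Fintype.equivFin ι
  have hM : ∀ d : ι → F, ∃ M : Matrix ι ι F, M + Mᵀ = Φ ∧ ∀ i, M i i = d i := fun d => by
    refine ⟨Matrix.of fun i j => if i = j then d i else if e i < e j then Φ i j else 0, ?_, fun i => by simp⟩
    ext i j
    simp only [Matrix.add_apply, Matrix.transpose_apply, Matrix.of_apply]
    by_cases h : i = j
    · subst h; simp [h2, CharTwo.add_self_eq_zero]
    · rcases lt_or_gt_of_ne (fun hh => h (e.injective hh)) with hl | hl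
      · simp [h, Ne.symm h, hl, hl.not_gt]
      · simp [h, Ne.symm h, hl, hl.not_gt, show Φ j i = Φ i j from congrFun (congrFun h1 i) j]
  have hshift : ∀ M₀ M : Matrix ι ι F, M₀ + M₀ᵀ = Φ → (M + Mᵀ = Φ ↔ (M - M₀)ᵀ = M - M₀) := fun M₀ M h => by
    rw [← h]
    constructor
    · intro h'
      ext i j
      have := congrFun (congrFun h' i) j
      simp only [Matrix.add_apply, Matrix.transpose_apply, Matrix.sub_apply, CharTwo.sub_eq_add] at this ⊢
      rw [← sub_eq_zero] at this ⊢
      linear_combination this + (M₀ j i - M i j + M₀ i j - M₀ i j) * CharTwo.two_eq_zero (R := F)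
    · intro h'
      ext i j
      have := congrFun (congrFun h' i) j
      simp only [Matrix.add_apply, Matrix.transpose_apply, Matrix.sub_apply, CharTwo.sub_eq_add] at this ⊢
      linear_combination this + (M i j - M₀ j i) * CharTwo.two_eq_zero (R := F)
  refine ⟨?_, fun d => ?_⟩
  · obtain ⟨M₀, hM₀, -⟩ := hM 0
    rw [← card_symm]
    exact Nat.card_congr ((Equiv.subRight M₀).subtypeEquiv fun M => hshift M₀ M hM₀)
  · obtain ⟨M₀, hM₀, hd₀⟩ := hM d
    rw [← card_symm_diag]
    refine Nat.card_congr ((Equiv.subRight M₀).subtypeEquiv fun M => and_congr (hshift M₀ M hM₀) ?_)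
    refine forall_congr' fun i => ?_
    rw [Equiv.subRight_apply, Matrix.sub_apply, sub_eq_zero, hd₀]

variable [Finite C]

/-- `Γ ↦ A G Γᵀ`. -/
noncomputable def gamEquiv (U : Matrix ι ι F) (hU : IsUnit U.det) : Matrix ι ι F ≃ Matrix ι ι F where
  toFun Γ := U * Γᵀ
  invFun M := (U⁻¹ * M)ᵀ
  left_inv Γ := by simp [Matrix.nonsing_inv_mul_cancel_left _ _ hU]
  right_inv M := by simp [Matrix.mul_nonsing_inv_cancel_left _ _ hU]

theorem card_frames (hd : IsUnit G.det) (hC : fC.IsAlt) :
    Nat.card (Frames G fC) = Nat.card (Orth G) * Nat.card C ^ Fintype.card ι *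
      Fintype.card F ^ (Fintype.card ι + 1).choose 2 := by
  classical
  haveI := Fintype.ofFinite C
  haveI := Fintype.ofFinite (Orth G × (ι → C))
  let Φ : (ι → C) → Matrix ι ι F := fun W => Matrix.of fun i j => fC (W i) (W j)
  let E : Frames G fC ≃ Σ p : Orth G × (ι → C),
      {Γ : Matrix ι ι F // p.1.1 * G * Γᵀ + (p.1.1 * G * Γᵀ)ᵀ = Φ p.2} :=
    { toFun := fun x => ⟨(⟨rowA x.1, x.2.1⟩, fun i => (x.1 i).2), Matrix.of fun i => (x.1 i).1.2, by
        ext i j
        have h := x.2.2 i j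
        rw [bB_apply, CharTwo.add_eq_zero] at h
        simp only [Φ, Matrix.add_apply, Matrix.transpose_apply, Matrix.of_apply, ← h]
        congr 1 <;>
        · simp only [pair, rowA, Matrix.mul_apply, Matrix.transpose_apply, Matrix.of_apply, dotProduct,
            Matrix.mulVec, Finset.mul_sum, Finset.sum_mul]
          rw [Finset.sum_comm]
          exact Finset.sum_congr rfl fun a _ => Finset.sum_congr rfl fun b _ => by ring⟩
      invFun := fun p => ⟨fun i => ((p.1.1.1 i, p.2.1 i), p.1.2 i), p.1.1.2, fun i j => by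
        rw [bB_apply, CharTwo.add_eq_zero]
        have h := congrFun (congrFun p.2.2 i) j
        simp only [Φ, Matrix.add_apply, Matrix.transpose_apply, Matrix.of_apply] at h
        rw [← h]
        congr 1 <;>
        · simp only [pair, Matrix.mul_apply, Matrix.transpose_apply, dotProduct,
            Matrix.mulVec, Finset.mul_sum, Finset.sum_mul]
          rw [Finset.sum_comm]
          exact Finset.sum_congr rfl fun a _ => Finset.sum_congr rfl fun b _ => by ring⟩
      left_inv := fun x => rfl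
      right_inv := fun p => rfl }
  rw [Nat.card_congr E, Nat.card_sigma, Finset.sum_congr rfl (fun p _ => ?_), Finset.sum_const,
    Finset.card_univ, ← Nat.card_eq_fintype_card, Nat.card_prod, Nat.card_fun, Nat.card_eq_fintype_card (α := ι),
    smul_eq_mul]
  rw [← (card_solutions (Φ p.2) ?_ fun i => hC (p.2 i)).1]
  · exact Nat.card_congr ((gamEquiv (p.1.1 * G)
      (by rw [Matrix.det_mul]; exact (isUnit_det_of_orth hd p.1.2).mul hd)).subtypeEquiv fun Γ => Iff.rfl)
  · ext i j
    simp [Φ, ← LinearMap.BilinForm.IsAlt.neg_eq hC (p.2 j) (p.2 i), CharTwo.neg_eq]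

/-- The order of the centraliser of the model involution. -/
theorem card_cent [FiniteDimensional F C] (hG : Gᵀ = G) (hd : IsUnit G.det) (hC : fC.IsAlt)
    (hs : ∀ w, (∀ v, fC w v = 0) → w = 0) :
    Nat.card (cent G fC) = Nat.card (Orth G) * Nat.card C ^ Fintype.card ι *
      Fintype.card F ^ (Fintype.card ι + 1).choose 2 * Nat.card (isom F fun u v => fC u v) := by
  rw [card_eq_orbit_mul_fix (cent G fC) (fun i => (((Pi.single i 1, 0), 0) : 𝕄)) (Frames G fC)
    (fun g hg => frame_of_cent hg) (fun v hv => by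
      obtain ⟨g, hg, hgv, -⟩ := exists_build hG hd hC hs hv
      exact ⟨g, hg, hgv⟩), card_frames hd hC]
  congr 1
  refine Nat.card_congr (Equiv.trans (Equiv.subtypeEquivRight fun g => ?_)
    (fixEquiv (f := fun u v => bB G fC u v) (fC := fun u v => fC u v)
      (fun g hg hf c => perp_of_fix hd hg hf c) fun h => ?_).symm)
  · constructor
    · exact fun h => ⟨h.1.1, fix_iff h.1.2 h.2⟩
    · intro h
      refine ⟨⟨h.1, fun p => ?_⟩, fun i => h.2 _⟩
      have e : g p = g (p.1, 0) + g (0, p.2) := by rw [← map_add]; simp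
      rw [e, h.2]
      show g (nn p) = _
      rw [nn_apply, h.2]
      simp [nn_apply, perp_of_fix hd h.1 h.2]
  · refine ⟨fun hh u v => ?_, fun hh u v => ?_⟩
    · simp [bB_apply, hh u.2 v.2]
    · simpa [bB_apply, pair] using hh (0, u) (0, v)

end Count

end Cfsg.Agent.Forms.CentTwo
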