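/-
Orders of the groups fixing a symmetric non-degenerate form in characteristic two, and the centraliser of an
involution of the symplectic group by rank and type.
-/
import Cfsg.Agent.Lib.Forms.CentTwoModel
import Cfsg.Agent.Lib.Forms.SympTwo

set_option autoImplicit false
set_option linter.unusedSectionVars false

namespace Cfsg.Agent.Forms.CentTwo

open scoped Matrix
open Module (finrank)

variable {F : Type*} [Field F] [CharP F 2]

/-- `Orth G` as an isometry group. -/
noncomputable def orthEquiv {ι : Type} [Fintype ι] [DecidableEq ι] (G : Matrix ι ι F) (hd : IsUnit G.det) :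
    Orth G ≃ isom F (pair G) where
  toFun A := ⟨Matrix.toLinearEquiv' (A.1)ᵀ ((A.1ᵀ).invertibleOfIsUnitDet
      (by rw [Matrix.det_transpose]; exact isUnit_det_of_orth hd A.2)), fun u v => by
    show pair G (A.1ᵀ *ᵥ u) (A.1ᵀ *ᵥ v) = pair G u v
    rw [pair, pair, Matrix.mulVec_mulVec, Matrix.mulVec_transpose, ← Matrix.dotProduct_mulVec,
      Matrix.mulVec_mulVec, ← Matrix.mul_assoc, show A.1 * G * A.1ᵀ = G from A.2]⟩
  invFun g := ⟨(LinearMap.toMatrix' g.1.toLinearMap)ᵀ, by
    show _ * G * _ = G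
    rw [Matrix.transpose_transpose]
    ext i j
    rw [← pair_single G i j, ← g.2 (Pi.single i 1) (Pi.single j 1)]
    simp only [pair, Matrix.mul_apply, Matrix.transpose_apply, dotProduct, Matrix.mulVec,
      Finset.mul_sum, Finset.sum_mul, LinearMap.toMatrix'_apply]
    rw [Finset.sum_comm]
    refine Finset.sum_congr rfl fun a _ => Finset.sum_congr rfl fun b _ => ?_
    simp only [LinearEquiv.coe_coe]
    ring⟩
  left_inv A := Subtype.ext (by
    show (LinearMap.toMatrix' _)ᵀ = A.1
    rw [show (Matrix.toLinearEquiv' (A.1)ᵀ _).toLinearMap = Matrix.toLin' A.1ᵀ from rfl,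
      LinearMap.toMatrix'_toLin', Matrix.transpose_transpose])
  right_inv g := Subtype.ext (LinearEquiv.ext fun v => by
    show ((LinearMap.toMatrix' g.1.toLinearMap)ᵀ)ᵀ *ᵥ v = g.1 v
    rw [Matrix.transpose_transpose, LinearMap.toMatrix'_mulVec]
    rfl)

/-- The form on `F × C`. -/
noncomputable def oddForm {C : Type*} [AddCommGroup C] [Module F C] (f : LinearMap.BilinForm F C) :
    LinearMap.BilinForm F (F × C) :=
  (LinearMap.mul F F).compl₁₂ (LinearMap.fst F F C) (LinearMap.fst F F C) +
    f.compl₁₂ (LinearMap.snd F F C) (LinearMap.snd F F C)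

theorem oddForm_apply {C : Type*} [AddCommGroup C] [Module F C] (f : LinearMap.BilinForm F C) (p q : F × C) :
    oddForm f p q = p.1 * q.1 + f p.2 q.2 := by simp [oddForm]

/-- The form on `(F × F) × C`. -/
noncomputable def evenForm {C : Type*} [AddCommGroup C] [Module F C] (f : LinearMap.BilinForm F C) :
    LinearMap.BilinForm F ((F × F) × C) :=
  (LinearMap.mul F F).compl₁₂ ((LinearMap.fst F F F) ∘ₗ LinearMap.fst F _ C) ((LinearMap.snd F F F) ∘ₗ LinearMap.fst F _ C) +
    (LinearMap.mul F F).compl₁₂ ((LinearMap.snd F F F) ∘ₗ LinearMap.fst F _ C) ((LinearMap.fst F F F) ∘ₗ LinearMap.fst F _ C) +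
    (LinearMap.mul F F).compl₁₂ ((LinearMap.snd F F F) ∘ₗ LinearMap.fst F _ C) ((LinearMap.snd F F F) ∘ₗ LinearMap.fst F _ C) +
    f.compl₁₂ (LinearMap.snd F _ C) (LinearMap.snd F _ C)

theorem evenForm_apply {C : Type*} [AddCommGroup C] [Module F C] (f : LinearMap.BilinForm F C) (p q : (F × F) × C) :
    evenForm f p q = p.1.1 * q.1.2 + p.1.2 * q.1.1 + p.1.2 * q.1.2 + f p.2 q.2 := by simp [evenForm]

section Small

variable {C : Type*} [AddCommGroup C] [Module F C] {f : LinearMap.BilinForm F C} (hA : f.IsAlt)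
  (hs : ∀ w, (∀ v, f w v = 0) → w = 0)

theorem sq_inj {x y : F} (h : x * x = y * y) : x = y := by
  have h2 : (x + y) * (x + y) = 0 := by linear_combination h + (y * y + x * y) * CharTwo.two_eq_zero (R := F)
  exact CharTwo.add_eq_zero.1 (mul_self_eq_zero.1 h2)

include hA hs in
theorem card_isom_odd : Nat.card (isom F fun u v => oddForm f u v) = Nat.card (isom F fun u v => f u v) := by
  have h1 : ∀ g ∈ isom F (fun u v => oddForm f u v), ∀ v : F × C, (g v).1 = v.1 := fun g hg v =>
    sq_inj (by simpa [oddForm_apply, hA _] using hg v v)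
  have hfix : ∀ g ∈ isom F (fun u v => oddForm f u v), ∀ a : F, g (a, 0) = (a, 0) := fun g hg a => by
    refine Prod.ext (h1 g hg _) (hs _ fun u => ?_)
    have h := hg (a, 0) (g.symm (0, u))
    have h0 : (g.symm (0, u)).1 = 0 := by
      have := h1 g hg (g.symm (0, u))
      rw [g.apply_symm_apply] at this
      exact this.symm
    simpa [oddForm_apply, h0] using h
  refine (Nat.card_congr ((fixEquiv (f := fun u v => oddForm f u v) (fC := fun u v => f u v)
    (fun g hg _ c => h1 g hg _) fun h => ?_).trans (Equiv.subtypeEquivRight fun g => ?_))).symm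
  · refine ⟨fun hh u v => ?_, fun hh u v => ?_⟩
    · simp [oddForm_apply, hh u.2 v.2]
    · simpa [oddForm_apply] using hh (0, u) (0, v)
  · exact ⟨fun h => h.1, fun h => ⟨h, hfix g h⟩⟩

include hA hs in
theorem card_isom_even [Fintype F] [Finite C] :
    Nat.card (isom F fun u v => evenForm f u v) =
      Fintype.card F * Nat.card C * Nat.card (isom F fun u v => f u v) := by
  classical
  have hd : ∀ p : (F × F) × C, evenForm f p p = p.1.2 * p.1.2 := fun p => by
    rw [evenForm_apply, hA p.2]
    linear_combination p.1.1 * p.1.2 * CharTwo.two_eq_zero (R := F)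
  have h1 : ∀ g ∈ isom F (fun u v => evenForm f u v), ∀ v : (F × F) × C, (g v).1.2 = v.1.2 := fun g hg v =>
    sq_inj (by rw [← hd, ← hd]; exact hg v v)
  have hfix : ∀ g ∈ isom F (fun u v => evenForm f u v), ∀ a : F, g ((a, 0), 0) = ((a, 0), 0) := fun g hg a => by
    have hb : (g ((a, 0), 0)).1.2 = 0 := h1 g hg _
    have hw : (g ((a, 0), 0)).2 = 0 := hs _ fun u => by
      have h := hg ((a, 0), 0) (g.symm ((0, 0), u))
      have h0 : (g.symm ((0, 0), u)).1.2 = 0 := by
        have := h1 g hg (g.symm ((0, 0), u))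
        rw [g.apply_symm_apply] at this
        exact this.symm
      simpa [evenForm_apply, h0, hb] using h
    have hx : (g ((a, 0), 0)).1.1 = a := by
      have h := hg ((a, 0), 0) ((0, 1), 0)
      simpa [evenForm_apply, hb, hw, h1 g hg ((0, 1), 0)] using h
    exact Prod.ext (Prod.ext hx hb) hw
  rw [card_eq_orbit_mul_fix (isom F fun u v => evenForm f u v) (fun _ : Unit => (((0, 1), 0) : (F × F) × C))
    {x | (x ()).1.2 = 1} (fun g hg => h1 g hg _) (fun x hx => ?_)]
  · congr 1
    · rw [← Nat.card_eq_fintype_card, ← Nat.card_prod]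
      exact Nat.card_congr
        { toFun := fun x => ((x.1 ()).1.1, (x.1 ()).2)
          invFun := fun p => ⟨fun _ => ((p.1, 1), p.2), rfl⟩
          left_inv := fun x => Subtype.ext (funext fun u => Prod.ext (Prod.ext rfl (x.2 : (x.1 ()).1.2 = 1).symm) rfl)
          right_inv := fun p => rfl }
    · refine (Nat.card_congr ((fixEquiv (f := fun u v => evenForm f u v) (fC := fun u v => f u v)
        (fun g hg hf c => ?_) fun h => ?_).trans (Equiv.subtypeEquivRight fun g => ?_))).symm
      · have e := hg ((0, 1), 0) (0, c)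
        rw [hf] at e
        have hb : (g (0, c)).1.2 = 0 := h1 g hg _
        refine Prod.ext ?_ hb
        simpa [evenForm_apply, hb] using e
      · refine ⟨fun hh u v => ?_, fun hh u v => ?_⟩
        · simp [evenForm_apply, hh u.2 v.2]
        · simpa [evenForm_apply] using hh (0, u) (0, v)
      · refine ⟨fun h => ⟨h.1, fun _ => h.2 _⟩, fun h => ⟨h.1, fun a => ?_⟩⟩
        have e : ((a, 0) : (F × F) × C) = (((a.1, 0), 0) : (F × F) × C) + a.2 • ((0, 1), 0) := by simp
        rw [e, map_add, map_smul, hfix g h.1, h.2 ()]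
  · -- the element moving `e` to `x ()`
    obtain ⟨⟨a', b'⟩, w'⟩ : ∃ y : (F × F) × C, y = x () := ⟨_, rfl⟩
    let g : ((F × F) × C) ≃ₗ[F] ((F × F) × C) :=
      { toFun := fun p => ((p.1.1 + p.1.2 * (x ()).1.1 + f (x ()).2 p.2, p.1.2), p.2 + p.1.2 • (x ()).2)
        invFun := fun p => ((p.1.1 - p.1.2 * (x ()).1.1 - f (x ()).2 (p.2 - p.1.2 • (x ()).2), p.1.2),
          p.2 - p.1.2 • (x ()).2)
        map_add' := fun p q => by
          simp only [Prod.fst_add, Prod.snd_add, map_add, add_smul]
          refine Prod.ext (Prod.ext (by simp; ring) (by simp)) (by simp; abel)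
        map_smul' := fun r p => by
          refine Prod.ext (Prod.ext (by simp; ring) (by simp)) (by simp [smul_smul])
        left_inv := fun p => Prod.ext (Prod.ext (by simp; ring) rfl) (by simp)
        right_inv := fun p => Prod.ext (Prod.ext (by simp; ring) rfl) (by simp) }
    refine ⟨g, fun u v => ?_, fun i => ?_⟩
    · simp only [evenForm_apply, g, LinearEquiv.coe_mk, LinearMap.coe_mk, AddHom.coe_mk, map_add, map_smul,
        LinearMap.add_apply, LinearMap.smul_apply, smul_eq_mul, hA _,
        ← LinearMap.BilinForm.IsAlt.neg_eq hA (x ()).2 u.2, CharTwo.neg_eq]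
      linear_combination (u.1.2 * v.1.2 * (x ()).1.1 + u.1.2 * f (x ()).2 v.2 + v.1.2 * f (x ()).2 u.2) *
        CharTwo.two_eq_zero (R := F)
    · have hx' : (x ()).1.2 = 1 := hx
      cases i
      refine Prod.ext (Prod.ext ?_ hx'.symm) ?_ <;> simp [g]

end Small

section Orders

variable [Fintype F]

theorem card_isom_symp (k : ℕ) : Nat.card (isom F fun u v => sympB k F u v) =
    Fintype.card F ^ (k ^ 2) * ∏ i : Fin k, (Fintype.card F ^ (2 * ((i : ℕ) + 1)) - 1) := by
  rw [Fin.prod_univ_eq_prod_range (fun i => Fintype.card F ^ (2 * (i + 1)) - 1) k, ← card_isom_sympForm]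
  exact card_isom_congr (LinearEquiv.refl F _) fun u v => (sympB_apply u v).symm

theorem card_vec (k : ℕ) : Nat.card (Fin k ⊕ Fin k → F) = Fintype.card F ^ (2 * k) := by
  rw [Nat.card_fun, Nat.card_eq_fintype_card, Nat.card_eq_fintype_card]
  simp [two_mul]

/-- The dot product is isometric to a split form. -/
theorem card_orth_one_aux {r : ℕ} {W : Type*} [AddCommGroup W] [Module F W] [FiniteDimensional F W]
    (β : LinearMap.BilinForm F W) (hS : ∀ x y, β x y = β y x) (hB : ∀ x, (∀ y, β x y = 0) → x = 0)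
    (hna : ∃ v, β v v ≠ 0) (hd : finrank F W = r) :
    Nat.card (Orth (1 : Matrix (Fin r) (Fin r) F)) = Nat.card (isom F fun u v => β u v) := by
  obtain ⟨e, he⟩ := SympTwo.exists_orthonormal hS hB hna hd
  rw [Nat.card_congr (orthEquiv (1 : Matrix (Fin r) (Fin r) F) (by simp))]
  refine (card_isom_congr e fun u v => ?_).symm
  rw [he]
  simp [pair, dotProduct]

theorem card_orth_one_odd (k : ℕ) :
    Nat.card (Orth (1 : Matrix (Fin (2 * k + 1)) (Fin (2 * k + 1)) F)) =
      Fintype.card F ^ (k ^ 2) * ∏ i : Fin k, (Fintype.card F ^ (2 * ((i : ℕ) + 1)) - 1) := by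
  rw [card_orth_one_aux (oddForm (sympB k F)) (fun x y => ?_) (fun x hx => ?_) ⟨(1, 0), by simp [oddForm_apply]⟩
    (by rw [Module.finrank_prod, Module.finrank_self, Module.finrank_fintype_fun_eq_card]; simp; omega),
    card_isom_odd (sympB_isAlt k) (fun w hw => (sympB_nondegenerate k).1 w hw), card_isom_symp]
  · rw [oddForm_apply, oddForm_apply, ← LinearMap.BilinForm.IsAlt.neg_eq (sympB_isAlt k) x.2 y.2, CharTwo.neg_eq]
    ring
  · refine Prod.ext (by simpa [oddForm_apply] using hx (1, 0)) ((sympB_nondegenerate k).1 _ fun v => ?_)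
    simpa [oddForm_apply] using hx (0, v)

theorem card_orth_one_even (k : ℕ) :
    Nat.card (Orth (1 : Matrix (Fin (2 * k + 2)) (Fin (2 * k + 2)) F)) =
      Fintype.card F ^ (2 * k + 1) *
        (Fintype.card F ^ (k ^ 2) * ∏ i : Fin k, (Fintype.card F ^ (2 * ((i : ℕ) + 1)) - 1)) := by
  rw [card_orth_one_aux (evenForm (sympB k F)) (fun x y => ?_) (fun x hx => ?_)
    ⟨((0, 1), 0), by simp [evenForm_apply]⟩
    (by rw [Module.finrank_prod, Module.finrank_prod, Module.finrank_self, Module.finrank_fintype_fun_eq_card]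
        simp; omega),
    card_isom_even (sympB_isAlt k) (fun w hw => (sympB_nondegenerate k).1 w hw), card_isom_symp, card_vec,
    pow_succ' (Fintype.card F) (2 * k)]
  · rw [evenForm_apply, evenForm_apply, ← LinearMap.BilinForm.IsAlt.neg_eq (sympB_isAlt k) x.2 y.2, CharTwo.neg_eq]
    ring
  · have hb : x.1.2 = 0 := by simpa [evenForm_apply] using hx ((1, 0), 0)
    refine Prod.ext (Prod.ext ?_ hb) ((sympB_nondegenerate k).1 _ fun v => ?_)
    · simpa [evenForm_apply, hb] using hx ((0, 1), 0)
    · simpa [evenForm_apply] using hx (0, v)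

/-- The hyperbolic pairing. -/
def altG (k : ℕ) : Matrix (Fin k ⊕ Fin k) (Fin k ⊕ Fin k) F := Matrix.fromBlocks 0 1 1 0

theorem altG_sq (k : ℕ) : altG (F := F) k * altG k = 1 := by
  simp [altG, Matrix.fromBlocks_multiply, Matrix.fromBlocks_one]

theorem altG_symm (k : ℕ) : (altG (F := F) k)ᵀ = altG k := by
  simp [altG, Matrix.fromBlocks_transpose]

theorem pair_altG (k : ℕ) (u v : Fin k ⊕ Fin k → F) : pair (altG k) u v = sympForm k F u v := by
  rw [sympForm_eq_sum]
  simp [pair, altG, Matrix.fromBlocks_mulVec, dotProduct, Fintype.sum_sum_type, Finset.sum_sub_distrib,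
    CharTwo.sub_eq_add, add_comm, mul_comm, Finset.sum_add_distrib]

theorem card_orth_alt (k : ℕ) : Nat.card (Orth (altG (F := F) k)) =
    Fintype.card F ^ (k ^ 2) * ∏ i : Fin k, (Fintype.card F ^ (2 * ((i : ℕ) + 1)) - 1) := by
  rw [Nat.card_congr (orthEquiv (altG (F := F) k) (Matrix.isUnit_det_of_left_inverse (altG_sq k))),
    ← card_isom_symp]
  exact card_isom_congr (LinearEquiv.refl F _) fun u v => by simp [sympB_apply, pair_altG]

end Orders

end Cfsg.Agent.Forms.CentTwo
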