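/-
The centraliser of an involution of the symplectic group in characteristic two, by rank and type.
-/
import Cfsg.Agent.Lib.Forms.CentTwoOrth
import Cfsg.Agent.Lib.Forms.InvolTwoCount

set_option autoImplicit false
set_option linter.unusedSectionVars false

namespace Cfsg.Agent.Forms.CentTwo

open scoped Matrix
open Module (finrank)
open SympTwo (form nil)

variable {F : Type*} [Field F] [CharP F 2] {ι κ : Type} [Fintype ι] [DecidableEq ι] [Fintype κ] {m : ℕ}

/-- Coordinates of the model inside `Fin m ⊕ Fin m → F`. -/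
noncomputable def coords (G : Matrix ι ι F) (hG2 : G * G = 1) (e : ι ⊕ κ ≃ Fin m) :
    (((ι → F) × (ι → F)) × (κ ⊕ κ → F)) ≃ₗ[F] (Fin m ⊕ Fin m → F) where
  toFun p := Sum.elim (fun i => Sum.elim p.1.1 (fun c => p.2 (.inl c)) (e.symm i))
    fun i => Sum.elim (G *ᵥ p.1.2) (fun c => p.2 (.inr c)) (e.symm i)
  invFun v := ((fun a => v (.inl (e (.inl a))), G *ᵥ fun a => v (.inr (e (.inl a)))),
    Sum.elim (fun c => v (.inl (e (.inr c)))) fun c => v (.inr (e (.inr c))))
  map_add' p q := by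
    funext j
    rcases j with i | i <;> cases h : e.symm i <;> simp [h, Matrix.mulVec_add]
  map_smul' r p := by
    funext j
    rcases j with i | i <;> cases h : e.symm i <;> simp [h, Matrix.mulVec_smul]
  left_inv p := by
    refine Prod.ext (Prod.ext ?_ ?_) ?_
    · funext a; simp
    · simp [Matrix.mulVec_mulVec, hG2]
    · funext c; rcases c with c | c <;> simp
  right_inv v := by
    funext j
    rcases j with i | i <;> obtain ⟨a | a, rfl⟩ := e.surjective i <;> simp [Matrix.mulVec_mulVec, hG2]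

theorem coords_inl (G : Matrix ι ι F) (hG2 : G * G = 1) (e : ι ⊕ κ ≃ Fin m)
    (p : ((ι → F) × (ι → F)) × (κ ⊕ κ → F)) (x : ι ⊕ κ) :
    coords G hG2 e p (.inl (e x)) = Sum.elim p.1.1 (fun c => p.2 (.inl c)) x ∧
      coords G hG2 e p (.inr (e x)) = Sum.elim (G *ᵥ p.1.2) (fun c => p.2 (.inr c)) x := by
  simp [coords]

/-- The symplectic form on `κ ⊕ κ → F`. -/
noncomputable def fK (κ : Type) [Fintype κ] (F : Type*) [Field F] : LinearMap.BilinForm F (κ ⊕ κ → F) :=
  LinearMap.mk₂ F (fun u v => ∑ i, (u (.inr i) * v (.inl i) - u (.inl i) * v (.inr i)))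
    (fun _ _ _ => by simp only [Pi.add_apply]; rw [← Finset.sum_add_distrib]; exact Finset.sum_congr rfl fun i _ => by ring)
    (fun _ _ _ => by simp only [Pi.smul_apply, smul_eq_mul, Finset.mul_sum]; exact Finset.sum_congr rfl fun i _ => by ring)
    (fun _ _ _ => by simp only [Pi.add_apply]; rw [← Finset.sum_add_distrib]; exact Finset.sum_congr rfl fun i _ => by ring)
    (fun _ _ _ => by simp only [Pi.smul_apply, smul_eq_mul, Finset.mul_sum]; exact Finset.sum_congr rfl fun i _ => by ring)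

theorem fK_apply (u v : κ ⊕ κ → F) :
    fK κ F u v = ∑ i, (u (.inr i) * v (.inl i) - u (.inl i) * v (.inr i)) := by simp [fK]

theorem fK_isAlt : (fK κ F).IsAlt := fun v => by
  rw [fK_apply]; exact Finset.sum_eq_zero fun i _ => by ring

theorem fK_sep [DecidableEq κ] (w : κ ⊕ κ → F) (h : ∀ v, fK κ F w v = 0) : w = 0 := by
  funext j
  rcases j with i | i
  · have := h (Pi.single (.inr i) 1)
    rw [fK_apply, Finset.sum_eq_single i (fun b _ hb => by simp [hb]) (by simp)] at this
    simpa using this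
  · have := h (Pi.single (.inl i) 1)
    rw [fK_apply, Finset.sum_eq_single i (fun b _ hb => by simp [hb]) (by simp)] at this
    simpa using this

theorem fK_fin (k : ℕ) (u v : Fin k ⊕ Fin k → F) : fK (Fin k) F u v = sympB k F u v := by
  rw [fK_apply, sympB_apply, sympForm_eq_sum]

theorem coords_symp {G : Matrix ι ι F} (hG : Gᵀ = G) (hG2 : G * G = 1) (e : ι ⊕ κ ≃ Fin m)
    (p q : ((ι → F) × (ι → F)) × (κ ⊕ κ → F)) :
    sympForm m F (coords G hG2 e p) (coords G hG2 e q) = bB G (fK κ F) p q := by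
  rw [sympForm_eq_sum, ← e.sum_comp, Fintype.sum_sum_type, bB_apply, fK_apply]
  simp only [(coords_inl G hG2 e _ _).1, (coords_inl G hG2 e _ _).2, Sum.elim_inl, Sum.elim_inr,
    CharTwo.sub_eq_add]
  simp only [pair, dotProduct, Finset.sum_add_distrib]
  congr 1
  rw [add_comm]
  congr 1
  exact Finset.sum_congr rfl fun i _ => by ring

/-- The model involution as a matrix. -/
noncomputable def tMat (G : Matrix ι ι F) (hG2 : G * G = 1) (e : ι ⊕ κ ≃ Fin m) :
    Matrix (Fin m ⊕ Fin m) (Fin m ⊕ Fin m) F :=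
  1 + LinearMap.toMatrix' ((coords G hG2 e).toLinearMap ∘ₗ nn ∘ₗ (coords G hG2 e).symm.toLinearMap)

theorem nil_tMat (G : Matrix ι ι F) (hG2 : G * G = 1) (e : ι ⊕ κ ≃ Fin m) (v : Fin m ⊕ Fin m → F) :
    nil (tMat G hG2 e) v = coords G hG2 e (nn ((coords G hG2 e).symm v)) := by
  rw [SympTwo.nil_apply, tMat, Matrix.add_mulVec, Matrix.one_mulVec, add_sub_cancel_left,
    LinearMap.toMatrix'_mulVec]
  rfl

theorem tMat_mulVec (G : Matrix ι ι F) (hG2 : G * G = 1) (e : ι ⊕ κ ≃ Fin m) (v : Fin m ⊕ Fin m → F) :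
    tMat G hG2 e *ᵥ v = v + coords G hG2 e (nn ((coords G hG2 e).symm v)) := by
  rw [← nil_tMat, SympTwo.nil_apply, add_sub_cancel]

theorem tMat_sq (G : Matrix ι ι F) (hG2 : G * G = 1) (e : ι ⊕ κ ≃ Fin m) :
    tMat G hG2 e * tMat G hG2 e = 1 := by
  refine Matrix.mulVec_injective (funext fun v => ?_)
  rw [← Matrix.mulVec_mulVec, tMat_mulVec, tMat_mulVec, map_add, map_add, map_add,
    LinearEquiv.symm_apply_apply, Matrix.one_mulVec]
  have : nn (nn ((coords G hG2 e).symm v)) = 0 := by simp [nn_apply, Prod.ext_iff]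
  rw [this, map_zero, add_zero]
  funext j
  simp [add_assoc, CharTwo.add_self_eq_zero]

theorem tMat_mem {G : Matrix ι ι F} (hG : Gᵀ = G) (hG2 : G * G = 1) (e : ι ⊕ κ ≃ Fin m) :
    tMat G hG2 e ∈ Matrix.symplecticGroup (Fin m) F := by
  refine mem_symplecticGroup_iff_form.2 fun u v => ?_
  obtain ⟨p, rfl⟩ := (coords G hG2 e).surjective u
  obtain ⟨q, rfl⟩ := (coords G hG2 e).surjective v
  simp only [tMat_mulVec, LinearEquiv.symm_apply_apply, ← map_add, coords_symp hG]
  simp only [map_add, LinearMap.add_apply, bB_nn, nn_bB _ _ hG]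
  have : pair G p.1.1 (nn q).1.1 = 0 := by simp [nn_apply, pair]
  rw [this]
  linear_combination pair G p.1.1 q.1.1 * CharTwo.two_eq_zero (R := F)

theorem form_tMat {G : Matrix ι ι F} (hG : Gᵀ = G) (hG2 : G * G = 1) (e : ι ⊕ κ ≃ Fin m)
    (p : ((ι → F) × (ι → F)) × (κ ⊕ κ → F)) :
    form (tMat G hG2 e) (coords G hG2 e p) (coords G hG2 e p) = pair G p.1.1 p.1.1 := by
  rw [SympTwo.form_apply, nil_tMat, LinearEquiv.symm_apply_apply, coords_symp hG, bB_nn]

theorem rank_tMat (G : Matrix ι ι F) (hG2 : G * G = 1) (e : ι ⊕ κ ≃ Fin m) :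
    (tMat G hG2 e - 1).rank = Fintype.card ι := by
  show finrank F (LinearMap.range (nil (tMat G hG2 e))) = _
  let J : (ι → F) →ₗ[F] (Fin m ⊕ Fin m → F) :=
    (coords G hG2 e).toLinearMap ∘ₗ LinearMap.inl F _ _ ∘ₗ LinearMap.inr F _ _
  have hJ : Function.Injective J := (coords G hG2 e).injective.comp
    (LinearMap.inl_injective.comp LinearMap.inr_injective)
  have hr : LinearMap.range (nil (tMat G hG2 e)) = LinearMap.range J := by
    refine le_antisymm ?_ ?_
    · rintro _ ⟨v, rfl⟩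
      exact ⟨((coords G hG2 e).symm v).1.1, by rw [nil_tMat, nn_apply]; rfl⟩
    · rintro _ ⟨a, rfl⟩
      exact ⟨coords G hG2 e ((a, 0), 0), by rw [nil_tMat, LinearEquiv.symm_apply_apply, nn_apply]; rfl⟩
  rw [hr, LinearMap.finrank_range_of_inj hJ, Module.finrank_fintype_fun_eq_card]

/-- The centraliser of the model in the symplectic group is the centraliser in the model. -/
theorem card_centralizer_tMat [DecidableEq κ] {G : Matrix ι ι F} (hG : Gᵀ = G) (hG2 : G * G = 1)
    (e : ι ⊕ κ ≃ Fin m) :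
    Nat.card {g : Matrix.symplecticGroup (Fin m) F // g.1 * tMat G hG2 e = tMat G hG2 e * g.1} =
      Nat.card (cent G (fK κ F)) := by
  let Φ := coords G hG2 e
  let Ψ : isom F (sympForm m F) ≃* isom F (fun u v => bB G (fK κ F) u v) :=
    isomCongr Φ.symm fun u v => by
      rw [← coords_symp hG hG2 e, LinearEquiv.apply_symm_apply, LinearEquiv.apply_symm_apply]
  refine Nat.card_congr ((((spEquiv m F).trans Ψ).toEquiv.subtypeEquiv fun g => ?_).trans
    ((Equiv.subtypeSubtypeEquivSubtypeInter (fun g => g ∈ isom F (fun u v => bB G (fK κ F) u v))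
      (fun g => ∀ p, g (nn p) = nn (g p))).trans (Equiv.subtypeEquivRight fun g => Iff.rfl)))
  show g.1 * tMat G hG2 e = tMat G hG2 e * g.1 ↔
    ∀ p, Φ.symm ((spEquiv m F g).1 (Φ (nn p))) = nn (Φ.symm ((spEquiv m F g).1 (Φ p)))
  simp only [spEquiv_apply]
  constructor
  · intro h p
    have := congrArg (fun M => M *ᵥ Φ p) h
    simp only [← Matrix.mulVec_mulVec, tMat_mulVec, Matrix.mulVec_add, add_right_inj] at this
    rw [LinearEquiv.symm_apply_apply] at this
    exact Φ.symm_apply_eq.2 this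
  · intro h
    refine Matrix.mulVec_injective (funext fun v => ?_)
    obtain ⟨p, rfl⟩ := Φ.surjective v
    simp only [← Matrix.mulVec_mulVec, tMat_mulVec, Matrix.mulVec_add, add_right_inj]
    rw [LinearEquiv.symm_apply_apply]
    exact Φ.symm_apply_eq.1 (h p)

theorem fin_sum_equiv {r : ℕ} (hι : Fintype.card ι = r) (hr : r ≤ m) :
    Nonempty (ι ⊕ Fin (m - r) ≃ Fin m) :=
  ⟨Fintype.equivFinOfCardEq (by simp [hι]; omega)⟩

/-- The centraliser order of any involution with the rank and type of a model. -/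
theorem card_centralizer [Fintype F] {G : Matrix ι ι F} (hG : Gᵀ = G) (hG2 : G * G = 1)
    (t : Matrix.symplecticGroup (Fin m) F) (ht : t ^ 2 = 1) (hr : (t.1 - 1).rank = Fintype.card ι)
    (hty : (∀ v, form t.1 v v = 0) ↔ ∀ a : ι → F, pair G a a = 0) :
    Nat.card ↥(Subgroup.centralizer ({t} : Set (Matrix.symplecticGroup (Fin m) F))) =
      Nat.card (Orth G) * Fintype.card F ^ (2 * (m - Fintype.card ι) * Fintype.card ι +
          (Fintype.card ι + 1).choose 2) *
        (Fintype.card F ^ ((m - Fintype.card ι) ^ 2) *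
          ∏ i : Fin (m - Fintype.card ι), (Fintype.card F ^ (2 * ((i : ℕ) + 1)) - 1)) := by
  classical
  have hsq : t.1 * t.1 = 1 := by
    have := congrArg Subtype.val ht
    rwa [pow_two] at this
  have hle : Fintype.card ι ≤ m := hr ▸ InvolTwoCount.rank_le hsq
  obtain ⟨e⟩ := fin_sum_equiv (m := m) rfl hle
  obtain ⟨A, hA⟩ := SympTwo.exists_conj t.2 hsq (tMat_mem hG hG2 e) (tMat_sq G hG2 e)
    (by rw [hr, rank_tMat]) (by
      rw [hty]
      refine ⟨fun h v => ?_, fun h a => ?_⟩
      · obtain ⟨p, rfl⟩ := (coords G hG2 e).surjective v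
        rw [form_tMat hG]; exact h _
      · have := h (coords G hG2 e ((a, 0), 0))
        rwa [form_tMat hG] at this)
  have hconj : Nat.card ↥(Subgroup.centralizer ({t} : Set (Matrix.symplecticGroup (Fin m) F))) =
      Nat.card {g : Matrix.symplecticGroup (Fin m) F // g.1 * tMat G hG2 e = tMat G hG2 e * g.1} := by
    refine Nat.card_congr ((MulAut.conj A).toEquiv.subtypeEquiv fun g => ?_)
    rw [Subgroup.mem_centralizer_singleton_iff]
    let t₀ : Matrix.symplecticGroup (Fin m) F := ⟨tMat G hG2 e, tMat_mem hG hG2 e⟩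
    have hA' : A * t = t₀ * A := Subtype.ext hA
    have ht₀ : t₀ = A * t * A⁻¹ := by rw [hA', mul_inv_cancel_right]
    show g * t = t * g ↔ _
    refine Iff.trans ?_ (Subtype.ext_iff (a1 := A * g * A⁻¹ * t₀) (a2 := t₀ * (A * g * A⁻¹)))
    rw [ht₀, ← mul_left_inj A⁻¹, ← mul_right_inj A]
    constructor <;> intro h <;> [skip; skip] <;> simpa [mul_assoc] using h
  rw [hconj, card_centralizer_tMat hG hG2 e, card_cent hG (Matrix.isUnit_det_of_left_inverse hG2) fK_isAlt fK_sep,
    card_vec, ← card_isom_symp]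
  have hfk : Nat.card (isom F fun u v => fK (Fin (m - Fintype.card ι)) F u v) =
      Nat.card (isom F fun u v => sympB (m - Fintype.card ι) F u v) :=
    card_isom_congr (LinearEquiv.refl F _) fun u v => (fK_fin _ u v).symm
  rw [hfk, pow_add, pow_mul]
  ring

theorem choose_two_twice (n : ℕ) : 2 * n.choose 2 = n * (n - 1) := by
  rw [Nat.choose_two_right, Nat.mul_div_cancel' (Nat.even_mul_pred_self n).two_dvd]

/-- The dot product is not alternating. -/
theorem pair_one_not_alt {r : ℕ} (hr : 1 ≤ r) :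
    ¬ ∀ a : Fin r → F, pair (1 : Matrix (Fin r) (Fin r) F) a a = 0 := fun h => by
  have := h (Pi.single ⟨0, hr⟩ 1)
  rw [pair_single, Matrix.one_apply_eq] at this
  exact one_ne_zero this

end Cfsg.Agent.Forms.CentTwo
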