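/-
Centralisers of involutions in the orthogonal group of plus type inside the symplectic centraliser
(non-alternating type): the index is half of the order of the fixed space.
-/
import Cfsg.Agent.Lib.Forms.CentTwoSymp
import Cfsg.Agent.Lib.Forms.OmegaTwoClasses
import Cfsg.Agent.Lib.QForm.MaximalSingular

set_option autoImplicit false
set_option linter.unusedSectionVars false

namespace Cfsg.Agent.Forms.CentTwo

open scoped Matrix
open Module (finrank)
open SympTwo (nil form)

variable {F : Type*} [Field F] [Fintype F] [CharP F 2] {m : ℕ}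

local notation "𝕍" => Fin m ⊕ Fin m → F

theorem polar_quadPlus : QuadraticMap.polarBilin (quadPlus m F) = sympB m F :=
  LinearMap.ext₂ fun u v => by rw [sympB_apply]; exact OrthTwo.polar_eq u v

/-- `Q + f(w, ·)²` is of plus type only if `Q w` is of the shape `d² + d`. -/
theorem good_of_twist (h : 𝕍 ≃ₗ[F] 𝕍) (hs : ∀ u v, sympForm m F (h u) (h v) = sympForm m F u v) (w : 𝕍)
    (hq : ∀ v, quadPlus m F (h v) = quadPlus m F v + sympForm m F w v * sympForm m F w v) :
    ∃ d, quadPlus m F w = d * d + d := by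
  classical
  have hnd : (QuadraticMap.polarBilin (quadPlus m F)).Nondegenerate := quadPlus_nondegenerate m
  have hV : finrank F 𝕍 = 2 * m := by simp [two_mul]
  let J : (Fin m → F) →ₗ[F] 𝕍 :=
    { toFun := fun x => Sum.elim x 0
      map_add' := fun x y => by funext j; rcases j with i | i <;> simp
      map_smul' := fun c x => by funext j; rcases j with i | i <;> simp }
  have hJ : Function.Injective J := fun x y e => funext fun i => congrFun e (.inl i)
  set L0 := LinearMap.range J
  have hL0m : finrank F L0 = m := by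
    rw [LinearMap.finrank_range_of_inj hJ, Module.finrank_fin_fun]
  have hL0 : QForm.TotallySingular (quadPlus m F) L0 := by
    rintro _ ⟨x, rfl⟩
    rw [quadPlus_apply]
    exact Finset.sum_eq_zero fun i _ => by simp [J]
  set L := L0.map h.symm.toLinearMap
  have hLm : finrank F L = m := (LinearEquiv.finrank_eq (h.symm.submoduleMap L0)).symm.trans hL0m
  have hL0f : ∀ x ∈ L0, ∀ y ∈ L0, sympForm m F x y = 0 := by
    intro x hx y hy
    rw [← sympB_apply, ← polar_quadPlus]
    exact hL0.le_orthogonal hy x hx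
  have hLf : ∀ x ∈ L, ∀ y ∈ L, sympForm m F x y = 0 := by
    intro x hx y hy
    obtain ⟨x', hx', rfl⟩ := Submodule.mem_map.1 hx
    obtain ⟨y', hy', rfl⟩ := Submodule.mem_map.1 hy
    rw [← hs]
    simpa using hL0f x' hx' y' hy'
  have hLq : ∀ x ∈ L, quadPlus m F x = sympForm m F w x * sympForm m F w x := by
    intro x hx
    obtain ⟨x', hx', rfl⟩ := Submodule.mem_map.1 hx
    have := hq (h.symm x')
    rw [h.apply_symm_apply, hL0 x' hx'] at this
    exact CharTwo.add_eq_zero.1 this.symm
  let φ : 𝕍 →ₗ[F] F := sympB m F w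
  have hφ : ∀ x, φ x = sympForm m F w x := fun x => sympB_apply w x
  by_cases hcase : ∀ x ∈ L, sympForm m F w x = 0
  · refine ⟨0, ?_⟩
    have hw0 : h w ∈ L0 := by
      refine ⟨fun i => h w (.inl i), funext fun j => ?_⟩
      rcases j with i | i
      · rfl
      · have hmem : h.symm (J (Pi.single i 1)) ∈ L := Submodule.mem_map_of_mem ⟨_, rfl⟩
        have := hcase _ hmem
        rw [← hs, h.apply_symm_apply, sympForm_eq_sum, Finset.sum_eq_single i (fun b _ hb => by simp [J, hb])
          (by simp)] at this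
        simpa [J, eq_comm] using this
    have := hq w
    rw [hL0 _ hw0, SympTwo.symp_self, mul_zero, add_zero] at this
    rw [← this]; ring
  push Not at hcase
  obtain ⟨x0, hx0, hx0'⟩ := hcase
  set H := L ⊓ LinearMap.ker φ
  have hH : QForm.TotallySingular (quadPlus m F) H := fun x hx => by
    rw [hLq x hx.1, ← hφ, LinearMap.mem_ker.1 hx.2, mul_zero]
  have hHm : finrank F H + 1 = m := by
    have hsup : L ⊔ LinearMap.ker φ = ⊤ := by
      refine eq_top_iff.2 fun v _ => ?_
      rw [show v = (φ v / φ x0) • x0 + (v - (φ v / φ x0) • x0) by abel]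
      refine Submodule.add_mem_sup (Submodule.smul_mem _ _ hx0) (LinearMap.mem_ker.2 ?_)
      rw [map_sub, map_smul, smul_eq_mul, div_mul_cancel₀ _ (by rw [hφ]; exact hx0'), sub_self]
    have h1 := Submodule.finrank_sup_add_finrank_inf_eq L (LinearMap.ker φ)
    have h2 := φ.finrank_range_add_finrank_ker
    rw [LinearMap.range_eq_top.2 (LinearMap.surjective fun e => hx0' (by rw [← hφ, e]; rfl)), finrank_top,
      Module.finrank_self, hV] at h2
    rw [hsup, finrank_top, hV] at h1
    show finrank F ↥(L ⊓ LinearMap.ker φ) + 1 = m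
    omega
  obtain ⟨W, hW, hWm, hHW, -⟩ := QForm.exists_extension hnd hV hH hHm hL0 hL0m
  obtain ⟨y, hyW, hyH⟩ : ∃ y ∈ W, y ∉ H := SetLike.not_le_iff_exists.1 fun hh => by
    have := Submodule.finrank_mono hh
    omega
  -- the orthogonal of `H` is spanned by `L` and `w`
  set O := LinearMap.BilinForm.orthogonal (QuadraticMap.polarBilin (quadPlus m F)) H
  have hO : ∀ v, (∀ x ∈ H, sympForm m F x v = 0) → v ∈ O := fun v hv x hx => by
    show QuadraticMap.polarBilin (quadPlus m F) x v = 0
    rw [polar_quadPlus, sympB_apply]; exact hv x hx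
  have hwL : w ∉ L := fun hh => hx0' (hLf w hh x0 hx0)
  have heq : L ⊔ F ∙ w = O := by
    refine Submodule.eq_of_le_of_finrank_eq (sup_le (fun v hv => hO v fun x hx => hLf x hx.1 v hv) ?_) ?_
    · refine (Submodule.span_singleton_le_iff_mem _ _).2 (hO w fun x hx => ?_)
      rw [SympTwo.symp_comm, ← hφ]; exact hx.2
    · rw [Submodule.finrank_sup_span_singleton hwL, LinearMap.BilinForm.finrank_orthogonal hnd, hV, hLm]
      omega
  have hyO : y ∈ O := hO y fun x hx => by
    rw [← sympB_apply, ← polar_quadPlus]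
    exact hW.le_orthogonal hyW x (hHW hx)
  rw [← heq] at hyO
  obtain ⟨l, hl, z, hz, rfl⟩ := Submodule.mem_sup.1 hyO
  obtain ⟨b, rfl⟩ := Submodule.mem_span_singleton.1 hz
  have e : sympForm m F w l * sympForm m F w l + b * b * quadPlus m F w + b * sympForm m F w l = 0 := by
    rw [← hW _ hyW, OrthTwo.q_add, OrthTwo.q_smul, OrthTwo.symp_smul_right, hLq l hl,
      SympTwo.symp_comm l w]
  by_cases hb : b = 0
  · exfalso
    apply hyH
    subst hb
    rw [zero_smul, add_zero]
    refine ⟨hl, LinearMap.mem_ker.2 ?_⟩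
    rw [hφ]
    simpa using e
  · refine ⟨sympForm m F w l / b, ?_⟩
    field_simp
    rw [← CharTwo.add_eq_zero]
    linear_combination e

variable {t : Matrix (Fin m ⊕ Fin m) (Fin m ⊕ Fin m) F}

/-- The fixed vectors `w` with `Q w` of the shape `d² + d`. -/
def Good (t : Matrix (Fin m ⊕ Fin m) (Fin m ⊕ Fin m) F) : Set 𝕍 :=
  {w | nil t w = 0 ∧ ∃ d, quadPlus m F w = d * d + d}

/-- The isometries of the symplectic form commuting with `t`. -/
def SpCent (t : Matrix (Fin m ⊕ Fin m) (Fin m ⊕ Fin m) F) : Set (𝕍 ≃ₗ[F] 𝕍) :=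
  {g | (∀ u v, sympForm m F (g u) (g v) = sympForm m F u v) ∧ ∀ v, g (nil t v) = nil t (g v)}

/-- The orthogonal ones among them. -/
def OCent (t : Matrix (Fin m ⊕ Fin m) (Fin m ⊕ Fin m) F) : Set (𝕍 ≃ₗ[F] 𝕍) :=
  {g | g ∈ SpCent t ∧ ∀ v, quadPlus m F (g v) = quadPlus m F v}

/-- Transvection. -/
noncomputable def transv (w : 𝕍) (c : F) : 𝕍 ≃ₗ[F] 𝕍 where
  toFun v := v + (c * sympB m F w v) • w
  invFun v := v + (c * sympB m F w v) • w
  map_add' u v := by simp only [map_add, mul_add, add_smul]; abel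
  map_smul' r v := by simp only [map_smul, smul_eq_mul, RingHom.id_apply, smul_add, smul_smul]; ring_nf
  left_inv v := by
    have h0 : sympB m F w w = 0 := sympB_isAlt m w
    simp only [map_add, map_smul, h0, smul_zero, add_zero]
    funext j
    simp [add_assoc, CharTwo.add_self_eq_zero]
  right_inv v := by
    have h0 : sympB m F w w = 0 := sympB_isAlt m w
    simp only [map_add, map_smul, h0, smul_zero, add_zero]
    funext j
    simp [add_assoc, CharTwo.add_self_eq_zero]

theorem transv_transv (w : 𝕍) (c : F) (v : 𝕍) : transv w c (transv w c v) = v := (transv w c).left_inv v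

theorem transv_mem (ht : t ∈ Matrix.symplecticGroup (Fin m) F) (hsq : t * t = 1) {w : 𝕍}
    (hw : nil t w = 0) (c : F) : transv w c ∈ SpCent t := by
  refine ⟨fun u v => ?_, fun v => ?_⟩
  · show sympForm m F (u + _) (v + _) = _
    simp only [← sympB_apply, map_add, map_smul, LinearMap.add_apply, LinearMap.smul_apply, smul_eq_mul]
    simp only [sympB_apply, SympTwo.symp_self, SympTwo.symp_comm u w]
    linear_combination c * sympForm m F w v * sympForm m F w u * CharTwo.two_eq_zero (R := F)
  · show nil t v + _ = nil t (v + _)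
    rw [map_add, map_smul, hw, smul_zero, add_zero, sympB_apply, ← SympTwo.nil_adjoint ht hsq, hw,
      ← sympB_apply]
    simp

/-- The index of the orthogonal centraliser. -/
theorem card_spCent_eq (ht : t ∈ Matrix.symplecticGroup (Fin m) F) (hsq : t * t = 1)
    (hQ : ∀ v, quadPlus m F (t *ᵥ v) = quadPlus m F v) :
    Nat.card (SpCent t) = Nat.card (Good t) * Nat.card (OCent t) := by
  classical
  -- transvection constants
  have hc : ∀ w : Good t, ∃ c : F, c * c * quadPlus m F w.1 + c = 1 := by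
    rintro ⟨w, hw, d, hd⟩
    by_cases h0 : quadPlus m F w = 0
    · exact ⟨1, by simp [h0]⟩
    · refine ⟨d / quadPlus m F w, ?_⟩
      field_simp
      linear_combination -hd
  choose c hc using hc
  have hT : ∀ (w : Good t) (v : 𝕍), quadPlus m F (transv w.1 (c w) v) =
      quadPlus m F v + sympForm m F w.1 v * sympForm m F w.1 v := fun w v => by
    show quadPlus m F (v + _) = _
    rw [OrthTwo.q_add, OrthTwo.q_smul, OrthTwo.symp_smul_right, sympB_apply, SympTwo.symp_comm v w.1]
    linear_combination sympForm m F w.1 v * sympForm m F w.1 v * hc w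
  -- the vector of an element
  have hw : ∀ g ∈ SpCent t, ∃ w : Good t, ∀ v,
      quadPlus m F (g v) = quadPlus m F v + sympForm m F w.1 v * sympForm m F w.1 v := by
    intro g hg
    choose r hr using fun v : 𝕍 => SympTwo.exists_sqrt (quadPlus m F (g v) + quadPlus m F v)
    let l : 𝕍 →ₗ[F] F :=
      { toFun := r
        map_add' := fun u v => sq_inj (by
          rw [← hr, map_add, OrthTwo.q_add, OrthTwo.q_add, hg.1]
          linear_combination hr u + hr v + (sympForm m F u v - r u * r v) * CharTwo.two_eq_zero (R := F))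
        map_smul' := fun a v => sq_inj (by
          rw [← hr, map_smul, OrthTwo.q_smul, OrthTwo.q_smul, RingHom.id_apply, smul_eq_mul]
          linear_combination a * a * hr v) }
    obtain ⟨w, hw⟩ : ∃ w, sympB m F w = l := by
      refine ((LinearMap.injective_iff_surjective_of_finrank_eq_finrank
        (Subspace.dual_finrank_eq).symm).1 ?_) l
      rw [← LinearMap.ker_eq_bot, LinearMap.ker_eq_bot']
      exact fun x hx => (sympB_nondegenerate m).1 x fun y => LinearMap.congr_fun hx y
    have hq : ∀ v, quadPlus m F (g v) = quadPlus m F v + sympForm m F w v * sympForm m F w v := fun v => by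
      have := hr v
      rw [show r v = sympForm m F w v by rw [← sympB_apply, hw]; rfl] at this
      linear_combination this - quadPlus m F v * CharTwo.two_eq_zero (R := F)
    refine ⟨⟨w, SympTwo.symp_sep fun y => ?_, good_of_twist g hg.1 w hq⟩, hq⟩
    rw [SympTwo.nil_adjoint ht hsq]
    have e1 : quadPlus m F (g (nil t y)) = quadPlus m F (nil t y) := by
      rw [hg.2, OrthTwo.q_nil hQ, OrthTwo.q_nil hQ, SympTwo.form_apply, SympTwo.form_apply, ← hg.2, hg.1]
    have := hq (nil t y)
    rw [e1] at this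
    have h2 : sympForm m F w (nil t y) * sympForm m F w (nil t y) = 0 := by linear_combination -this
    exact mul_self_eq_zero.1 h2
  choose W hW using hw
  have huniq : ∀ (g : 𝕍 ≃ₗ[F] 𝕍) (w w' : 𝕍),
      (∀ v, quadPlus m F (g v) = quadPlus m F v + sympForm m F w v * sympForm m F w v) →
      (∀ v, quadPlus m F (g v) = quadPlus m F v + sympForm m F w' v * sympForm m F w' v) → w = w' := by
    intro g w w' h h'
    refine sub_eq_zero.1 (SympTwo.symp_sep fun v => ?_)
    rw [← sympB_apply, map_sub, LinearMap.sub_apply, sympB_apply, sympB_apply,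
      sq_inj (add_left_cancel ((h v).symm.trans (h' v))), sub_self]
  have hmul : ∀ g h : 𝕍 ≃ₗ[F] 𝕍, g ∈ SpCent t → h ∈ SpCent t → g * h ∈ SpCent t := fun g h hg hh =>
    ⟨fun u v => (hg.1 _ _).trans (hh.1 u v), fun v => by
      show g (h (nil t v)) = nil t (g (h v))
      rw [hh.2, hg.2]⟩
  rw [← Nat.card_prod]
  refine Nat.card_congr
    { toFun := fun g => (W g.1 g.2, ⟨g.1 * transv (W g.1 g.2).1 (c (W g.1 g.2)),
        hmul _ _ g.2 (transv_mem ht hsq (W g.1 g.2).2.1 _), fun v => ?_⟩)
      invFun := fun p => ⟨p.2.1 * transv p.1.1 (c p.1), hmul _ _ p.2.2.1 (transv_mem ht hsq p.1.2.1 _)⟩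
      left_inv := fun g => ?_
      right_inv := fun p => ?_ }
  · show quadPlus m F (g.1 (transv _ _ v)) = _
    rw [hW g.1 g.2, hT]
    have h0 : sympForm m F (W g.1 g.2).1 (transv (W g.1 g.2).1 (c (W g.1 g.2)) v) = sympForm m F (W g.1 g.2).1 v := by
      show sympForm m F _ (v + _) = _
      rw [SympTwo.symp_add_right, OrthTwo.symp_smul_right, SympTwo.symp_self, mul_zero, add_zero]
    rw [h0]
    linear_combination sympForm m F (W g.1 g.2).1 v * sympForm m F (W g.1 g.2).1 v * CharTwo.two_eq_zero (R := F)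
  · exact Subtype.ext (LinearEquiv.ext fun v => congrArg g.1 (transv_transv _ _ v))
  · have h1 : W (p.2.1 * transv p.1.1 (c p.1)) (hmul _ _ p.2.2.1 (transv_mem ht hsq p.1.2.1 _)) = p.1 :=
      Subtype.ext (huniq (p.2.1 * transv p.1.1 (c p.1)) _ _ (hW _ _) fun v => (p.2.2.2 _).trans (hT p.1 v))
    refine Prod.ext h1 (Subtype.ext (LinearEquiv.ext fun v => ?_))
    show p.2.1 (transv p.1.1 (c p.1) (transv (W _ _).1 (c (W _ _)) v)) = p.2.1 v
    rw [h1, transv_transv]

/-- Exactly half of the fixed vectors are good when `Q` is not zero on the image of `t - 1`. -/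
theorem two_mul_card_good (ht : t ∈ Matrix.symplecticGroup (Fin m) F) (hsq : t * t = 1)
    (hQ : ∀ v, quadPlus m F (t *ᵥ v) = quadPlus m F v) (hna : ∃ v, form t v v ≠ 0) :
    2 * Nat.card (Good t) = Fintype.card F ^ (2 * m - (t - 1).rank) := by
  classical
  obtain ⟨δ, hδ⟩ := OrthTwoMinus.exists_delta (F := F)
  -- outside `d² + d`
  obtain ⟨k, hk⟩ : ∃ k : F, ∀ d, k ≠ d * d + d := by
    have hns : ¬ Function.Surjective (fun d : F => d * d + d) := fun hsur => by
      have hinj := Finite.injective_iff_surjective.2 hsur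
      have := @hinj 0 1 (by simp [CharTwo.add_self_eq_zero])
      exact zero_ne_one this
    simp only [Function.Surjective, not_forall, not_exists] at hns
    obtain ⟨k, hk⟩ := hns
    exact ⟨k, fun d => Ne.symm (hk d)⟩
  obtain ⟨v₀, hv₀⟩ := hna
  obtain ⟨s, hs⟩ := SympTwo.exists_sqrt (k / form t v₀ v₀)
  set z : 𝕍 := s • nil t v₀
  have hz : nil t z = 0 := by rw [map_smul, SympTwo.nil_nil hsq, smul_zero]
  have hzq : quadPlus m F z = k := by
    rw [OrthTwo.q_smul, OrthTwo.q_nil hQ, ← hs, div_mul_cancel₀ _ hv₀]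
  have hadd : ∀ w, nil t w = 0 → quadPlus m F (w + z) = quadPlus m F w + k := fun w hw => by
    rw [OrthTwo.q_add, hzq, OrthTwo.symp_smul_right, ← SympTwo.nil_adjoint ht hsq, hw, ← sympB_apply]
    simp
  let p : LinearMap.ker (nil t) → Prop := fun w => ∃ d, quadPlus m F w.1 = d * d + d
  let σ : LinearMap.ker (nil t) ≃ LinearMap.ker (nil t) := Equiv.addRight ⟨z, hz⟩
  have hflip : ∀ w, p w ↔ ¬ p (σ w) := by
    intro w
    show (∃ d, quadPlus m F w.1 = d * d + d) ↔ ¬ ∃ d, quadPlus m F (w.1 + z) = d * d + d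
    rw [hadd w.1 w.2]
    constructor
    · rintro ⟨d, hd⟩ ⟨e, he⟩
      exact hk (d + e) (by linear_combination he - hd + (-d * e - d * d - d) * CharTwo.two_eq_zero (R := F))
    · intro hne
      by_contra hp
      push Not at hp hne
      obtain ⟨d₁, h₁⟩ := hδ _ hp
      obtain ⟨d₂, h₂⟩ := hδ _ hk
      exact hne (d₁ + d₂) (by
        linear_combination h₁ + h₂ + (δ - d₁ * d₁ - d₁ - d₂ * d₂ - d₂ - d₁ * d₂) * CharTwo.two_eq_zero (R := F))
  have hker : Nat.card (LinearMap.ker (nil t)) = Fintype.card F ^ (2 * m - (t - 1).rank) := by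
    rw [Module.natCard_eq_pow_finrank (K := F), Nat.card_eq_fintype_card]
    congr 1
    have h1 := (nil t).finrank_range_add_finrank_ker
    rw [Module.finrank_fintype_fun_eq_card] at h1
    simp only [Fintype.card_sum, Fintype.card_fin] at h1
    show finrank F (LinearMap.ker (nil t)) = 2 * m - finrank F (LinearMap.range (nil t))
    omega
  have hgood : Nat.card (Good t) = Nat.card {w : LinearMap.ker (nil t) // p w} :=
    Nat.card_congr
      { toFun := fun w => ⟨⟨w.1, w.2.1⟩, w.2.2⟩
        invFun := fun w => ⟨w.1.1, w.1.2, w.2⟩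
        left_inv := fun w => rfl
        right_inv := fun w => rfl }
  have hbad : Nat.card {w : LinearMap.ker (nil t) // p w} = Nat.card {w : LinearMap.ker (nil t) // ¬ p w} :=
    Nat.card_congr (σ.subtypeEquiv hflip)
  have hsum : Nat.card {w : LinearMap.ker (nil t) // p w} + Nat.card {w : LinearMap.ker (nil t) // ¬ p w} =
      Nat.card (LinearMap.ker (nil t)) := by
    rw [← Nat.card_sum]; exact Nat.card_congr (Equiv.sumCompl p)
  rw [hgood, ← hker, ← hsum, ← hbad, two_mul]

/-- `SpCent` is the centraliser in the symplectic group. -/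
theorem card_spCent (t : Matrix.symplecticGroup (Fin m) F) :
    Nat.card ↥(Subgroup.centralizer ({t} : Set (Matrix.symplecticGroup (Fin m) F))) = Nat.card (SpCent t.1) := by
  refine Nat.card_congr (((spEquiv m F).toEquiv.subtypeEquiv fun g => ?_).trans
    ((Equiv.subtypeSubtypeEquivSubtypeInter (fun g => g ∈ isom F (sympForm m F))
      (fun g => ∀ v, g (nil t.1 v) = nil t.1 (g v))).trans (Equiv.subtypeEquivRight fun g => Iff.rfl)))
  rw [Subgroup.mem_centralizer_singleton_iff]
  show g * t = t * g ↔ ∀ v, (spEquiv m F g).1 (nil t.1 v) = nil t.1 ((spEquiv m F g).1 v)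
  simp only [spEquiv_apply, SympTwo.nil_apply, Matrix.mulVec_sub, Matrix.mulVec_mulVec, sub_left_inj]
  refine ⟨fun h v => by rw [show g.1 * t.1 = t.1 * g.1 from congrArg Subtype.val h],
    fun h => Subtype.ext (Matrix.mulVec_injective (funext h))⟩

/-- `OCent` is the centraliser in the isometry group. -/
theorem card_oCent (x : ↥(isometryGroup F (quadFormPlus m F))) :
    Nat.card {g : ↥(isometryGroup F (quadFormPlus m F)) // g * x = x * g} =
      Nat.card (OCent (x.1 : Matrix (Fin m ⊕ Fin m) (Fin m ⊕ Fin m) F)) := by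
  let E := isometryGroupEquivQ (quadPlus m F) (fun v => quadPlus_apply (F := F) v)
  refine Nat.card_congr ((E.toEquiv.subtypeEquiv fun g => ?_).trans
    ((Equiv.subtypeSubtypeEquivSubtypeInter (fun g => g ∈ isomQ (quadPlus m F))
      (fun g => ∀ v, g (nil (x.1 : Matrix (Fin m ⊕ Fin m) (Fin m ⊕ Fin m) F) v) =
        nil (x.1 : Matrix (Fin m ⊕ Fin m) (Fin m ⊕ Fin m) F) (g v))).trans
      (Equiv.subtypeEquivRight fun g => ?_)))
  · show g * x = x * g ↔ _
    have hg : ∀ v, (E g).1 v = (g.1 : Matrix (Fin m ⊕ Fin m) (Fin m ⊕ Fin m) F) *ᵥ v := fun v => rfl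
    simp only [MulEquiv.toEquiv_eq_coe, MulEquiv.coe_toEquiv, hg, SympTwo.nil_apply, Matrix.mulVec_sub,
      Matrix.mulVec_mulVec, sub_left_inj]
    refine ⟨fun h v => ?_, fun h => Subtype.ext (Units.ext (Matrix.mulVec_injective (funext h)))⟩
    rw [show (g.1 : Matrix (Fin m ⊕ Fin m) (Fin m ⊕ Fin m) F) * x.1 = x.1 * g.1 from
      congrArg (fun y : ↥(isometryGroup F (quadFormPlus m F)) =>
        (y.1 : Matrix (Fin m ⊕ Fin m) (Fin m ⊕ Fin m) F)) h]
  · refine ⟨fun h => ⟨⟨fun u v => ?_, h.2⟩, fun v => h.1 v 0⟩, fun h => ⟨fun u _ => h.2 u, h.1.2⟩⟩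
    have := polar_map_of_mem_isomQ h.1 u v
    exact (OrthTwo.polar_eq _ _).symm.trans (this.trans (OrthTwo.polar_eq _ _))

/-- Centralisers in `Omega` are half of those in the orthogonal group when an odd element centralises. -/
theorem two_mul_card_omega_cent {G : Type*} [Group G] (N : Subgroup G)
    (hpar : ∀ a b : G, a ∉ N → b ∉ N → a * b ∈ N) (x : G) {c : G} (hc : c ∉ N) (hcx : Commute c x) [Finite G] :
    Nat.card {g : G // g * x = x * g} = 2 * Nat.card {g : N // (g : G) * x = x * (g : G)} := by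
  classical
  have h1 : Nat.card {g : G // g * x = x * g} = Nat.card {g : {g : G // g * x = x * g} // g.1 ∈ N} +
      Nat.card {g : {g : G // g * x = x * g} // g.1 ∉ N} := by
    rw [← Nat.card_sum]; exact (Nat.card_congr (Equiv.sumCompl _)).symm
  have h2 : Nat.card {g : {g : G // g * x = x * g} // g.1 ∈ N} = Nat.card {g : N // (g : G) * x = x * (g : G)} :=
    Nat.card_congr
      { toFun := fun g => ⟨⟨g.1.1, g.2⟩, g.1.2⟩
        invFun := fun g => ⟨⟨g.1.1, g.2⟩, g.1.2⟩
        left_inv := fun g => rfl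
        right_inv := fun g => rfl }
  let σ : {g : G // g * x = x * g} ≃ {g : G // g * x = x * g} := (Equiv.mulLeft c).subtypeEquiv fun g => by
    show g * x = x * g ↔ c * g * x = x * (c * g)
    rw [← mul_assoc, ← hcx.eq, mul_assoc, mul_assoc, mul_right_inj]
  have h3 : Nat.card {g : {g : G // g * x = x * g} // g.1 ∈ N} =
      Nat.card {g : {g : G // g * x = x * g} // g.1 ∉ N} := by
    refine Nat.card_congr (σ.subtypeEquiv fun g => ?_)
    show g.1 ∈ N ↔ c * g.1 ∉ N
    exact ⟨fun hg hcg => hc (by simpa using N.mul_mem hcg (N.inv_mem hg)),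
      fun hcg => by_contra fun hg => hcg (hpar _ _ hc hg)⟩
  omega

/-- The centraliser in `Omega` of a non-alternating involution. -/
theorem card_omega_cent_nonalt (hm : 1 ≤ m) (h : Fintype.card F ≠ 2 ∨ m ≠ 2)
    (x : ↥(isometryGroup F (quadFormPlus m F))) (hord : orderOf x = 2)
    (hna : ∃ v, form (x.1 : Matrix (Fin m ⊕ Fin m) (Fin m ⊕ Fin m) F) v v ≠ 0) :
    ∃ t : Matrix.symplecticGroup (Fin m) F, t.1 = (x.1 : Matrix (Fin m ⊕ Fin m) (Fin m ⊕ Fin m) F) ∧ t ^ 2 = 1 ∧
      Nat.card ↥(Subgroup.centralizer ({t} : Set (Matrix.symplecticGroup (Fin m) F))) =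
        Nat.card {g : ↥(Omega F (quadFormPlus m F)) //
          (g : ↥(isometryGroup F (quadFormPlus m F))) * x = x * (g : ↥(isometryGroup F (quadFormPlus m F)))} *
          Fintype.card F ^ (2 * m - ((x.1 : Matrix (Fin m ⊕ Fin m) (Fin m ⊕ Fin m) F) - 1).rank) := by
  classical
  set a := (x.1 : Matrix (Fin m ⊕ Fin m) (Fin m ⊕ Fin m) F) with ha'
  have hQ : ∀ v, quadPlus m F (a *ᵥ v) = quadPlus m F v := fun v => by
    rw [quadPlus_apply, quadPlus_apply]; exact x.2 v 0
  have hsq : a * a = 1 := by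
    have := pow_orderOf_eq_one x
    rw [hord, pow_two] at this
    exact congrArg (fun y : ↥(isometryGroup F (quadFormPlus m F)) =>
      (y.1 : Matrix (Fin m ⊕ Fin m) (Fin m ⊕ Fin m) F)) this
  let t : Matrix.symplecticGroup (Fin m) F := ⟨a, OrthTwo.mem_symp_of_isom hQ⟩
  have hh : Fintype.card F ≠ 2 ∨ Fintype.card (Fin m ⊕ Fin m) ≠ 4 := h.imp_right fun hne => by simp; omega
  obtain ⟨-, hpar⟩ := OmegaTwoClasses.omega_criteria _ _ (QForm.coe_plusForm F m).symm
    (QForm.plusForm_nondegenerate F m) hh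
  obtain ⟨c, hc, hcx⟩ := OmegaTwoClasses.exists_odd_commute_plus hm h x hord fun hs => by
    obtain ⟨v, hv⟩ := hna
    apply hv
    rw [← OrthTwo.q_nil hQ, SympTwo.nil_apply, quadPlus_apply]
    exact hs.2 v
  refine ⟨t, rfl, Subtype.ext (by show (t ^ 2).1 = 1; rw [pow_two]; exact hsq), ?_⟩
  rw [card_spCent, show (t : Matrix (Fin m ⊕ Fin m) (Fin m ⊕ Fin m) F) = a from rfl,
    card_spCent_eq t.2 hsq hQ, ← card_oCent, two_mul_card_omega_cent _ hpar x hc hcx,
    ← two_mul_card_good t.2 hsq hQ hna]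
  ring

end Cfsg.Agent.Forms.CentTwo
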