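/-
The centraliser of an involution of alternating type in the orthogonal group of plus type.
-/
import Cfsg.Agent.Lib.Forms.CentTwoRatio

set_option autoImplicit false
set_option linter.unusedSectionVars false

namespace Cfsg.Agent.Forms.CentTwo

open scoped Matrix
open Module (finrank)
open SympTwo (nil form)

variable {F : Type*} [Field F] [CharP F 2]

section Model

variable {ι : Type} [Fintype ι] [DecidableEq ι] {C : Type*} [AddCommGroup C] [Module F C]
  (G : Matrix ι ι F) (qC : QuadraticForm F C)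

local notation "𝕄" => ((ι → F) × (ι → F)) × C

theorem polar_isAlt : (QuadraticMap.polarBilin qC).IsAlt := fun v => by
  show QuadraticMap.polar qC v v = 0
  rw [QuadraticMap.polar_self, two_smul, CharTwo.add_self_eq_zero]

/-- The centraliser in the orthogonal group of the model. -/
noncomputable def centQ : Subgroup (𝕄 ≃ₗ[F] 𝕄) where
  carrier := {g | (∀ u, qq G qC (g u) = qq G qC u) ∧ ∀ p, g (nn p) = nn (g p)}
  mul_mem' {a b} ha hb := ⟨fun u => (ha.1 _).trans (hb.1 u), fun p => by
    show a (b (nn p)) = nn (a (b p))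
    rw [hb.2, ha.2]⟩
  one_mem' := ⟨fun _ => rfl, fun _ => rfl⟩
  inv_mem' {a} ha := ⟨fun u => by
    show qq G qC (a.symm u) = _
    rw [← ha.1, a.apply_symm_apply], fun p => by
    show a.symm (nn p) = nn (a.symm p)
    rw [a.symm_apply_eq, ha.2, a.apply_symm_apply]⟩

variable {G qC}

theorem bB_of_qq {g : 𝕄 ≃ₗ[F] 𝕄} (hg : ∀ u, qq G qC (g u) = qq G qC u) (u v : 𝕄) :
    bB G (QuadraticMap.polarBilin qC) (g u) (g v) = bB G (QuadraticMap.polarBilin qC) u v := by
  have h := qq_add G qC (g u) (g v)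
  rw [← map_add, hg, hg, hg, qq_add, add_right_inj] at h
  exact h.symm

theorem centQ_le {g : 𝕄 ≃ₗ[F] 𝕄} (hg : g ∈ centQ G qC) : g ∈ cent G (QuadraticMap.polarBilin qC) :=
  ⟨bB_of_qq hg.1, hg.2⟩

variable (G qC) in
/-- Frames of singular vectors. -/
def FramesQ : Set (ι → 𝕄) :=
  {x | x ∈ Frames G (QuadraticMap.polarBilin qC) ∧ ∀ i, qq G qC (x i) = 0}

theorem frameQ_of_centQ {g : 𝕄 ≃ₗ[F] 𝕄} (hg : g ∈ centQ G qC) :
    (fun i => g ((Pi.single i 1, 0), 0)) ∈ FramesQ G qC := by
  refine ⟨frame_of_cent (centQ_le hg), fun i => ?_⟩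
  rw [hg.1, qq_apply]
  simp [pair]

theorem build_qq (hG : Gᵀ = G) (hd : IsUnit G.det) (halt : ∀ a, pair G a a = 0) {x : ι → 𝕄}
    (hx : x ∈ FramesQ G qC) (p : 𝕄) :
    qq G qC (build G (QuadraticMap.polarBilin qC) x p) = qq G qC p := by
  set b := build G (QuadraticMap.polarBilin qC) x
  let D : 𝕄 →+ F := AddMonoidHom.mk' (fun u => qq G qC (b u) + qq G qC u) fun u v => by
    show qq G qC (b (u + v)) + qq G qC (u + v) = _
    rw [map_add, qq_add, qq_add, build_bB hG hd (polar_isAlt qC) hx.1]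
    linear_combination (bB G (QuadraticMap.polarBilin qC) u v) * CharTwo.two_eq_zero (R := F)
  have hDs : ∀ (r : F) u, D (r • u) = r * r * D u := fun r u => by
    show qq G qC (b (r • u)) + qq G qC (r • u) = r * r * (qq G qC (b u) + qq G qC u)
    rw [map_smul, QuadraticMap.map_smul, QuadraticMap.map_smul, smul_eq_mul, smul_eq_mul]
    ring
  have he : ∀ i, D ((Pi.single i 1, 0), 0) = 0 := fun i => by
    show qq G qC (b _) + _ = 0
    rw [build_single, hx.2, qq_apply]
    simp [pair]
  have hn : ∀ i, D (nn (((Pi.single i 1, 0), 0) : 𝕄)) = 0 := fun i => by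
    show qq G qC (b _) + _ = 0
    rw [build_nn, build_single, qq_apply, qq_apply]
    simp [nn_apply, pair]
  have hw : ∀ w : C, D ((((0 : ι → F), (0 : ι → F)), w)) = 0 := fun w => by
    show qq G qC (b _) + _ = 0
    rw [build_apply, qq_apply, qq_apply]
    simp [pair, CharTwo.add_self_eq_zero]
  have e : p = ∑ i, p.1.1 i • (((Pi.single i 1, 0), 0) : 𝕄) +
      ∑ i, p.1.2 i • nn (((Pi.single i 1, 0), 0) : 𝕄) + ((0, 0), p.2) := by
    ext <;> simp [nn_apply, Prod.fst_sum, Prod.snd_sum, Pi.single_apply]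
  have hD : D p = 0 := by
    rw [e]
    simp only [map_add, map_sum, hDs, he, hn, hw, mul_zero, Finset.sum_const_zero, add_zero]
  exact CharTwo.add_eq_zero.1 hD

variable [Fintype F] [Finite C]

theorem card_framesQ (hd : IsUnit G.det) :
    Nat.card (FramesQ G qC) = Nat.card (Orth G) * Nat.card C ^ Fintype.card ι *
      Fintype.card F ^ (Fintype.card ι).choose 2 := by
  classical
  haveI := Fintype.ofFinite C
  haveI := Fintype.ofFinite (Orth G × (ι → C))
  let Φ : (ι → C) → Matrix ι ι F := fun W => Matrix.of fun i j => QuadraticMap.polarBilin qC (W i) (W j)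
  let E : FramesQ G qC ≃ Σ p : Orth G × (ι → C),
      {Γ : Matrix ι ι F // p.1.1 * G * Γᵀ + (p.1.1 * G * Γᵀ)ᵀ = Φ p.2 ∧
        ∀ i, (p.1.1 * G * Γᵀ) i i = qC (p.2 i)} :=
    { toFun := fun x => ⟨(⟨rowA x.1, x.2.1.1⟩, fun i => (x.1 i).2), Matrix.of fun i => (x.1 i).1.2, by
        ext i j
        have h := x.2.1.2 i j
        rw [bB_apply, CharTwo.add_eq_zero] at h
        simp only [Φ, Matrix.add_apply, Matrix.transpose_apply, Matrix.of_apply, ← h]
        congr 1 <;>
        · simp only [pair, rowA, Matrix.mul_apply, Matrix.transpose_apply, Matrix.of_apply, dotProduct,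
            Matrix.mulVec, Finset.mul_sum, Finset.sum_mul]
          rw [Finset.sum_comm]
          exact Finset.sum_congr rfl fun a _ => Finset.sum_congr rfl fun b _ => by ring, fun i => by
        have h := x.2.2 i
        rw [qq_apply, CharTwo.add_eq_zero] at h
        simp only [pair, rowA, Matrix.mul_apply, Matrix.transpose_apply, Matrix.of_apply, dotProduct,
          Matrix.mulVec, Finset.mul_sum, Finset.sum_mul] at h ⊢
        rw [← h, Finset.sum_comm]
        exact Finset.sum_congr rfl fun a _ => Finset.sum_congr rfl fun b _ => by ring⟩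
      invFun := fun p => ⟨fun i => ((p.1.1.1 i, p.2.1 i), p.1.2 i), ⟨p.1.1.2, fun i j => by
        rw [bB_apply, CharTwo.add_eq_zero]
        have h := congrFun (congrFun p.2.2.1 i) j
        simp only [Φ, Matrix.add_apply, Matrix.transpose_apply, Matrix.of_apply] at h
        rw [← h]
        congr 1 <;>
        · simp only [pair, Matrix.mul_apply, Matrix.transpose_apply, dotProduct,
            Matrix.mulVec, Finset.mul_sum, Finset.sum_mul]
          rw [Finset.sum_comm]
          exact Finset.sum_congr rfl fun a _ => Finset.sum_congr rfl fun b _ => by ring⟩, fun i => by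
        have h := p.2.2.2 i
        rw [qq_apply, CharTwo.add_eq_zero]
        simp only [pair, Matrix.mul_apply, Matrix.transpose_apply, dotProduct,
          Matrix.mulVec, Finset.mul_sum, Finset.sum_mul] at h ⊢
        rw [← h, Finset.sum_comm]
        exact Finset.sum_congr rfl fun a _ => Finset.sum_congr rfl fun b _ => by ring⟩
      left_inv := fun x => rfl
      right_inv := fun p => rfl }
  rw [Nat.card_congr E, Nat.card_sigma, Finset.sum_congr rfl (fun p _ => ?_), Finset.sum_const,
    Finset.card_univ, ← Nat.card_eq_fintype_card, Nat.card_prod, Nat.card_fun, Nat.card_eq_fintype_card (α := ι),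
    smul_eq_mul]
  rw [← (card_solutions (Φ p.2) ?_ fun i => polar_isAlt qC (p.2 i)).2 fun i => qC (p.2 i)]
  · exact Nat.card_congr ((gamEquiv (p.1.1 * G)
      (by rw [Matrix.det_mul]; exact (isUnit_det_of_orth hd p.1.2).mul hd)).subtypeEquiv fun Γ => Iff.rfl)
  · ext i j
    exact QuadraticMap.polar_comm _ _ _

/-- The order of the centraliser in the orthogonal group of the model. -/
theorem card_centQ [FiniteDimensional F C] (hG : Gᵀ = G) (hd : IsUnit G.det) (halt : ∀ a, pair G a a = 0)
    (hs : ∀ w, (∀ v, QuadraticMap.polarBilin qC w v = 0) → w = 0) :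
    Nat.card (centQ G qC) = Nat.card (Orth G) * Nat.card C ^ Fintype.card ι *
      Fintype.card F ^ (Fintype.card ι).choose 2 * Nat.card (isomQ qC) := by
  rw [card_eq_orbit_mul_fix (centQ G qC) (fun i => (((Pi.single i 1, 0), 0) : 𝕄)) (FramesQ G qC)
    (fun g hg => frameQ_of_centQ hg) (fun v hv => by
      obtain ⟨g, hg, hgv, hgb⟩ := exists_build hG hd (polar_isAlt qC) hs hv.1
      exact ⟨g, ⟨fun u => by rw [hgb]; exact build_qq hG hd halt hv u, hg.2⟩, hgv⟩), card_framesQ hd]
  congr 1
  refine Nat.card_congr (Equiv.trans (Equiv.subtypeEquivRight fun g => ?_)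
    (fixEquiv (f := fun u _ => qq G qC u) (fC := fun u _ => qC u)
      (fun g hg hf c => perp_of_fix hd (bB_of_qq fun u => hg u 0) hf c) fun h => ?_).symm)
  · constructor
    · exact fun h => ⟨fun u _ => h.1.1 u, fix_iff h.1.2 h.2⟩
    · intro h
      refine ⟨⟨fun u => h.1 u 0, fun p => ?_⟩, fun i => h.2 _⟩
      have e : g p = g (p.1, 0) + g (0, p.2) := by rw [← map_add]; simp
      rw [e, h.2]
      show g (nn p) = _
      rw [nn_apply, h.2]
      simp [nn_apply, perp_of_fix hd (bB_of_qq fun u => h.1 u 0) h.2]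
  · refine ⟨fun hh u v => ?_, fun hh u v => ?_⟩
    · simp [qq_apply, hh u.2 0]
    · simpa [qq_apply, pair] using hh (0, u) (0, v)

end Model

section Plus

variable [Fintype F] {k m : ℕ}

variable (e : (Fin k ⊕ Fin k) ⊕ Fin (m - (k + k)) ≃ Fin m)

theorem coords_quad (p : (((Fin k ⊕ Fin k) → F) × ((Fin k ⊕ Fin k) → F)) × (Fin (m - (k + k)) ⊕ Fin (m - (k + k)) → F)) :
    quadPlus m F (coords (altG (F := F) k) (altG_sq k) e p) =
      qq (altG (F := F) k) (quadPlus (m - (k + k)) F) p := by
  rw [quadPlus_apply, qq_apply, quadPlus_apply, quadFormPlus, ← e.sum_comp, Fintype.sum_sum_type]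
  simp only [(coords_inl (altG (F := F) k) (altG_sq k) e p _).1, (coords_inl (altG (F := F) k) (altG_sq k) e p _).2,
    Sum.elim_inl, Sum.elim_inr]
  rfl

theorem pair_altG_self (a : (Fin k ⊕ Fin k) → F) : pair (altG (F := F) k) a a = 0 := by
  rw [pair_altG, ← sympB_apply]; exact sympB_isAlt k a

theorem tMat_isom (v : Fin m ⊕ Fin m → F) :
    quadFormPlus m F (tMat (altG (F := F) k) (altG_sq k) e *ᵥ v) = quadFormPlus m F v := by
  obtain ⟨p, rfl⟩ := (coords (altG (F := F) k) (altG_sq k) e).surjective v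
  rw [tMat_mulVec, LinearEquiv.symm_apply_apply, ← map_add, ← quadPlus_apply, ← quadPlus_apply, coords_quad,
    coords_quad, qq_add, bB_nn, pair_altG_self, add_zero, qq_apply (p := nn p)]
  simp [nn_apply, pair]

theorem card_oCent_tMat : Nat.card (OCent (tMat (altG (F := F) k) (altG_sq k) e)) =
    Nat.card (centQ (altG (F := F) k) (quadPlus (m - (k + k)) F)) := by
  let Φ := coords (altG (F := F) k) (altG_sq k) e
  refine Nat.card_congr (Equiv.subtypeEquiv
    { toFun := fun g => (Φ.trans g).trans Φ.symm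
      invFun := fun g => (Φ.symm.trans g).trans Φ
      left_inv := fun g => LinearEquiv.ext fun v => by simp
      right_inv := fun g => LinearEquiv.ext fun v => by simp } fun g => ?_)
  show g ∈ OCent _ ↔ ((Φ.trans g).trans Φ.symm) ∈ centQ (altG (F := F) k) (quadPlus (m - (k + k)) F)
  have hq : ∀ v, qq (altG (F := F) k) (quadPlus (m - (k + k)) F) (Φ.symm v) = quadPlus m F v := fun v => by
    rw [← coords_quad e, Φ.apply_symm_apply]
  constructor
  · intro h
    refine ⟨fun u => ?_, fun p => ?_⟩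
    · show qq _ _ (Φ.symm (g (Φ u))) = _
      rw [hq, h.2, coords_quad]
    · show Φ.symm (g (Φ (nn p))) = nn (Φ.symm (g (Φ p)))
      rw [Φ.symm_apply_eq, ← nil_tMat, ← h.1.2, nil_tMat, Φ.symm_apply_apply]
  · intro h
    have hq' : ∀ v, quadPlus m F (g v) = quadPlus m F v := fun v => by
      obtain ⟨p, rfl⟩ := Φ.surjective v
      rw [← hq, coords_quad]
      exact h.1 p
    refine ⟨⟨fun u v => ?_, fun v => ?_⟩, hq'⟩
    · exact (OrthTwo.polar_eq _ _).symm.trans
        ((polar_map_of_mem_isomQ (Q := quadPlus m F) (g := g) (fun w _ => hq' w) u v).trans (OrthTwo.polar_eq _ _))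
    · obtain ⟨p, rfl⟩ := Φ.surjective v
      have := h.2 p
      rw [nil_tMat, nil_tMat, Φ.symm_apply_apply]
      exact (Φ.symm_apply_eq.1 this)

/-- The centraliser of an involution of alternating type in the orthogonal group. -/
theorem card_oCent_alt (hm : 1 ≤ m) (x : ↥(isometryGroup F (quadFormPlus m F)))
    (hsq : (x.1 : Matrix (Fin m ⊕ Fin m) (Fin m ⊕ Fin m) F) * x.1 = 1)
    (hr : ((x.1 : Matrix (Fin m ⊕ Fin m) (Fin m ⊕ Fin m) F) - 1).rank = k + k)
    (halt : ∀ v, form (x.1 : Matrix (Fin m ⊕ Fin m) (Fin m ⊕ Fin m) F) v v = 0) :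
    Nat.card {g : ↥(isometryGroup F (quadFormPlus m F)) // g * x = x * g} =
      Nat.card (Orth (altG (F := F) k)) * Fintype.card F ^ (2 * (m - (k + k)) * (k + k) + (k + k).choose 2) *
        Nat.card (isomQ (quadPlus (m - (k + k)) F)) := by
  classical
  have hle : k + k ≤ m := hr ▸ InvolTwoCount.rank_le hsq
  obtain ⟨e⟩ := fin_sum_equiv (ι := (Fin k ⊕ Fin k)) (m := m) (r := k + k) (by simp) hle
  obtain ⟨x₀, hx₀⟩ : ∃ x₀ : ↥(isometryGroup F (quadFormPlus m F)),
      (x₀.1 : Matrix (Fin m ⊕ Fin m) (Fin m ⊕ Fin m) F) = tMat (altG (F := F) k) (altG_sq k) e :=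
    ⟨⟨⟨_, _, tMat_sq _ _ _, tMat_sq _ _ _⟩, fun u _ => tMat_isom e u⟩, rfl⟩
  have hQ : ∀ (y : ↥(isometryGroup F (quadFormPlus m F))) v,
      quadPlus m F ((y.1 : Matrix (Fin m ⊕ Fin m) (Fin m ⊕ Fin m) F) *ᵥ v) = quadPlus m F v := fun y v => by
    rw [quadPlus_apply, quadPlus_apply]; exact y.2 v 0
  obtain ⟨c, hc⟩ := OrthTwo.exists_conj_orth (OrthTwo.mem_symp_of_isom (hQ x)) hsq (hQ x) hm
    (OrthTwo.mem_symp_of_isom (hQ x₀)) (by rw [hx₀]; exact tMat_sq _ _ _) (hQ x₀)
    (by rw [hr, hx₀, rank_tMat]; simp) (iff_of_true halt fun v => by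
      rw [hx₀]
      obtain ⟨p, rfl⟩ := (coords (altG (F := F) k) (altG_sq k) e).surjective v
      rw [form_tMat (altG_symm k), pair_altG_self])
  have hc' : c * x = x₀ * c := Subtype.ext (Units.ext hc)
  have hconj : Nat.card {g : ↥(isometryGroup F (quadFormPlus m F)) // g * x = x * g} =
      Nat.card {g : ↥(isometryGroup F (quadFormPlus m F)) // g * x₀ = x₀ * g} := by
    refine Nat.card_congr ((MulAut.conj c).toEquiv.subtypeEquiv fun g => ?_)
    show g * x = x * g ↔ c * g * c⁻¹ * x₀ = x₀ * (c * g * c⁻¹)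
    rw [show x₀ = c * x * c⁻¹ by rw [hc', mul_inv_cancel_right]]
    rw [← mul_left_inj c⁻¹, ← mul_right_inj c]
    simp [mul_assoc]
  rw [hconj, card_oCent, hx₀, card_oCent_tMat,
    card_centQ (altG_symm k) (Matrix.isUnit_det_of_left_inverse (altG_sq k)) pair_altG_self
      (fun w hw => (quadPlus_nondegenerate (m - (k + k))).1 w hw), card_vec, Fintype.card_sum, Fintype.card_fin,
    pow_add, pow_mul]
  ring

end Plus

end Cfsg.Agent.Forms.CentTwo
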