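/-
Area Forms: tools for the exceptional isomorphisms between low-dimensional orthogonal groups and other classical
groups: isometries from a linear action, and identification of `PΩ` from orders.
-/
import Cfsg.Agent.Lib.Forms.OmegaOrder
import Cfsg.Agent.Lib.GL.Simple

set_option autoImplicit false

namespace Cfsg.Agent.Forms

open scoped Matrix commutatorElement

/-! ### Group theory -/

/-- The centre of the central quotient of a perfect group is trivial. -/
theorem center_quotient_eq_bot_of_perfect {S : Type*} [Group S] (h : commutator S = ⊤) :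
    Subgroup.center (S ⧸ Subgroup.center S) = ⊥ := by
  rw [eq_bot_iff]
  intro x hx
  obtain ⟨g, rfl⟩ := QuotientGroup.mk_surjective x
  have hz : ∀ s : S, g * s * g⁻¹ * s⁻¹ ∈ Subgroup.center S := fun s => by
    rw [← QuotientGroup.eq_one_iff, QuotientGroup.mk_mul, QuotientGroup.mk_mul, QuotientGroup.mk_mul,
      QuotientGroup.mk_inv, QuotientGroup.mk_inv, ← Subgroup.mem_center_iff.1 hx, mul_inv_cancel_right, mul_inv_cancel]
  let φ : S →* Subgroup.center S :=
    MonoidHom.mk' (fun s => ⟨g * s * g⁻¹ * s⁻¹, hz s⟩) fun s t => Subtype.ext <| by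
      show g * (s * t) * g⁻¹ * (s * t)⁻¹ = g * s * g⁻¹ * s⁻¹ * (g * t * g⁻¹ * t⁻¹)
      calc g * (s * t) * g⁻¹ * (s * t)⁻¹ = g * s * g⁻¹ * (g * t * g⁻¹ * t⁻¹) * s⁻¹ := by group
        _ = g * s * g⁻¹ * (s⁻¹ * (g * t * g⁻¹ * t⁻¹)) := by
          rw [Subgroup.mem_center_iff.1 (hz t) s⁻¹, mul_assoc]
        _ = _ := by simp only [mul_assoc]
  have hk : φ.ker = ⊤ := by
    rw [eq_top_iff, ← h, commutator_def, Subgroup.commutator_le]
    intro a _ b _
    rw [MonoidHom.mem_ker, map_commutatorElement, commutatorElement_eq_one_iff_mul_comm]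
    exact Subtype.ext (Subgroup.mem_center_iff.1 (φ b).2 (φ a).1)
  rw [Subgroup.mem_bot, QuotientGroup.eq_one_iff, Subgroup.mem_center_iff]
  intro s
  have hs : g * s * g⁻¹ * s⁻¹ = 1 := congrArg Subtype.val (hk.ge (Subgroup.mem_top s) : φ s = 1)
  rw [mul_inv_eq_one, mul_inv_eq_iff_eq_mul] at hs
  exact hs.symm

/-- Normal subgroups of a perfect group with simple central quotient are central or everything. -/
theorem normal_eq_top_or_le_center_of_simple {S : Type*} [Group S] (hperf : commutator S = ⊤)
    [IsSimpleGroup (S ⧸ Subgroup.center S)] (N : Subgroup S) [hN : N.Normal] :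
    N = ⊤ ∨ N ≤ Subgroup.center S := by
  rcases (Subgroup.Normal.map hN _ (QuotientGroup.mk'_surjective (Subgroup.center S))).eq_bot_or_eq_top with h | h
  · right
    rwa [Subgroup.map_eq_bot_iff, QuotientGroup.ker_mk'] at h
  · left
    have hsup : ∀ s : S, ∃ n ∈ N, ∃ z ∈ Subgroup.center S, s = n * z := fun s => by
      obtain ⟨n, hn, he⟩ := h.ge (Subgroup.mem_top (QuotientGroup.mk' (Subgroup.center S) s))
      exact ⟨n, hn, n⁻¹ * s, QuotientGroup.eq.1 he, (mul_inv_cancel_left n s).symm⟩
    rw [eq_top_iff, ← hperf, commutator_def, Subgroup.commutator_le]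
    intro a _ b _
    obtain ⟨n, hn, z, hz, rfl⟩ := hsup a
    obtain ⟨m, hm, w, hw, rfl⟩ := hsup b
    have hzc := Subgroup.mem_center_iff.1 hz
    have hwc := Subgroup.mem_center_iff.1 hw
    have : ⁅n * z, m * w⁆ = ⁅n, m⁆ := by
      simp only [commutatorElement_def, mul_inv_rev]
      have e1 : z * (m * w) * z⁻¹ = m * w := by rw [← hzc (m * w), mul_inv_cancel_right]
      calc n * z * (m * w) * (z⁻¹ * n⁻¹) * (w⁻¹ * m⁻¹)
          = n * (z * (m * w) * z⁻¹) * n⁻¹ * w⁻¹ * m⁻¹ := by simp only [mul_assoc]
        _ = n * m * (w * n⁻¹ * w⁻¹) * m⁻¹ := by rw [e1]; simp only [mul_assoc]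
        _ = n * m * n⁻¹ * m⁻¹ := by rw [← hwc n⁻¹, mul_inv_cancel_right]
    rw [this]
    exact N.mul_mem (N.mul_mem (N.mul_mem hn hm) (N.inv_mem hn)) (N.inv_mem hm)

/-- Identification of the central quotient of a commutator subgroup from orders. -/
theorem nonempty_equiv_commutator_quotient {S O : Type*} [Group S] [Finite S] [Group O] [Finite O] (ψ : S →* O)
    (hrange : ψ.range ≤ commutator O) (hker : ψ.ker ≤ Subgroup.center S) {k i : ℕ}
    (hk : Nat.card ψ.ker ≤ k) (hi : (commutator O).index = i) (hcard : k * Nat.card O = i * Nat.card S)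
    (hZ : Subgroup.center (S ⧸ Subgroup.center S) = ⊥) :
    Nonempty ((commutator O ⧸ Subgroup.center (commutator O)) ≃* S ⧸ Subgroup.center S) := by
  have hr : ψ.range = commutator O := by
    refine Subgroup.eq_of_le_of_card_ge hrange ?_
    have hkpos : 0 < k := Nat.card_pos.trans_le hk
    have hipos : 0 < i := hi ▸ Nat.pos_of_ne_zero Subgroup.index_ne_zero_of_finite
    have h1 := Subgroup.card_eq_card_quotient_mul_card_subgroup ψ.ker
    rw [Nat.card_congr (QuotientGroup.quotientKerEquivRange ψ).toEquiv] at h1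
    rw [h1, ← Subgroup.card_mul_index (commutator O), hi] at hcard
    have h2 : i * (k * Nat.card (commutator O)) ≤ i * (k * Nat.card ψ.range) := by
      calc i * (k * Nat.card (commutator O)) = i * (Nat.card ψ.range * Nat.card ψ.ker) := by
            rw [← hcard]; ring
        _ ≤ i * (Nat.card ψ.range * k) := by gcongr
        _ = _ := by ring
    exact Nat.le_of_mul_le_mul_left (Nat.le_of_mul_le_mul_left h2 hipos) hkpos
  let ψ' : S →* commutator O := ψ.codRestrict _ fun s => hrange ⟨s, rfl⟩
  have hsur : Function.Surjective ψ' := fun x => by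
    obtain ⟨s, hs⟩ := hr.ge x.2
    exact ⟨s, Subtype.ext hs⟩
  let Φ := (QuotientGroup.mk' (Subgroup.center (commutator O))).comp ψ'
  have hΦ : Φ.ker = Subgroup.center S := by
    refine le_antisymm (fun s hs => ?_) fun s hs => ?_
    · have hs' : ψ' s ∈ Subgroup.center (commutator O) := (QuotientGroup.eq_one_iff _).1 hs
      rw [← QuotientGroup.eq_one_iff, ← Subgroup.mem_bot, ← hZ, Subgroup.mem_center_iff]
      intro x
      obtain ⟨t, rfl⟩ := QuotientGroup.mk_surjective x
      rw [← QuotientGroup.mk_mul, ← QuotientGroup.mk_mul, QuotientGroup.eq]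
      refine hker ?_
      rw [MonoidHom.mem_ker, map_mul, map_inv, map_mul, map_mul,
        show ψ t * ψ s = ψ s * ψ t from congrArg Subtype.val (Subgroup.mem_center_iff.1 hs' (ψ' t)), inv_mul_cancel]
    · refine (QuotientGroup.eq_one_iff _).2 (Subgroup.mem_center_iff.2 fun x => ?_)
      obtain ⟨t, rfl⟩ := hsur x
      rw [← map_mul, ← map_mul, Subgroup.mem_center_iff.1 hs]
  exact ⟨((QuotientGroup.quotientMulEquivOfEq hΦ.symm).trans
    (QuotientGroup.quotientKerEquivOfSurjective Φ ((QuotientGroup.mk'_surjective _).comp hsur))).symm⟩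

/-- A homomorphism to a group of order prime to `p` kills a group generated by elements of order `p`. -/
theorem range_le_of_generators {S O : Type*} [Group S] [Group O] (ψ : S →* O) (N : Subgroup O) [N.Normal] [N.FiniteIndex]
    {p : ℕ} (hp : N.index.Coprime p) {T : Set S} (hT : Subgroup.closure T = ⊤) (hTp : ∀ t ∈ T, t ^ p = 1) :
    ψ.range ≤ N := by
  rw [MonoidHom.range_eq_map, ← hT, MonoidHom.map_closure, Subgroup.closure_le]
  rintro _ ⟨t, ht, rfl⟩
  rw [SetLike.mem_coe, ← QuotientGroup.eq_one_iff, ← orderOf_eq_one_iff]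
  have h1 : orderOf (ψ t : O ⧸ N) ∣ N.index := orderOf_dvd_natCard _
  have h2 : orderOf (ψ t : O ⧸ N) ∣ p :=
    orderOf_dvd_of_pow_eq_one (by rw [← QuotientGroup.mk_pow, ← map_pow, hTp t ht, map_one, QuotientGroup.mk_one])
  exact Nat.eq_one_of_dvd_coprimes hp h1 h2

/-- A perfect group maps into the commutator subgroup. -/
theorem range_le_commutator_of_perfect {S O : Type*} [Group S] [Group O] (ψ : S →* O) (h : commutator S = ⊤) :
    ψ.range ≤ commutator O := by
  rw [MonoidHom.range_eq_map, ← h, commutator_def, commutator_def, Subgroup.map_commutator]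
  exact Subgroup.commutator_mono le_top le_top

/-! ### Isometries from a linear action -/

/-- An action on `W` preserving the image of `L` and the form gives isometries of the pulled back form. -/
theorem exists_isometry_hom {F : Type*} [Field F] {ι : Type} [Fintype ι] [DecidableEq ι] {S : Type*} [Group S]
    {W : Type*} [AddCommGroup W] [Module F W] {β : Type*} (f : (ι → F) → F) (QW : W → β) (φ : F → β)
    (hφ : Function.Injective φ) (L : (ι → F) →ₗ[F] W) (hL : Function.Injective L) (hf : ∀ v, φ (f v) = QW (L v))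
    (A : S →* Module.End F W) (hr : ∀ s v, ∃ w, A s (L v) = L w) (hQ : ∀ s v, QW (A s (L v)) = QW (L v)) :
    ∃ ψ : S →* isometryGroup F f, ∀ s v,
      L (((ψ s : Matrix.GeneralLinearGroup ι F) : Matrix ι ι F) *ᵥ v) = A s (L v) := by
  obtain ⟨P, hP⟩ := L.exists_leftInverse_of_injective (LinearMap.ker_eq_bot.2 hL)
  have hPL : ∀ v, P (L v) = v := LinearMap.congr_fun hP
  let T : S → Matrix ι ι F := fun s => LinearMap.toMatrix' (P.comp ((A s).comp L))
  have hT : ∀ s v, L (T s *ᵥ v) = A s (L v) := fun s v => by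
    obtain ⟨w, hw⟩ := hr s v
    rw [LinearMap.toMatrix'_mulVec, LinearMap.comp_apply, LinearMap.comp_apply, hw, hPL]
  let M : S →* Matrix ι ι F :=
    { toFun := T
      map_one' := Matrix.ext_of_mulVec_single fun i => hL (by rw [hT, map_one, Matrix.one_mulVec]; rfl)
      map_mul' := fun s t => Matrix.ext_of_mulVec_single fun i => hL (by
        rw [hT, map_mul, ← Matrix.mulVec_mulVec, hT, hT]; rfl) }
  refine ⟨M.toHomUnits.codRestrict _ fun s u _ => hφ ?_, fun s v => hT s v⟩
  show φ (f (T s *ᵥ u)) = φ (f u)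
  rw [hf, hf, hT, hQ]

/-- Membership in the kernel of such a homomorphism. -/
theorem apply_eq_of_mem_ker {F : Type*} [Field F] {ι : Type} [Fintype ι] [DecidableEq ι] {S : Type*} [Group S]
    {W : Type*} [AddCommGroup W] [Module F W] {f : (ι → F) → F} {L : (ι → F) →ₗ[F] W} {A : S →* Module.End F W}
    {ψ : S →* isometryGroup F f}
    (hψ : ∀ s v, L (((ψ s : Matrix.GeneralLinearGroup ι F) : Matrix ι ι F) *ᵥ v) = A s (L v)) {s : S}
    (hs : s ∈ ψ.ker) (v : ι → F) : A s (L v) = L v := by
  rw [← hψ, show ψ s = 1 from hs]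
  simp

/-- Congruence action `M ↦ g M gᵀ` twisted by a ring endomorphism. -/
def congrAction {F K : Type*} [CommRing F] [CommRing K] [Algebra F K] {n : Type*} [Fintype n] [DecidableEq n]
    (σ : K →+* K) : Matrix n n K →* Module.End F (Matrix n n K) where
  toFun g := (LinearMap.mulLeft F g).comp (LinearMap.mulRight F (g.map σ)ᵀ)
  map_one' := LinearMap.ext fun M => by simp [Matrix.map_one]
  map_mul' g h := LinearMap.ext fun M => by
    simp [Matrix.map_mul, Matrix.transpose_mul, mul_assoc]

theorem congrAction_apply {F K : Type*} [CommRing F] [CommRing K] [Algebra F K] {n : Type*} [Fintype n]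
    [DecidableEq n] (σ : K →+* K) (g M : Matrix n n K) :
    congrAction (F := F) σ g M = g * M * (g.map σ)ᵀ := (mul_assoc _ _ _).symm

/-- At most two scalars square to one. -/
theorem card_sq_eq_one_le {F : Type*} [Field F] :
    Nat.card {c : F // c * c = 1} ≤ 2 ∧ ((2 : F) = 0 → Nat.card {c : F // c * c = 1} = 1) := by
  classical
  have hsub : {c : F | c * c = 1} = {1, -1} := by
    ext c
    simp [mul_self_eq_one_iff]
  refine ⟨?_, fun h2 => ?_⟩
  · show Nat.card ({c : F | c * c = 1} : Set F) ≤ 2
    rw [hsub, Nat.card_coe_set_eq]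
    exact (Set.ncard_insert_le _ _).trans (by simp)
  · have h : (-1 : F) = 1 := by linear_combination (norm := ring_nf) -h2
    show Nat.card ({c : F | c * c = 1} : Set F) = 1
    rw [hsub, h, Set.insert_eq_of_mem (Set.mem_singleton _), Nat.card_coe_set_eq, Set.ncard_singleton]

/-- A subgroup of scalar elements with square one has at most as many elements as there are such scalars. -/
theorem card_le_sq_one {F : Type*} [Field F] [Finite F] {S : Type*} [Group S] (N : Subgroup S) (χ : S → F)
    (hinj : ∀ s ∈ N, ∀ t ∈ N, χ s = χ t → s = t) (hsq : ∀ s ∈ N, χ s * χ s = 1) :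
    Nat.card N ≤ Nat.card {c : F // c * c = 1} :=
  Nat.card_le_card_of_injective (fun s => (⟨χ s.1, hsq s.1 s.2⟩ : {c : F // c * c = 1})) fun s t h =>
    Subtype.ext (hinj s.1 s.2 t.1 t.2 (congrArg Subtype.val h))

/-- Order and index of `Ω`, in the form needed: with `k` the number of scalars squaring to one, the index is `2 k`. -/
theorem omega_index_two_mul {F : Type*} [Field F] [Fintype F] {ι : Type} [Fintype ι] [DecidableEq ι]
    (Q : QuadraticForm F (ι → F)) (hQ : (QuadraticMap.polarBilin Q).Nondegenerate) (hn : 2 ≤ Fintype.card ι)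
    (h : Fintype.card F ≠ 2 ∨ Fintype.card ι ≠ 4) :
    (Omega F ⇑Q).index = 2 * Nat.card {c : F // c * c = 1} := by
  classical
  by_cases h2 : (2 : F) = 0
  · haveI : CharP F 2 := CharTwo.of_one_ne_zero_of_two_eq_zero one_ne_zero h2
    rw [omega_index_even Q hQ hn h, card_sq_eq_one_le.2 h2]
  · rw [omega_index_odd Q h2 hQ hn]
    have hne : (1 : F) ≠ -1 := fun e => h2 (by linear_combination e)
    have h2' : 2 ≤ Nat.card {c : F // c * c = 1} := by
      rw [← Fintype.card_bool, ← Nat.card_eq_fintype_card]
      exact Nat.card_le_card_of_injective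
        (fun b => (⟨bif b then 1 else -1, by cases b <;> simp⟩ : {c : F // c * c = 1})) fun a b e => by
          have e' := congrArg Subtype.val e
          cases a <;> cases b <;> simp_all
    have := (card_sq_eq_one_le (F := F)).1
    omega

/-- `SL` is generated by transvections, of order the characteristic. -/
theorem sl_generators (n : Type*) [Fintype n] [DecidableEq n] (F : Type*) [Field F] (p : ℕ) [CharP F p] :
    ∃ T : Set (Matrix.SpecialLinearGroup n F), Subgroup.closure T = ⊤ ∧ ∀ t ∈ T, t ^ p = 1 := by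
  refine ⟨GL.elementaryTransvections n F, GL.closure_elementaryTransvections, ?_⟩
  rintro _ ⟨i, j, hij, c, rfl⟩
  have key : ∀ k : ℕ, Matrix.SpecialLinearGroup.transvection hij c ^ k
      = Matrix.SpecialLinearGroup.transvection hij ((k : F) * c) := by
    intro k
    induction k with
    | zero =>
      apply Matrix.SpecialLinearGroup.coeMonoidHom_injective
      simp [Matrix.SpecialLinearGroup.coeMonoidHom_apply, Matrix.SpecialLinearGroup.transvection_coe]
    | succ k ih =>
      apply Matrix.SpecialLinearGroup.coeMonoidHom_injective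
      rw [pow_succ, ih, map_mul]
      simp [Matrix.SpecialLinearGroup.coeMonoidHom_apply, Matrix.SpecialLinearGroup.transvection_coe, add_mul, mul_add,
        Matrix.single_add, hij.symm, add_assoc]
  rw [key p, CharP.cast_eq_zero, zero_mul]
  apply Matrix.SpecialLinearGroup.coeMonoidHom_injective
  simp [Matrix.SpecialLinearGroup.coeMonoidHom_apply, Matrix.SpecialLinearGroup.transvection_coe]

end Cfsg.Agent.Forms
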