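/-
Area Forms: the quadratic extension attached to an anisotropic binary form.
-/
import Cfsg.Agent.Lib.Forms.Herm
import Cfsg.Agent.Lib.Field.QuadraticExt

set_option autoImplicit false

namespace Cfsg.Agent.Forms

/-- For an anisotropic binary form over `F` and a field `K` with `q²` elements: an embedding, the conjugation and a
root `ω` such that the norm of `x + y ω` is the form. -/
theorem exists_quad_ext {F K : Type*} [Field F] [Fintype F] [Field K] [Fintype K] {q : ℕ}
    (hF : Fintype.card F = q) (hK : Fintype.card K = q ^ 2) {a b : F}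
    (hab : ∀ z₁ z₂ : F, z₁ ^ 2 + a * z₁ * z₂ + b * z₂ ^ 2 = 0 → z₁ = 0 ∧ z₂ = 0) :
    ∃ (ι : F →+* K) (ω : K),
      (∀ x, qEnd hK (ι x) = ι x) ∧ qEnd hK ω = ι a - ω ∧ ω * (ι a - ω) = ι b ∧
      Function.Bijective (fun p : F × F => ι p.1 + ι p.2 * ω) ∧ (∀ k, qEnd hK k = k → ∃ x, ι x = k) ∧
      ∀ x y, (ι x + ι y * ω) * qEnd hK (ι x + ι y * ω) = ι (x ^ 2 + a * x * y + b * y ^ 2) := by
  classical
  obtain ⟨ι⟩ := FieldExt.exists_ringHom_of_card_pow two_ne_zero (show Fintype.card K = Fintype.card F ^ 2 by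
    rw [hF, hK])
  letI : Algebra F K := ι.toAlgebra
  have hfix : ∀ x, qEnd hK (ι x) = ι x := fun x => by
    rw [qEnd_apply, ← map_pow, ← hF, FiniteField.pow_card]
  have hq := one_lt_q hK
  have hfixed : ∀ k, qEnd hK k = k → ∃ x, ι x = k := by
    intro k hk
    let P : Polynomial K := Polynomial.X ^ q - Polynomial.X
    have hP : P ≠ 0 := FiniteField.X_pow_card_sub_X_ne_zero K hq
    have hroot : ∀ z, qEnd hK z = z → z ∈ P.roots.toFinset := fun z hz => by
      rw [Multiset.mem_toFinset, Polynomial.mem_roots hP]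
      rw [qEnd_apply] at hz
      simp [P, Polynomial.IsRoot, hz]
    have himg : Finset.univ.image ι = P.roots.toFinset := by
      refine Finset.eq_of_subset_of_card_le (fun z hz => ?_) ?_
      · obtain ⟨x, -, rfl⟩ := Finset.mem_image.1 hz
        exact hroot _ (hfix x)
      · rw [Finset.card_image_of_injective _ ι.injective, Finset.card_univ, hF]
        refine (Multiset.toFinset_card_le _).trans ((Polynomial.card_roots' P).trans ?_)
        rw [FiniteField.X_pow_card_sub_X_natDegree_eq K hq]
    obtain ⟨x, -, hx⟩ := Finset.mem_image.1 (himg ▸ hroot k hk)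
    exact ⟨x, hx⟩
  obtain ⟨ω, hω⟩ := FieldExt.exists_root (K := K)
    (FieldExt.finrank_eq_two (show Fintype.card K = Fintype.card F ^ 2 by rw [hF, hK])) (-a) b
  change ω ^ 2 + ι (-a) * ω + ι b = 0 at hω
  rw [map_neg] at hω
  have hnotfix : ∀ x, ι x ≠ ω := fun x hx => by
    have h : ι ((-x) ^ 2 + a * (-x) * 1 + b * 1 ^ 2) = 0 := by
      simp only [map_add, map_mul, map_pow, map_neg, map_one]
      rw [hx]
      linear_combination hω
    exact one_ne_zero (hab _ _ ((map_eq_zero ι).1 h)).2
  have hσω : qEnd hK ω = ι a - ω := by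
    have h := congrArg (qEnd hK) hω
    rw [map_add, map_add, map_pow, map_mul, map_neg, hfix, hfix, map_zero] at h
    have h' : (qEnd hK ω - ω) * (qEnd hK ω + ω - ι a) = 0 := by linear_combination h - hω
    rcases mul_eq_zero.1 h' with h1 | h1
    · obtain ⟨x, hx⟩ := hfixed ω (sub_eq_zero.1 h1)
      exact absurd hx (hnotfix x)
    · linear_combination h1
  refine ⟨ι, ω, hfix, hσω, by linear_combination -hω, ?_, hfixed, fun x y => ?_⟩
  · refine (Fintype.bijective_iff_injective_and_card _).2 ⟨fun p r h => ?_, ?_⟩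
    · simp only at h
      by_cases hy : p.2 = r.2
      · exact Prod.ext (ι.injective (by rw [hy] at h; exact add_right_cancel h)) hy
      · refine absurd ?_ (hnotfix ((r.1 - p.1) / (p.2 - r.2)))
        rw [map_div₀, div_eq_iff ((map_ne_zero ι).2 (sub_ne_zero.2 hy)), map_sub, map_sub]
        linear_combination -h
    · rw [Fintype.card_prod, hF, hK, sq]
  · rw [map_add, map_mul, hfix, hfix, hσω]
    simp only [map_add, map_mul, map_pow]
    linear_combination -(ι y) ^ 2 * hω

end Cfsg.Agent.Forms
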