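/-
Area Forms: facts on `SL₂` used by the exceptional isomorphisms.
-/
import Cfsg.Agent.Lib.Forms.ExcCore

set_option autoImplicit false

namespace Cfsg.Agent.Forms

open scoped Matrix MatrixGroups

variable {F : Type*} [Field F]

/-- The centre of `SL₂` consists of the scalars squaring to one. -/
theorem sl2_mem_center {g : SL(2, F)} (h01 : g.1 0 1 = 0) (h10 : g.1 1 0 = 0) (hd : g.1 0 0 = g.1 1 1) :
    g ∈ Subgroup.center SL(2, F) ∧ g.1 0 0 * g.1 0 0 = 1 := by
  have hdet := g.2
  rw [Matrix.det_fin_two, h01, zero_mul, sub_zero, ← hd] at hdet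
  refine ⟨Matrix.SpecialLinearGroup.mem_center_iff.2 ⟨g.1 0 0, by simpa [sq] using hdet, ?_⟩, hdet⟩
  ext i j
  fin_cases i <;> fin_cases j <;> simp [h01, h10, hd]

/-- `PSL₂` has trivial centre. -/
theorem center_psl2_eq_bot :
    Subgroup.center (SL(2, F) ⧸ Subgroup.center SL(2, F)) = ⊥ := by
  rw [eq_bot_iff]
  intro x hx
  obtain ⟨g, rfl⟩ := QuotientGroup.mk_surjective x
  rw [Subgroup.mem_bot, QuotientGroup.eq_one_iff, Subgroup.mem_center_iff]
  have key : ∀ t ∈ GL.elementaryTransvections (Fin 2) F, t * g = g * t := by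
    rintro _ ⟨i, j, hij, c, rfl⟩
    set T := Matrix.SpecialLinearGroup.transvection hij c with hT
    have hz : g * T * g⁻¹ * T⁻¹ ∈ Subgroup.center SL(2, F) := by
      rw [← QuotientGroup.eq_one_iff, QuotientGroup.mk_mul, QuotientGroup.mk_mul, QuotientGroup.mk_mul,
        QuotientGroup.mk_inv, QuotientGroup.mk_inv, ← Subgroup.mem_center_iff.1 hx, mul_inv_cancel_right, mul_inv_cancel]
    obtain ⟨r, hr, hrz⟩ := Matrix.SpecialLinearGroup.mem_center_iff.1 hz
    have hm : g.1 * T.1 * (g⁻¹).1 = r • T.1 := by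
      have h := congrArg Subtype.val (inv_mul_cancel_right (g * T * g⁻¹) T)
      simp only [Matrix.SpecialLinearGroup.coe_mul] at h hrz
      rw [← h, ← hrz, Matrix.scalar_apply, ← Matrix.smul_eq_diagonal_mul]
    have htr : T.1.trace = 2 := by
      rw [hT, Matrix.SpecialLinearGroup.transvection_coe]
      simp [hij]
    have h2 := congrArg Matrix.trace hm
    rw [Matrix.trace_mul_cycle, ← Matrix.SpecialLinearGroup.coe_mul, inv_mul_cancel,
      Matrix.SpecialLinearGroup.coe_one, one_mul, Matrix.trace_smul, htr, smul_eq_mul] at h2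
    have hr1 : r = 1 := by
      by_cases h20 : (2 : F) = 0
      · simp only [Fintype.card_fin, sq, mul_self_eq_one_iff] at hr
        rcases hr with h | h
        · exact h
        · rw [h]; linear_combination -h20
      · exact mul_right_cancel₀ h20 (by rw [one_mul]; exact h2.symm)
    rw [hr1, one_smul] at hm
    have hT' : g * T * g⁻¹ = T :=
      Subtype.ext (by simpa only [Matrix.SpecialLinearGroup.coe_mul] using hm)
    rw [mul_inv_eq_iff_eq_mul] at hT'
    exact hT'.symm
  intro s
  have hs : s ∈ Subgroup.closure (GL.elementaryTransvections (Fin 2) F) := by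
    rw [GL.closure_elementaryTransvections]; exact Subgroup.mem_top s
  induction hs using Subgroup.closure_induction with
  | mem t ht => exact key t ht
  | one => rw [one_mul, mul_one]
  | mul a b _ _ ha hb => rw [mul_assoc, hb, ← mul_assoc, ha, mul_assoc]
  | inv a _ ha => rw [inv_mul_eq_iff_eq_mul, ← mul_assoc, ha, mul_inv_cancel_right]

/-- `PSL₂` is perfect for four or more elements; its image lies in commutator subgroups. -/
theorem sl2_range_le_omega [Fintype F] {ι : Type} [Fintype ι] [DecidableEq ι] (Q : QuadraticForm F (ι → F))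
    (hQ : (QuadraticMap.polarBilin Q).Nondegenerate) (hn : 2 ≤ Fintype.card ι) (hF : 3 ≤ Fintype.card F)
    (ψ : SL(2, F) →* isometryGroup F ⇑Q) : ψ.range ≤ commutator _ := by
  by_cases h4 : 4 ≤ Fintype.card F
  · exact range_le_commutator_of_perfect ψ (GL.SL_commutator_eq_top 2 le_rfl fun _ =>
      GL.exists_sq_ne_one_of_four_le_card (by rwa [Nat.card_eq_fintype_card]))
  · obtain ⟨p, hp⟩ := CharP.exists F
    obtain ⟨k, hpp, hk⟩ := FiniteField.card F p
    have h3 : Fintype.card F = 3 := by omega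
    have hp3 : p = 3 :=
      (Nat.prime_dvd_prime_iff_eq hpp Nat.prime_three).1 (h3 ▸ hk ▸ dvd_pow_self p k.ne_zero)
    obtain ⟨T, hT, hTp⟩ := sl_generators (Fin 2) F p
    have h20 : (2 : F) ≠ 0 := two_ne_zero_of_odd_card (by rw [h3]; decide)
    haveI : (Omega F ⇑Q).FiniteIndex := ⟨by rw [omega_index_odd Q h20 hQ hn]; norm_num⟩
    refine range_le_of_generators ψ (Omega F ⇑Q) ?_ hT hTp
    rw [omega_index_odd Q h20 hQ hn, hp3]
    decide

end Cfsg.Agent.Forms
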