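/-
Elements of prime order fixing a nonsingular point, characteristic two.
-/
import Cfsg.Agent.Lib.Forms.OmegaTwoClasses
import Mathlib.GroupTheory.Sylow

set_option autoImplicit false
set_option linter.unusedSectionVars false
set_option linter.style.haveILetI false

namespace Cfsg.Agent.Forms.FixedNonsingular

open scoped Matrix
open Module (finrank)

variable {F : Type*} [Field F] [Fintype F] [CharP F 2] {ι : Type} [Fintype ι] [DecidableEq ι]

/-- Lines with a nonsingular vector correspond to the vectors of value one. -/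
theorem card_lines (Q : QuadraticForm F (ι → F)) :
    Nat.card {W : Submodule F (ι → F) // finrank F W = 1 ∧ ∃ v ∈ W, Q v ≠ 0} =
      Nat.card {v : ι → F // Q v = 1} := by
  refine (Nat.card_eq_of_bijective (fun v : {v : ι → F // Q v = 1} =>
    (⟨F ∙ v.1, finrank_span_singleton (fun e => by have := v.2; rw [e, QuadraticMap.map_zero] at this; exact zero_ne_one this),
      v.1, Submodule.mem_span_singleton_self _, by rw [v.2]; exact one_ne_zero⟩ :
      {W : Submodule F (ι → F) // finrank F W = 1 ∧ ∃ v ∈ W, Q v ≠ 0})) ⟨?_, ?_⟩).symm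
  · rintro ⟨u, hu⟩ ⟨v, hv⟩ h
    have hmem : v ∈ F ∙ u := by
      have h' : F ∙ u = F ∙ v := congrArg Subtype.val h
      rw [h']; exact Submodule.mem_span_singleton_self v
    obtain ⟨c, rfl⟩ := Submodule.mem_span_singleton.1 hmem
    have hv2 := hv
    rw [QuadraticMap.map_smul, hu, smul_eq_mul, mul_one] at hv2
    have hc : c = 1 := by
      have h0 : (c + 1) * (c + 1) = 0 := by linear_combination hv2 + (c + 1) * CharTwo.two_eq_zero (R := F)
      exact CharTwo.add_eq_zero.1 (mul_self_eq_zero.1 h0)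
    refine Subtype.ext ?_
    show u = c • u
    rw [hc, one_smul]
  · rintro ⟨W, hW, v, hvW, hv⟩
    obtain ⟨s, hs⟩ := SympTwo.exists_sqrt (Q v)
    have hs0 : s ≠ 0 := fun e => hv (by rw [hs, e, zero_mul])
    refine ⟨⟨s⁻¹ • v, by rw [QuadraticMap.map_smul, smul_eq_mul, hs]; field_simp⟩, Subtype.ext ?_⟩
    refine Submodule.eq_of_le_of_finrank_eq ((Submodule.span_singleton_le_iff_mem _ _).2 (W.smul_mem _ hvW)) ?_
    rw [hW, finrank_span_singleton]
    intro e
    rcases smul_eq_zero.1 e with h | h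
    · exact inv_ne_zero hs0 h
    · exact hv (by rw [h, QuadraticMap.map_zero])

/-- An odd prime dividing the number of nonsingular points: some element of that order fixes no nonsingular
vector. -/
theorem exists_order_free [Nonempty ι] (Q : QuadraticForm F (ι → F)) (f : (ι → F) → F) (hf : f = ⇑Q)
    (hQ : (QuadraticMap.polarBilin Q).Nondegenerate) (r : ℕ) [hr : Fact r.Prime] (hr2 : r ≠ 2)
    (hdiv : r ∣ Nat.card {W : Submodule F (ι → F) // finrank F W = 1 ∧ ∃ v ∈ W, f v ≠ 0}) :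
    ∃ g : ↥(isometryGroup F f), orderOf g = r ∧ ∀ v, (g.1 : Matrix ι ι F) *ᵥ v = v → f v = 0 := by
  classical
  subst hf
  rw [card_lines Q] at hdiv
  set G := ↥(isometryGroup F ⇑Q)
  let mat : G → Matrix ι ι F := fun g => (g.1 : Matrix ι ι F)
  have hmul : ∀ g h : G, mat (g * h) = mat g * mat h := fun g h => rfl
  have hone : mat 1 = 1 := rfl
  have hinj : ∀ {g h : G}, mat g = mat h → g = h := fun h => Subtype.ext (Units.ext h)
  have hiso : ∀ (g : G) v, Q (mat g *ᵥ v) = Q v := fun g v => g.2 v 0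
  let E := isometryGroupEquivQ Q (fun v => rfl)
  letI act : MulAction G (ι → F) :=
    { smul := fun g v => mat g *ᵥ v
      one_smul := fun v => by show mat 1 *ᵥ v = v; rw [hone, Matrix.one_mulVec]
      mul_smul := fun g h v => by
        show mat (g * h) *ᵥ v = mat g *ᵥ (mat h *ᵥ v)
        rw [hmul, Matrix.mulVec_mulVec] }
  -- an odd Sylow subgroup fixes no vector of value one
  obtain ⟨R⟩ : Nonempty (Sylow r G) := inferInstance
  have horb : ∀ v, Q v = 1 → MulAction.orbit G v = {w | Q w = 1} := by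
    intro v hv
    ext w
    refine ⟨?_, fun hw => ?_⟩
    · rintro ⟨g, rfl⟩
      exact (hiso g v).trans hv
    · have hne : ∀ u : ι → F, Q u = 1 → u ≠ 0 := fun u hu e => by
        rw [e, QuadraticMap.map_zero] at hu; exact zero_ne_one hu
      obtain ⟨g, hg, hgv⟩ := witt_quadratic_tuple hQ (v := fun _ : Fin 1 => v) (w := fun _ : Fin 1 => w)
        (linearIndependent_unique_iff.2 (hne v hv)) (linearIndependent_unique_iff.2 (hne w hw))
        (fun _ => hw.trans hv.symm) (fun _ _ => by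
          show QuadraticMap.polarBilin Q w w = QuadraticMap.polarBilin Q v v
          rw [polarBilin_self, polarBilin_self, hw, hv])
      refine ⟨E.symm ⟨g, hg⟩, ?_⟩
      have h := congrArg (fun x : isomQ Q => x.1 v) (E.apply_symm_apply ⟨g, hg⟩)
      exact h.trans (hgv 0)
  have hmove : ∀ v, Q v ≠ 0 → ∃ k : G, k ∈ R ∧ mat k *ᵥ v ≠ v := by
    intro v hv
    by_contra! hfix
    obtain ⟨s, hs⟩ := SympTwo.exists_sqrt (Q v)
    have hs0 : s ≠ 0 := fun e => hv (by rw [hs, e, zero_mul])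
    have hv1 : Q (s⁻¹ • v) = 1 := by rw [QuadraticMap.map_smul, smul_eq_mul, hs]; field_simp
    have hle : (R : Subgroup G) ≤ MulAction.stabilizer G (s⁻¹ • v) := fun k hk => by
      show mat k *ᵥ (s⁻¹ • v) = s⁻¹ • v
      rw [Matrix.mulVec_smul, hfix k hk]
    have hidx : (MulAction.stabilizer G (s⁻¹ • v)).index = Nat.card {w : ι → F // Q w = 1} := by
      rw [MulAction.index_stabilizer, horb _ hv1]
      rfl
    have hR : ¬ r ∣ (R : Subgroup G).index := R.not_dvd_index
    exact hR ((hidx ▸ hdiv).trans (Subgroup.index_dvd_of_le hle))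
  have hne : ∃ v, Q v ≠ 0 := by
    by_contra! h0
    have hz := hQ.1 (Pi.single (Classical.arbitrary ι) 1) fun u => by simp [QuadraticMap.polar, h0]
    exact one_ne_zero (α := F) (by simpa using congrFun hz (Classical.arbitrary ι))
  -- elements of order r commuting with R
  obtain ⟨v₁, hv₁⟩ := hne
  obtain ⟨k₁, hk₁, hk₁v⟩ := hmove v₁ hv₁
  haveI : Nontrivial ↥(R : Subgroup G) := ⟨⟨⟨k₁, hk₁⟩, 1, fun e => hk₁v (by
    rw [show k₁ = 1 from congrArg Subtype.val e, hone, Matrix.one_mulVec])⟩⟩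
  have hcen : ∀ (P : Type _) [Group P] [Finite P] [Nontrivial P], IsPGroup r P →
      ∃ g ∈ Subgroup.center P, orderOf g = r := by
    intro P _ _ _ hP
    haveI := hP.center_nontrivial
    obtain ⟨n, hn, hcard⟩ := (hP.to_subgroup (Subgroup.center P)).nontrivial_iff_card.1 inferInstance
    obtain ⟨g, hg⟩ := exists_prime_orderOf_dvd_card' (G := Subgroup.center P) r
      (hcard ▸ dvd_pow_self r hn.ne')
    exact ⟨g, g.2, (Subgroup.orderOf_coe g).trans hg⟩
  let S : Set G := {g | orderOf g = r ∧ ∀ k ∈ R, mat g * mat k = mat k * mat g}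
  have hS : S.Nonempty := by
    obtain ⟨g, hg, hgo⟩ := hcen _ R.isPGroup'
    refine ⟨g.1, (Subgroup.orderOf_coe g).trans hgo, fun k hk => ?_⟩
    rw [← hmul, ← hmul]
    exact congrArg mat (congrArg Subtype.val (Subgroup.mem_center_iff.1 hg ⟨k, hk⟩)).symm
  let fix : G → Submodule F (ι → F) := fun g => LinearMap.ker ((mat g - 1).mulVecLin)
  have hfixm : ∀ g v, v ∈ fix g ↔ mat g *ᵥ v = v := fun g v => by
    simp [fix, Matrix.sub_mulVec, sub_eq_zero]
  obtain ⟨z, ⟨hzr, hzR⟩, hmin⟩ := Set.exists_min_image S (fun g => finrank F (fix g)) (Set.toFinite S) hS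
  refine ⟨z, hzr, fun v hv => by_contra fun hQv => ?_⟩
  -- averaging over z
  set A := mat z with hA
  have hpow : ∀ (g : G) (i : ℕ), mat (g ^ i) = mat g ^ i := fun g i => by
    induction i with
    | zero => simp [hone]
    | succ i ih => rw [pow_succ, hmul, ih, pow_succ]
  have hAr : A ^ r = 1 := by rw [hA, ← hpow, ← hzr, pow_orderOf_eq_one, hone]
  set P : Matrix ι ι F := ∑ i ∈ Finset.range r, A ^ i with hP
  have hAP : A * P = P := by
    have h1 := Finset.sum_range_succ' (fun i => A ^ i) r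
    have h2 := Finset.sum_range_succ (fun i => A ^ i) r
    rw [h2, hAr, pow_zero] at h1
    rw [hP, Finset.mul_sum]
    simp only [← pow_succ']
    exact add_right_cancel h1.symm
  have hr1 : (r : F) = 1 := by
    obtain ⟨j, hj⟩ := hr.out.eq_two_or_odd'.resolve_left hr2
    rw [hj]; push_cast; rw [CharTwo.two_eq_zero]; ring
  have hPi : ∀ i, A ^ i * P = P := fun i => by
    induction i with
    | zero => rw [pow_zero, one_mul]
    | succ i ih => rw [pow_succ, mul_assoc, hAP, ih]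
  have hPP : P * P = P := by
    conv_lhs => rw [hP, Finset.sum_mul]
    rw [← hP, Finset.sum_congr rfl fun i _ => hPi i, Finset.sum_const, Finset.card_range,
      ← Nat.cast_smul_eq_nsmul F, hr1, one_smul]
  have hPA : P * A = P := by
    rw [← show A * P = P * A from by
      rw [hP, Finset.mul_sum, Finset.sum_mul]
      exact Finset.sum_congr rfl fun i _ => (pow_mul_comm' A i).symm]
    exact hAP
  have hPfix : ∀ u, A *ᵥ u = u → P *ᵥ u = u := fun u hu => by
    have hi : ∀ i, A ^ i *ᵥ u = u := fun i => by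
      induction i with
      | zero => rw [pow_zero, Matrix.one_mulVec]
      | succ i ih => rw [pow_succ, ← Matrix.mulVec_mulVec, hu, ih]
    rw [hP, Matrix.sum_mulVec, Finset.sum_congr rfl fun i _ => hi i, Finset.sum_const, Finset.card_range,
      ← Nat.cast_smul_eq_nsmul F, hr1, one_smul]
  have hPk : ∀ k ∈ R, P * mat k = mat k * P := fun k hk => by
    rw [hP, Finset.sum_mul, Finset.mul_sum]
    exact Finset.sum_congr rfl fun i _ => ((show Commute A (mat k) from hzR k hk).pow_left i).eq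
  have hpol : ∀ u w, QuadraticMap.polar Q u w = QuadraticMap.polarBilin Q u w := fun u w => rfl
  have hPorth : ∀ u w, QuadraticMap.polarBilin Q (P *ᵥ u) (P *ᵥ w) = QuadraticMap.polarBilin Q u (P *ᵥ w) := by
    intro u w
    have hi : ∀ i, QuadraticMap.polarBilin Q (A ^ i *ᵥ u) (P *ᵥ w) = QuadraticMap.polarBilin Q u (P *ᵥ w) := by
      intro i
      have e : QuadraticMap.polarBilin Q (mat (z ^ i) *ᵥ u) (mat (z ^ i) *ᵥ (P *ᵥ w)) =
          QuadraticMap.polarBilin Q u (P *ᵥ w) := by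
        rw [← hpol, ← hpol]
        simp only [QuadraticMap.polar, ← Matrix.mulVec_add, hiso]
      rw [hpow, Matrix.mulVec_mulVec w, hPi] at e
      exact e
    rw [hP, Matrix.sum_mulVec, map_sum, LinearMap.sum_apply, ← hP, Finset.sum_congr rfl fun i _ => hi i,
      Finset.sum_const, Finset.card_range, ← Nat.cast_smul_eq_nsmul F, hr1, one_smul]
  -- R restricted to the fixed space
  let K : Subgroup ↥(R : Subgroup G) :=
    { carrier := {k | mat k.1 * P = P}
      one_mem' := by show mat 1 * P = P; rw [hone, one_mul]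
      mul_mem' := fun {a b} ha hb => by
        show mat (a.1 * b.1) * P = P
        rw [hmul, mul_assoc, hb, ha]
      inv_mem' := fun {a} ha => by
        show mat (a.1)⁻¹ * P = P
        conv_lhs => rw [← show mat a.1 * P = P from ha]
        rw [← mul_assoc, ← hmul, inv_mul_cancel, hone, one_mul] }
  haveI : K.Normal := ⟨fun a ha b => by
    show mat (b.1 * a.1 * (b.1)⁻¹) * P = P
    rw [hmul, hmul, mul_assoc, ← hPk _ (R.1.inv_mem b.2), mul_assoc, ← mul_assoc (mat a.1),
      show mat a.1 * P = P from ha, hPk _ (R.1.inv_mem b.2), ← mul_assoc, ← hmul, mul_inv_cancel, hone, one_mul]⟩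
  obtain ⟨kv, hkv, hkvv⟩ := hmove v hQv
  have hPv : P *ᵥ v = v := hPfix v hv
  haveI : Nontrivial (↥(R : Subgroup G) ⧸ K) := by
    refine ⟨⟨((⟨kv, hkv⟩ : ↥(R : Subgroup G)) : ↥(R : Subgroup G) ⧸ K), 1, fun e => hkvv ?_⟩⟩
    have hk : mat kv * P = P := (QuotientGroup.eq_one_iff _).1 e
    have := congrArg (fun M => M *ᵥ v) hk
    simpa [← Matrix.mulVec_mulVec, hPv] using this
  obtain ⟨gbar, hgbar, hgo⟩ := hcen (↥(R : Subgroup G) ⧸ K) (R.isPGroup'.to_quotient K)
  obtain ⟨g, rfl⟩ := QuotientGroup.mk_surjective gbar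
  set B := mat g.1 with hB
  have hBP : P * B = B * P := hPk _ g.2
  have hBne : B * P ≠ P := fun e => by
    have h1 : ((g : ↥(R : Subgroup G)) : ↥(R : Subgroup G) ⧸ K) = 1 := (QuotientGroup.eq_one_iff _).2 e
    rw [h1, orderOf_one] at hgo
    exact hr.out.one_lt.ne hgo
  have hBr : B ^ r * P = P := by
    have h1 : ((g ^ r : ↥(R : Subgroup G)) : ↥(R : Subgroup G) ⧸ K) = 1 := by
      have := pow_orderOf_eq_one (g : ↥(R : Subgroup G) ⧸ K)
      rw [hgo] at this
      rwa [QuotientGroup.mk_pow]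
    have h2 : mat (g ^ r).1 * P = P := (QuotientGroup.eq_one_iff _).1 h1
    rwa [SubmonoidClass.coe_pow, hpow] at h2
  have hBk : ∀ k : ↥(R : Subgroup G), B * mat k.1 * P = mat k.1 * B * P := fun k => by
    have h := Subgroup.mem_center_iff.1 hgbar (k : ↥(R : Subgroup G) ⧸ K)
    rw [← QuotientGroup.mk_mul, ← QuotientGroup.mk_mul, QuotientGroup.eq] at h
    have h2 : mat ((k * g)⁻¹ * (g * k)).1 * P = P := h
    have h3 := congrArg (fun M => mat (k * g).1 * M) h2
    simp only [← mul_assoc, ← hmul, ← Subgroup.coe_mul, mul_inv_cancel, one_mul] at h3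
    rw [Subgroup.coe_mul, Subgroup.coe_mul, hmul, hmul] at h3
    exact h3
  set M : Matrix ι ι F := A * (1 - P) + B * P with hM
  have hMi : ∀ i, M ^ i = A ^ i * (1 - P) + B ^ i * P := fun i => by
    induction i with
    | zero => simp
    | succ i ih =>
      have e1 : (1 - P) * A = A * (1 - P) := by rw [sub_mul, mul_sub, one_mul, mul_one, hPA, hAP]
      have e2 : (1 - P) * (1 - P) = 1 - P := by
        rw [sub_mul, one_mul, mul_sub, mul_one, hPP, sub_self, sub_zero]
      have e3 : (1 - P) * (B * P) = 0 := by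
        rw [sub_mul, one_mul, ← mul_assoc, hBP, mul_assoc, hPP, sub_self]
      have e4 : P * (A * (1 - P)) = 0 := by rw [← mul_assoc, hPA, mul_sub, mul_one, hPP, sub_self]
      have e5 : P * (B * P) = B * P := by rw [← mul_assoc, hBP, mul_assoc, hPP]
      rw [pow_succ, ih, hM, add_mul, mul_add, mul_add, mul_assoc (A ^ i) (1 - P) (B * P), e3, mul_zero, add_zero,
        mul_assoc (B ^ i) P (A * (1 - P)), e4, mul_zero, zero_add, mul_assoc (B ^ i) P (B * P), e5,
        mul_assoc (A ^ i) (1 - P) (A * (1 - P)), ← mul_assoc (1 - P) A, e1, mul_assoc A, e2, ← mul_assoc,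
        ← pow_succ, ← mul_assoc (B ^ i) B P, ← pow_succ]
  have hMr : M ^ r = 1 := by rw [hMi, hAr, hBr, one_mul, sub_add_cancel]
  have hMiso : ∀ u, Q (M *ᵥ u) = Q u := by
    intro u
    have hsplit : ∀ a b, Q (a + b) = Q a + Q b + QuadraticMap.polarBilin Q a b := fun a b => quadratic_map_add (Q := Q) a b
    have hMu : M *ᵥ u = A *ᵥ (u - P *ᵥ u) + B *ᵥ (P *ᵥ u) := by
      rw [hM, Matrix.add_mulVec, ← Matrix.mulVec_mulVec, ← Matrix.mulVec_mulVec, Matrix.sub_mulVec, Matrix.one_mulVec]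
    have hz0 : ∀ w, QuadraticMap.polarBilin Q (u - P *ᵥ u) (P *ᵥ w) = 0 := fun w => by
      rw [map_sub, LinearMap.sub_apply, hPorth, sub_self]
    have hBu : B *ᵥ (P *ᵥ u) = P *ᵥ (B *ᵥ u) := by rw [Matrix.mulVec_mulVec, Matrix.mulVec_mulVec, hBP]
    have hzP : QuadraticMap.polarBilin Q (A *ᵥ (u - P *ᵥ u)) (B *ᵥ (P *ᵥ u)) = 0 := by
      rw [hBu, show P *ᵥ (B *ᵥ u) = A *ᵥ (P *ᵥ (B *ᵥ u)) by rw [Matrix.mulVec_mulVec _ A, hAP]]
      rw [← hpol, QuadraticMap.polar, ← Matrix.mulVec_add, hiso, hiso, hiso]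
      exact hz0 (B *ᵥ u)
    conv_rhs => rw [show u = (u - P *ᵥ u) + P *ᵥ u by abel]
    rw [hMu, hsplit, hsplit, hiso, hiso, hzP, hz0]
  have hM1 : M * M ^ (r - 1) = 1 := by
    rw [← pow_succ', Nat.sub_add_cancel hr.out.one_le, hMr]
  obtain ⟨z', hz'⟩ : ∃ z' : G, mat z' = M :=
    ⟨⟨⟨M, M ^ (r - 1), hM1, by rw [← pow_succ, Nat.sub_add_cancel hr.out.one_le, hMr]⟩,
      fun u _ => hMiso u⟩, rfl⟩
  have hMP : M * P = B * P := by
    rw [hM, add_mul, mul_assoc, sub_mul, one_mul, hPP, sub_self, mul_zero, zero_add, mul_assoc, hPP]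
  have hz'S : z' ∈ S := by
    refine ⟨orderOf_eq_prime (hinj (by rw [hpow, hz', hMr, hone])) fun e => hBne ?_, fun k hk => ?_⟩
    · rw [← hMP, ← hz', e, hone, one_mul]
    · have e1 : (1 - P) * mat k = mat k * (1 - P) := by rw [sub_mul, mul_sub, one_mul, mul_one, hPk k hk]
      rw [hz', hM, add_mul, mul_add, mul_assoc A, e1, ← mul_assoc, hzR k hk, mul_assoc (mat k) A,
        mul_assoc B P, hPk k hk, ← mul_assoc B, hBk ⟨k, hk⟩, mul_assoc (mat k) B P]
  have hsub : ∀ u ∈ fix z', u ∈ fix z ∧ B *ᵥ u = u := by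
    intro u hu
    rw [hfixm, hz'] at hu
    have h1 : P *ᵥ u = B *ᵥ (P *ᵥ u) := by
      conv_lhs => rw [← hu, Matrix.mulVec_mulVec, hM, mul_add, ← mul_assoc, hPA, mul_sub, mul_one, hPP, sub_self,
        zero_add, ← mul_assoc, hBP, mul_assoc, hPP, ← Matrix.mulVec_mulVec]
    have h2 : A *ᵥ (u - P *ᵥ u) = u - P *ᵥ u := by
      conv_rhs => rw [← hu]
      rw [hM, Matrix.add_mulVec, ← Matrix.mulVec_mulVec, ← Matrix.mulVec_mulVec, Matrix.sub_mulVec,
        Matrix.one_mulVec, Matrix.mulVec_add]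
      have : P *ᵥ (A *ᵥ (u - P *ᵥ u)) = 0 := by
        rw [Matrix.mulVec_mulVec, hPA, Matrix.mulVec_sub, Matrix.mulVec_mulVec, hPP, sub_self]
      have h3 : P *ᵥ (B *ᵥ (P *ᵥ u)) = B *ᵥ (P *ᵥ u) := by
        rw [Matrix.mulVec_mulVec, hBP, ← Matrix.mulVec_mulVec, Matrix.mulVec_mulVec _ P P, hPP]
      rw [this, h3, zero_add, add_sub_cancel_right]
    have h4 := hPfix _ h2
    rw [Matrix.mulVec_sub, Matrix.mulVec_mulVec, hPP, sub_self] at h4
    have h5 : P *ᵥ u = u := (sub_eq_zero.1 h4.symm).symm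
    refine ⟨(hfixm z u).2 ?_, by rw [h5] at h1; exact h1.symm⟩
    show A *ᵥ u = u
    rw [← h5, Matrix.mulVec_mulVec, hAP]
  have hlt : fix z' < fix z := by
    refine lt_of_le_of_ne (fun u hu => (hsub u hu).1) fun e => hBne ?_
    refine Matrix.mulVec_injective (funext fun u => ?_)
    rw [← Matrix.mulVec_mulVec]
    refine (hsub _ ?_).2
    rw [e, hfixm]
    show A *ᵥ (P *ᵥ u) = P *ᵥ u
    rw [Matrix.mulVec_mulVec, hAP]
  exact absurd (hmin z' hz'S) (not_le.2 (Submodule.finrank_lt_finrank_of_lt hlt))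

theorem mem_of_odd_order {G : Type*} [Group G] (N : Subgroup G)
    (hpar : ∀ a b : G, a ∉ N → b ∉ N → a * b ∈ N) {g : G} {r : ℕ} (hg : orderOf g = r) (hodd : Odd r) : g ∈ N := by
  obtain ⟨j, rfl⟩ := hodd
  have h2 : g * g ∈ N := by
    by_cases h : g ∈ N
    · exact N.mul_mem h h
    · exact hpar _ _ h h
  have e : g = (g * g) ^ (j + 1) := by
    rw [← pow_two, ← pow_mul, show 2 * (j + 1) = 2 * j + 1 + 1 by omega, pow_succ, ← hg, pow_orderOf_eq_one, one_mul]
  rw [e]
  exact N.pow_mem h2 _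

/-- A fixed line of an isometry contains only fixed vectors where the form does not vanish. -/
theorem fixed_of_line (Q : QuadraticForm F (ι → F)) (M : Matrix ι ι F) (hM : ∀ v, Q (M *ᵥ v) = Q v)
    (W : Submodule F (ι → F)) (hW : finrank F W = 1) (hmap : W.map (Matrix.toLin' M) ≤ W)
    {v : ι → F} (hv : v ∈ W) (hQv : Q v ≠ 0) : M *ᵥ v = v := by
  have hv0 : v ≠ 0 := fun e => hQv (by rw [e, QuadraticMap.map_zero])
  have hspan : F ∙ v = W := Submodule.eq_of_le_of_finrank_eq ((Submodule.span_singleton_le_iff_mem _ _).2 hv)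
    (by rw [hW, finrank_span_singleton hv0])
  have hmem : M *ᵥ v ∈ W := hmap ⟨v, hv, Matrix.toLin'_apply M v⟩
  rw [← hspan] at hmem
  obtain ⟨c, hc⟩ := Submodule.mem_span_singleton.1 hmem
  have hq := hM v
  rw [← hc, QuadraticMap.map_smul, smul_eq_mul] at hq
  have h0 : (c + 1) * (c + 1) * Q v = 0 := by linear_combination hq + (c + 1) * Q v * CharTwo.two_eq_zero (R := F)
  have hc1 : c = 1 := CharTwo.add_eq_zero.1 (mul_self_eq_zero.1 ((mul_eq_zero.1 h0).resolve_right hQv))
  rw [← hc, hc1, one_smul]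

/-- The two readings of fixing a nonsingular line. -/
theorem exists_line_iff (Q : QuadraticForm F (ι → F)) (M : Matrix ι ι F) (hM : ∀ v, Q (M *ᵥ v) = Q v) :
    (∃ W : Submodule F (ι → F), (finrank F W = 1 ∧ ∃ v ∈ W, Q v ≠ 0) ∧ W.map (Matrix.toLin' M) ≤ W) ↔
      ∃ v, M *ᵥ v = v ∧ Q v ≠ 0 := by
  constructor
  · rintro ⟨W, ⟨hW, v, hv, hQv⟩, hmap⟩
    exact ⟨v, fixed_of_line Q M hM W hW hmap hv hQv, hQv⟩
  · rintro ⟨v, hv, hQv⟩
    refine ⟨F ∙ v, ⟨finrank_span_singleton fun e => hQv (by rw [e, QuadraticMap.map_zero]),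
      v, Submodule.mem_span_singleton_self v, hQv⟩, ?_⟩
    rw [Submodule.map_span_le]
    rintro x rfl
    rw [Matrix.toLin'_apply, hv]
    exact Submodule.mem_span_singleton_self x

end Cfsg.Agent.Forms.FixedNonsingular
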