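/-
Area Forms: Hilbert 90 for a finite commutative ring with a residually non-trivial involution.
-/
import Mathlib.RingTheory.Ideal.Quotient.Operations
import Mathlib.RingTheory.Ideal.Maximal
import Mathlib.RingTheory.Spectrum.Maximal.Basic
import Mathlib.Tactic.LinearCombination

set_option autoImplicit false

namespace Cfsg.Agent.Forms

/-- An element of norm one is `c / ι c` for a unit `c`, when some `ι t - t` is a unit. -/
theorem exists_unit_invol_h90 {R : Type*} [CommRing R] [Finite R] (ι : R →+* R) (hι : ∀ r, ι (ι r) = r)
    {t : R} (ht : IsUnit (ι t - t)) {u : R} (hu : u * ι u = 1) : ∃ c : R, IsUnit c ∧ ι c * u = c := by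
  classical
  let M := MaximalSpectrum R
  haveI : Finite (Ideal R) := Finite.of_injective _ SetLike.coe_injective
  haveI : Finite M := Finite.of_injective (fun m : M => m.asIdeal) fun a b h => MaximalSpectrum.ext h
  haveI : Fintype M := Fintype.ofFinite M
  let conj : M → M := fun m =>
    ⟨m.asIdeal.comap ι, Ideal.comap_isMaximal_of_surjective ι (fun r => ⟨ι r, hι r⟩) (H := m.isMaximal)⟩
  have hconj : ∀ m, conj (conj m) = m := fun m => MaximalSpectrum.ext <| Ideal.ext fun r => by
    simp [conj, Ideal.mem_comap, hι]
  have hchoice : ∀ m : M, ∃ d, d + u * ι d ∉ m.asIdeal := by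
    intro m
    by_contra h
    push Not at h
    have h1 : 1 + u ∈ m.asIdeal := by simpa using h 1
    have h2 : -(ι t - t) ∈ m.asIdeal := by
      have h3 := m.asIdeal.sub_mem (h t) (m.asIdeal.mul_mem_right (ι t) h1)
      convert h3 using 1
      ring
    exact m.isMaximal.ne_top (Ideal.eq_top_of_isUnit_mem _ h2 ht.neg)
  choose dm hdm using hchoice
  let idx := Fintype.equivFin M
  let f : M → R := fun m => if conj m = m then dm m else if idx m < idx (conj m) then 1 else 0
  have hpair : Pairwise (Function.onFun IsCoprime fun m : M => m.asIdeal) := fun a b hab => by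
    show IsCoprime a.asIdeal b.asIdeal
    rw [Ideal.isCoprime_iff_sup_eq]
    exact a.isMaximal.coprime_of_ne b.isMaximal fun h => hab (MaximalSpectrum.ext h)
  obtain ⟨d, hd⟩ := Ideal.exists_forall_sub_mem_ideal hpair f
  refine ⟨d + u * ι d, ?_, ?_⟩
  · by_contra hn
    obtain ⟨I, hI, hle⟩ := Ideal.exists_le_maximal (Ideal.span {d + u * ι d})
      (fun h => hn (Ideal.span_singleton_eq_top.1 h))
    let m : M := ⟨I, hI⟩
    have hc : d + u * ι d ∈ m.asIdeal := hle (Ideal.mem_span_singleton_self _)
    have h2 : ι d - ι (f (conj m)) ∈ m.asIdeal := by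
      have := hd (conj m)
      simpa [conj, Ideal.mem_comap, map_sub] using this
    have key : f m + u * ι (f (conj m)) ∈ m.asIdeal := by
      have h3 := m.asIdeal.sub_mem hc (m.asIdeal.add_mem (hd m) (m.asIdeal.mul_mem_left u h2))
      convert h3 using 1
      ring
    by_cases hm : conj m = m
    · simp only [f, hm, if_true] at key
      exact hdm m key
    · have hm' : ¬ conj (conj m) = conj m := fun h => hm ((hconj m) ▸ h).symm
      have hne : idx m ≠ idx (conj m) := fun h => hm (idx.injective h).symm
      simp only [f, if_neg hm, if_neg hm', hconj] at key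
      rcases lt_or_gt_of_ne hne with hlt | hlt
      · rw [if_pos hlt, if_neg hlt.asymm] at key
        simp at key
        exact m.isMaximal.ne_top ((Ideal.eq_top_iff_one _).2 key)
      · rw [if_neg hlt.asymm, if_pos hlt] at key
        simp at key
        exact m.isMaximal.ne_top (Ideal.eq_top_of_isUnit_mem _ key (IsUnit.of_mul_eq_one _ hu))
  · rw [map_add, map_mul, hι]
    linear_combination d * hu

end Cfsg.Agent.Forms
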