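import Mathlib

/-!
# Isometric involutions of alternating forms and Lagrangian pairs

For a nondegenerate alternating form in odd characteristic, an isometry `x` with `x ^ 2 = ±1`
fixes or swaps the members of a pair of complementary totally isotropic subspaces.
-/

namespace Cfsg.Agent.Forms.InvolutionLagrangian

open LinearMap (BilinForm)

variable {F V : Type*} [Field F] [AddCommGroup V] [Module F V] [FiniteDimensional F V]
variable (B : BilinForm F V)

/-- Two totally isotropic subspaces in perfect pairing. -/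
structure IsPairing (U W : Submodule F V) : Prop where
  isoU : ∀ u ∈ U, ∀ v ∈ U, B u v = 0
  isoW : ∀ u ∈ W, ∀ v ∈ W, B u v = 0
  left : ∀ u ∈ U, (∀ w ∈ W, B u w = 0) → u = 0
  right : ∀ w ∈ W, (∀ u ∈ U, B u w = 0) → w = 0

variable {B}

theorem IsPairing.disjoint {U W : Submodule F V} (h : IsPairing B U W) : U ⊓ W = ⊥ := by
  rw [Submodule.eq_bot_iff]
  intro u hu
  exact h.left u hu.1 fun w hw => h.isoW u hu.2 w hw

theorem IsPairing.orth_inf {U W : Submodule F V} (h : IsPairing B U W) (hB : B.IsAlt)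
    {v : V} (hv : v ∈ U ⊔ W) (hvU : ∀ u ∈ U, B u v = 0) (hvW : ∀ w ∈ W, B w v = 0) : v = 0 := by
  obtain ⟨u, hu, w, hw, rfl⟩ := Submodule.mem_sup.mp hv
  have h1 : w = 0 := h.right w hw fun u' hu' => by
    have := hvU u' hu'
    rwa [map_add, h.isoU u' hu' u hu, zero_add] at this
  subst h1
  have h2 : u = 0 := h.left u hu fun w' hw' => by
    have := hvW w' hw'
    rw [add_zero] at this
    exact hB.eq_iff.mp this
  simp [h2]

/-- A vector orthogonal to both members, with a partner, enlarges the pair. -/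
theorem IsPairing.extend {U W : Submodule F V} (h : IsPairing B U W) (hB : B.IsAlt) {e f : V}
    (heU : ∀ u ∈ U, B u e = 0) (heW : ∀ w ∈ W, B w e = 0)
    (hfU : ∀ u ∈ U, B u f = 0) (hfW : ∀ w ∈ W, B w f = 0) (hef : B e f ≠ 0) :
    IsPairing B (U ⊔ F ∙ e) (W ⊔ F ∙ f) := by
  constructor
  · intro a ha b hb
    obtain ⟨u, hu, e₁, he₁, rfl⟩ := Submodule.mem_sup.mp ha
    obtain ⟨u', hu', e₂, he₂, rfl⟩ := Submodule.mem_sup.mp hb
    obtain ⟨c, rfl⟩ := Submodule.mem_span_singleton.mp he₁
    obtain ⟨c', rfl⟩ := Submodule.mem_span_singleton.mp he₂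
    simp [h.isoU u hu u' hu', heU u hu, hB.eq_iff.mp (heU u' hu'), hB e]
  · intro a ha b hb
    obtain ⟨w, hw, f₁, hf₁, rfl⟩ := Submodule.mem_sup.mp ha
    obtain ⟨w', hw', f₂, hf₂, rfl⟩ := Submodule.mem_sup.mp hb
    obtain ⟨c, rfl⟩ := Submodule.mem_span_singleton.mp hf₁
    obtain ⟨c', rfl⟩ := Submodule.mem_span_singleton.mp hf₂
    simp [h.isoW w hw w' hw', hfW w hw, hB.eq_iff.mp (hfW w' hw'), hB f]
  · intro a ha hz
    obtain ⟨u, hu, e₁, he₁, rfl⟩ := Submodule.mem_sup.mp ha
    obtain ⟨c, rfl⟩ := Submodule.mem_span_singleton.mp he₁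
    have hc : c = 0 := by
      have := hz f (Submodule.mem_sup_right (Submodule.mem_span_singleton_self f))
      simp [hfU u hu, hef] at this
      exact this
    subst hc
    have : u = 0 := h.left u hu fun w hw => by
      have := hz w (Submodule.mem_sup_left hw)
      simpa using this
    simp [this]
  · intro b hb hz
    obtain ⟨w, hw, f₁, hf₁, rfl⟩ := Submodule.mem_sup.mp hb
    obtain ⟨c, rfl⟩ := Submodule.mem_span_singleton.mp hf₁
    have hc : c = 0 := by
      have := hz e (Submodule.mem_sup_right (Submodule.mem_span_singleton_self e))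
      simp [hB.eq_iff.mp (heW w hw), hef] at this
      exact this
    subst hc
    have : w = 0 := h.right w hw fun u hu => by
      have := hz u (Submodule.mem_sup_left hu)
      simpa using this
    simp [this]

theorem isPairing_bot : IsPairing B (⊥ : Submodule F V) ⊥ := by
  constructor <;> simp +contextual

/-- `x` fixes both members (`swap = false`) or interchanges them. -/
def Respects (x : V →ₗ[F] V) (swap : Bool) (U W : Submodule F V) : Prop :=
  if swap then U.map x = W ∧ W.map x = U else U.map x ≤ U ∧ W.map x ≤ W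

/-- Either the pair fills the space, or there is an extension vector pair satisfying a condition
which holds on every nonzero invariant nondegenerate subspace. -/
theorem complement_cases {U W : Submodule F V} (h : IsPairing B U W) (hB : B.IsAlt)
    (hn : B.Nondegenerate) :
    IsCompl U W ∨ ∃ v ∈ B.orthogonal (U ⊔ W), v ≠ 0 ∧ ∃ t ∈ B.orthogonal (U ⊔ W), B v t ≠ 0 := by
  have hd : Disjoint (U ⊔ W) (B.orthogonal (U ⊔ W)) := by
    rw [disjoint_iff, Submodule.eq_bot_iff]
    intro v hv
    exact h.orth_inf hB hv.1 (fun u hu => hv.2 u (Submodule.mem_sup_left hu))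
      (fun w hw => hv.2 w (Submodule.mem_sup_right hw))
  have hres : (B.restrict (U ⊔ W)).Nondegenerate :=
    LinearMap.BilinForm.nondegenerate_restrict_of_disjoint_orthogonal B hB.isRefl hd
  have hc : IsCompl (U ⊔ W) (B.orthogonal (U ⊔ W)) :=
    LinearMap.BilinForm.isCompl_orthogonal_of_restrict_nondegenerate hB.isRefl hres
  by_cases hN : B.orthogonal (U ⊔ W) = ⊥
  · left
    refine IsCompl.of_eq h.disjoint ?_
    have := hc.sup_eq_top
    rwa [hN, sup_bot_eq] at this
  · right
    obtain ⟨v, hv, hv0⟩ := Submodule.exists_mem_ne_zero_of_ne_bot hN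
    refine ⟨v, hv, hv0, ?_⟩
    by_contra hall
    push Not at hall
    refine hv0 (hn.1 v fun y => ?_)
    have hy : y ∈ (U ⊔ W) ⊔ B.orthogonal (U ⊔ W) := by rw [hc.sup_eq_top]; trivial
    obtain ⟨a, ha, b, hb, rfl⟩ := Submodule.mem_sup.mp hy
    rw [map_add, hall b hb, add_zero]
    exact hB.eq_iff.mp (hv a ha)

theorem exists_pair_aux (hB : B.IsAlt) (hn : B.Nondegenerate) {x : V →ₗ[F] V} {swap : Bool}
    (hext : ∀ U W, IsPairing B U W → Respects x swap U W →
      ∀ v ∈ B.orthogonal (U ⊔ W), v ≠ 0 → ∀ t ∈ B.orthogonal (U ⊔ W), B v t ≠ 0 →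
      ∃ e f, e ∈ B.orthogonal (U ⊔ W) ∧ f ∈ B.orthogonal (U ⊔ W) ∧ B e f ≠ 0 ∧
        Respects x swap (U ⊔ F ∙ e) (W ⊔ F ∙ f)) :
    ∃ U W, IsCompl U W ∧ IsPairing B U W ∧ Respects x swap U W := by
  suffices H : ∀ k U W, IsPairing B U W → Respects x swap U W →
      Module.finrank F V - Module.finrank F U = k →
      ∃ U W, IsCompl U W ∧ IsPairing B U W ∧ Respects x swap U W by
    refine H _ ⊥ ⊥ isPairing_bot ?_ rfl
    cases swap <;> simp [Respects]
  intro k
  induction k using Nat.strong_induction_on with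
  | _ k ih =>
    intro U W h hr hk
    rcases complement_cases h hB hn with hc | ⟨v, hv, hv0, t, ht, hvt⟩
    · exact ⟨U, W, hc, h, hr⟩
    obtain ⟨e, f, he, hf, hef, hr'⟩ := hext U W h hr v hv hv0 t ht hvt
    have hl : ∀ {z}, z ∈ B.orthogonal (U ⊔ W) → (∀ u ∈ U, B u z = 0) ∧ (∀ w ∈ W, B w z = 0) :=
      fun hz => ⟨fun u hu => hz u (Submodule.mem_sup_left hu),
        fun w hw => hz w (Submodule.mem_sup_right hw)⟩
    have h' := h.extend hB (hl he).1 (hl he).2 (hl hf).1 (hl hf).2 hef
    refine ih _ ?_ _ _ h' hr' rfl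
    have hnot : e ∉ U := by
      intro heU
      exact hef ((hl hf).1 e heU)
    have hlt : U < U ⊔ F ∙ e := by
      refine lt_of_le_of_ne le_sup_left fun heq => hnot ?_
      rw [heq]; exact Submodule.mem_sup_right (Submodule.mem_span_singleton_self e)
    have := Submodule.finrank_lt_finrank_of_lt hlt
    have := (U ⊔ F ∙ e).finrank_le
    omega

/-- An isometry squaring to `1` fixes both members of a complementary totally isotropic pair. -/
theorem exists_fixed_pair (hB : B.IsAlt) (hn : B.Nondegenerate) (h2 : (2 : F) ≠ 0)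
    (x : V →ₗ[F] V) (hx : ∀ u v, B (x u) (x v) = B u v) (hsq : ∀ v, x (x v) = v) :
    ∃ U W, IsCompl U W ∧ IsPairing B U W ∧ U.map x = U ∧ W.map x = W := by
  obtain ⟨U, W, hc, hp, hr⟩ := exists_pair_aux hB hn (x := x) (swap := false) (by
    intro U W hpair hr v hv hv0 t ht hvt
    obtain ⟨hrU, hrW⟩ : U.map x ≤ U ∧ W.map x ≤ W := by simpa [Respects] using hr
    have hN : ∀ z ∈ B.orthogonal (U ⊔ W), x z ∈ B.orthogonal (U ⊔ W) := by
      intro z hz a ha
      have hxa : x a ∈ U ⊔ W := by
        have := Submodule.mem_map_of_mem (f := x) ha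
        rw [Submodule.map_sup] at this
        exact sup_le_sup hrU hrW this
      have := hz (x a) hxa
      rw [← hx, hsq] at this
      exact this
    -- an eigenvector in the orthogonal complement
    obtain ⟨ε, e, hε, he, he0, hxe⟩ : ∃ (ε : F) (e : V), ε * ε = 1 ∧ e ∈ B.orthogonal (U ⊔ W) ∧
        e ≠ 0 ∧ x e = ε • e := by
      by_cases hv' : v + x v = 0
      · exact ⟨-1, v, by simp, hv, hv0, by
          rw [neg_one_smul]; exact eq_neg_of_add_eq_zero_right hv'⟩
      · exact ⟨1, v + x v, by simp, add_mem hv (hN v hv), hv', by simp [hsq, add_comm]⟩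
    obtain ⟨w, hw, hew⟩ : ∃ w ∈ B.orthogonal (U ⊔ W), B e w ≠ 0 := by
      by_contra hall
      push Not at hall
      refine he0 (hn.1 e fun y => ?_)
      have hd : Disjoint (U ⊔ W) (B.orthogonal (U ⊔ W)) := by
        rw [disjoint_iff, Submodule.eq_bot_iff]
        intro z hz
        exact hpair.orth_inf hB hz.1 (fun u hu => hz.2 u (Submodule.mem_sup_left hu))
          (fun w hw => hz.2 w (Submodule.mem_sup_right hw))
      have hcc := LinearMap.BilinForm.isCompl_orthogonal_of_restrict_nondegenerate hB.isRefl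
        (LinearMap.BilinForm.nondegenerate_restrict_of_disjoint_orthogonal B hB.isRefl hd)
      have hy : y ∈ (U ⊔ W) ⊔ B.orthogonal (U ⊔ W) := by rw [hcc.sup_eq_top]; trivial
      obtain ⟨a, ha, b, hb, rfl⟩ := Submodule.mem_sup.mp hy
      rw [map_add, hall b hb, add_zero]
      exact hB.eq_iff.mp (he a ha)
    refine ⟨e, w + ε • x w, he, add_mem hw (Submodule.smul_mem _ _ (hN w hw)), ?_, ?_⟩
    · have h1 : B e (x w) = ε * B e w := by
        rw [← hx e (x w), hxe, hsq]; simp
      rw [map_add, map_smul, h1, smul_eq_mul, ← mul_assoc, hε, one_mul, ← two_mul]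
      exact mul_ne_zero h2 hew
    · have hf : x (w + ε • x w) = ε • (w + ε • x w) := by
        rw [map_add, map_smul, hsq, smul_add, smul_smul, hε, one_smul, add_comm]
      simp only [Respects, Bool.false_eq_true, if_false, Submodule.map_sup, Submodule.map_span,
        Set.image_singleton, hxe, hf]
      exact ⟨sup_le_sup hrU (Submodule.span_singleton_smul_le F ε e),
        sup_le_sup hrW (Submodule.span_singleton_smul_le F ε _)⟩)
  obtain ⟨hU, hW⟩ : U.map x ≤ U ∧ W.map x ≤ W := by simpa [Respects] using hr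
  have key : ∀ S : Submodule F V, S.map x ≤ S → S.map x = S := fun S hS =>
    le_antisymm hS fun z hz => ⟨x z, hS ⟨z, hz, rfl⟩, hsq z⟩
  exact ⟨U, W, hc, hp, key U hU, key W hW⟩

/-- An isometry squaring to `-1` interchanges a complementary totally isotropic pair. -/
theorem exists_swapped_pair (hB : B.IsAlt) (hn : B.Nondegenerate) (h2 : (2 : F) ≠ 0)
    (x : V →ₗ[F] V) (hx : ∀ u v, B (x u) (x v) = B u v) (hsq : ∀ v, x (x v) = -v) :
    ∃ U W, IsCompl U W ∧ IsPairing B U W ∧ U.map x = W ∧ W.map x = U := by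
  obtain ⟨U, W, hc, hp, hr⟩ := exists_pair_aux hB hn (x := x) (swap := true) (by
    intro U W hpair hr v hv hv0 t ht hvt
    obtain ⟨hrU, hrW⟩ : U.map x = W ∧ W.map x = U := by simpa [Respects] using hr
    have hN : ∀ z ∈ B.orthogonal (U ⊔ W), x z ∈ B.orthogonal (U ⊔ W) := by
      intro z hz a ha
      have hxa : x a ∈ U ⊔ W := by
        have := Submodule.mem_map_of_mem (f := x) ha
        rwa [Submodule.map_sup, hrU, hrW, sup_comm] at this
      have := hz (x a) hxa
      rw [← hx, hsq] at this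
      simpa using this
    obtain ⟨e, he, hee⟩ : ∃ e ∈ B.orthogonal (U ⊔ W), B e (x e) ≠ 0 := by
      by_contra hall
      push Not at hall
      apply hvt
      -- t = x (-(x t))
      have hs : -(x t) ∈ B.orthogonal (U ⊔ W) := neg_mem (hN t ht)
      have ht' : x (-(x t)) = t := by rw [map_neg, hsq, neg_neg]
      have h0 := hall _ (add_mem hv hs)
      have h0s := hall _ hs
      rw [ht'] at h0s
      simp only [map_add, LinearMap.add_apply, hall v hv, h0s, zero_add, add_zero, ht'] at h0
      have h1 : B (-(x t)) (x v) = B v t := by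
        rw [map_neg, LinearMap.neg_apply, hx, LinearMap.IsAlt.neg hB]
      rw [h1, ← two_mul] at h0
      exact (mul_eq_zero.mp h0).resolve_left h2
    refine ⟨e, x e, he, hN e he, hee, ?_⟩
    simp only [Respects, if_true, Submodule.map_sup, Submodule.map_span, Set.image_singleton,
      hrU, hrW, hsq]
    exact ⟨trivial, by rw [← Set.neg_singleton, Submodule.span_neg]⟩)
  obtain ⟨hU, hW⟩ : U.map x = W ∧ W.map x = U := by simpa [Respects] using hr
  exact ⟨U, W, hc, hp, hU, hW⟩

end Cfsg.Agent.Forms.InvolutionLagrangian
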