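/-
Area Forms: alternating four by four matrices, the Pfaffian, and its invariance under `SL₄` (Klein correspondence).
-/
import Cfsg.Agent.Lib.GL.Basic

set_option autoImplicit false
set_option maxHeartbeats 2000000

namespace Cfsg.Agent.Forms

open scoped Matrix MatrixGroups

variable {K : Type*} [Field K]

/-- The alternating matrix with upper entries `a b c d e f`. -/
def alt4 (a b c d e f : K) : Matrix (Fin 4) (Fin 4) K :=
  !![0, a, b, c; -a, 0, d, e; -b, -d, 0, f; -c, -e, -f, 0]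

/-- Alternating four by four matrices. -/
def IsAlt4 (M : Matrix (Fin 4) (Fin 4) K) : Prop := ∃ N, M = N - Nᵀ

/-- The Pfaffian. -/
def pf (M : Matrix (Fin 4) (Fin 4) K) : K := M 0 1 * M 2 3 - M 0 2 * M 1 3 + M 0 3 * M 1 2

/-- The dual alternating matrix. -/
def dual4 (M : Matrix (Fin 4) (Fin 4) K) : Matrix (Fin 4) (Fin 4) K :=
  alt4 (-(M 2 3)) (M 1 3) (-(M 1 2)) (-(M 0 3)) (M 0 2) (-(M 0 1))

theorem isAlt4_alt4 (a b c d e f : K) : IsAlt4 (alt4 a b c d e f) := by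
  refine ⟨!![0, a, b, c; 0, 0, d, e; 0, 0, 0, f; 0, 0, 0, 0], ?_⟩
  ext i j
  fin_cases i <;> fin_cases j <;> simp [alt4]

theorem IsAlt4.eq_alt4 {M : Matrix (Fin 4) (Fin 4) K} (h : IsAlt4 M) :
    M = alt4 (M 0 1) (M 0 2) (M 0 3) (M 1 2) (M 1 3) (M 2 3) := by
  obtain ⟨N, rfl⟩ := h
  ext i j
  fin_cases i <;> fin_cases j <;> simp [alt4]

theorem IsAlt4.conj {M : Matrix (Fin 4) (Fin 4) K} (h : IsAlt4 M) (g : Matrix (Fin 4) (Fin 4) K) :
    IsAlt4 (g * M * gᵀ) := by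
  obtain ⟨N, rfl⟩ := h
  exact ⟨g * N * gᵀ, by simp [Matrix.mul_sub, Matrix.sub_mul, Matrix.transpose_mul, mul_assoc]⟩

/-- `SL₄` preserves the Pfaffian and intertwines the duality. -/
theorem pf_dual_conj (g : SL(4, K)) {M : Matrix (Fin 4) (Fin 4) K} (h : IsAlt4 M) :
    pf (g.1 * M * g.1ᵀ) = pf M ∧ g.1ᵀ * dual4 (g.1 * M * g.1ᵀ) * g.1 = dual4 M := by
  let H : Subgroup SL(4, K) :=
    { carrier := {g | ∀ M, IsAlt4 M →
        pf (g.1 * M * g.1ᵀ) = pf M ∧ g.1ᵀ * dual4 (g.1 * M * g.1ᵀ) * g.1 = dual4 M}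
      one_mem' := fun M _ => by simp
      mul_mem' := fun {x y} hx hy M hM => by
        obtain ⟨h1, h2⟩ := hx _ (hM.conj y.1)
        obtain ⟨h3, h4⟩ := hy M hM
        have e : (x * y).1 * M * (x * y).1ᵀ = x.1 * (y.1 * M * y.1ᵀ) * x.1ᵀ := by
          simp [Matrix.transpose_mul, mul_assoc]
        refine ⟨by rw [e, h1, h3], ?_⟩
        rw [e, Matrix.SpecialLinearGroup.coe_mul, Matrix.transpose_mul]
        calc y.1ᵀ * x.1ᵀ * dual4 (x.1 * (y.1 * M * y.1ᵀ) * x.1ᵀ) * (x.1 * y.1)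
            = y.1ᵀ * (x.1ᵀ * dual4 (x.1 * (y.1 * M * y.1ᵀ) * x.1ᵀ) * x.1) * y.1 := by simp only [mul_assoc]
          _ = dual4 M := by rw [h2, h4]
      inv_mem' := fun {x} hx M hM => by
        obtain ⟨h1, h2⟩ := hx _ (hM.conj (x⁻¹).1)
        have hxi : x.1 * (x⁻¹).1 = 1 := by
          rw [← Matrix.SpecialLinearGroup.coe_mul, mul_inv_cancel, Matrix.SpecialLinearGroup.coe_one]
        have e : x.1 * ((x⁻¹).1 * M * (x⁻¹).1ᵀ) * x.1ᵀ = M := by
          calc x.1 * ((x⁻¹).1 * M * (x⁻¹).1ᵀ) * x.1ᵀ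
              = (x.1 * (x⁻¹).1) * M * (x.1 * (x⁻¹).1)ᵀ := by simp only [Matrix.transpose_mul, mul_assoc]
            _ = M := by rw [hxi, one_mul, Matrix.transpose_one, mul_one]
        rw [e] at h1 h2
        refine ⟨h1.symm, ?_⟩
        calc (x⁻¹).1ᵀ * dual4 ((x⁻¹).1 * M * (x⁻¹).1ᵀ) * (x⁻¹).1
            = (x.1 * (x⁻¹).1)ᵀ * dual4 M * (x.1 * (x⁻¹).1) := by
              rw [← h2]; simp only [Matrix.transpose_mul, mul_assoc]
          _ = dual4 M := by rw [hxi, Matrix.transpose_one, one_mul, mul_one] }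
  have hH : H = ⊤ := GL.SL_eq_top_of_transvection_mem fun i j hij c => by
    intro M hM
    rw [hM.eq_alt4]
    generalize M 0 1 = a, M 0 2 = b, M 0 3 = c', M 1 2 = d, M 1 3 = e, M 2 3 = f
    fin_cases i <;> fin_cases j <;> first | exact absurd rfl hij | skip
    all_goals
      refine ⟨?_, ?_⟩
      · simp [pf, alt4, Matrix.mul_apply, Fin.sum_univ_four, Matrix.SpecialLinearGroup.transvection_coe,
          Matrix.single_apply] <;> ring
      · ext r s
        fin_cases r <;> fin_cases s <;>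
          simp [dual4, alt4, Matrix.mul_apply, Fin.sum_univ_four, Matrix.SpecialLinearGroup.transvection_coe,
            Matrix.single_apply] <;> ring
  exact (hH.ge (Subgroup.mem_top g) : g ∈ H) M h

end Cfsg.Agent.Forms
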