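/-
Area Forms: the stabiliser of a factor of an orthogonal product is the product of the two isometry groups.
-/
import Cfsg.Agent.Lib.Forms.Isom

set_option autoImplicit false

namespace Cfsg.Agent.Forms

variable {F : Type*} [Field F] {A C : Type*} [AddCommGroup A] [Module F A] [AddCommGroup C] [Module F C]

/-- The automorphisms mapping `A × 0` onto itself. -/
def stabFst (F A C : Type*) [Field F] [AddCommGroup A] [Module F A] [AddCommGroup C] [Module F C] :
    Subgroup ((A × C) ≃ₗ[F] (A × C)) where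
  carrier := {g | ∀ p, p.2 = 0 ↔ (g p).2 = 0}
  mul_mem' {a b} ha hb := fun p => (hb p).trans (ha (b p))
  one_mem' := fun _ => Iff.rfl
  inv_mem' {a} ha := fun p => by
    have h := ha (a.symm p)
    rw [a.apply_symm_apply] at h
    exact h.symm

variable {f : A × C → A × C → F} {fA : A → A → F} {fC : C → C → F}

/-- The stabiliser of a non-degenerate factor of an orthogonal product. -/
theorem nonempty_prod_stab (hf : ∀ p p', f p p' = fA p.1 p'.1 + fC p.2 p'.2)
    (hA0 : ∀ a, fA a 0 = 0 ∧ fA 0 a = 0) (hC0 : ∀ c, fC c 0 = 0 ∧ fC 0 c = 0)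
    (hA : ∀ a, (∀ a', fA a a' = 0) → a = 0) :
    Nonempty (↥(isom F f ⊓ stabFst F A C) ≃* isom F fA × isom F fC) := by
  have hperp : ∀ g ∈ isom F f ⊓ stabFst F A C, ∀ c, (g (0, c)).1 = 0 := by
    rintro g ⟨hg, hs⟩ c
    refine hA _ fun a' => ?_
    have hy : (g.symm (a', 0)).2 = 0 := by
      have h := hs (g.symm (a', 0))
      rw [g.apply_symm_apply] at h
      exact h.2 rfl
    have h := hg (0, c) (g.symm (a', 0))
    rw [g.apply_symm_apply, hf, hf, hy] at h
    simpa [(hC0 (g (0, c)).2).1, (hA0 (g.symm (a', 0)).1).2, (hC0 c).1] using h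
  have key : ∀ g ∈ isom F f ⊓ stabFst F A C, ∀ p : A × C, g p = ((g (p.1, 0)).1, (g (0, p.2)).2) := by
    intro g hg p
    conv_lhs => rw [show p = (p.1, 0) + (0, p.2) by simp, map_add]
    refine Prod.ext ?_ ?_
    · simp [hperp g hg]
    · simp [((hg.2 (p.1, 0)).1 rfl)]
  let Φ : isom F fA × isom F fC →* ↥(isom F f ⊓ stabFst F A C) :=
    { toFun := fun x => ⟨x.1.1.prodCongr x.2.1, fun u v => by
          rw [hf, hf]
          show fA (x.1.1 u.1) (x.1.1 v.1) + fC (x.2.1 u.2) (x.2.1 v.2) = _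
          rw [x.1.2, x.2.2],
        fun p => (LinearEquiv.map_eq_zero_iff x.2.1).symm⟩
      map_one' := Subtype.ext (LinearEquiv.ext fun p => rfl)
      map_mul' := fun x y => Subtype.ext (LinearEquiv.ext fun p => rfl) }
  refine ⟨(MulEquiv.ofBijective Φ ⟨fun x y hxy => ?_, fun g => ?_⟩).symm⟩
  · refine Prod.ext (Subtype.ext (LinearEquiv.ext fun a => ?_)) (Subtype.ext (LinearEquiv.ext fun c => ?_))
    · exact congrArg Prod.fst (LinearEquiv.congr_fun (congrArg Subtype.val hxy) (a, 0))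
    · exact congrArg Prod.snd (LinearEquiv.congr_fun (congrArg Subtype.val hxy) (0, c))
  · have hgi : (g.1)⁻¹ ∈ isom F f ⊓ stabFst F A C := inv_mem g.2
    have hcomp : ∀ (h h' : (A × C) ≃ₗ[F] (A × C)), h ∈ isom F f ⊓ stabFst F A C →
        h' ∈ isom F f ⊓ stabFst F A C → (∀ p, h (h' p) = p) →
        (∀ a, (h ((h' (a, 0)).1, 0)).1 = a) ∧ ∀ c, (h (0, (h' (0, c)).2)).2 = c := by
      intro h h' hh hh' hinv
      refine ⟨fun a => ?_, fun c => ?_⟩
      · have h0 : ((h' (a, 0)).1, (0 : C)) = h' (a, 0) := Prod.ext rfl ((hh'.2 (a, 0)).1 rfl).symm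
        rw [h0, hinv]
      · have h0 : ((0 : A), (h' (0, c)).2) = h' (0, c) := Prod.ext (hperp h' hh' c).symm rfl
        rw [h0, hinv]
    let gA : A ≃ₗ[F] A := LinearEquiv.ofLinearMap
      ((LinearMap.fst F A C).comp (g.1.toLinearMap.comp (LinearMap.inl F A C)))
      ((LinearMap.fst F A C).comp ((g.1)⁻¹.toLinearMap.comp (LinearMap.inl F A C)))
      (LinearMap.ext (hcomp g.1 (g.1)⁻¹ g.2 hgi g.1.apply_symm_apply).1)
      (LinearMap.ext (hcomp (g.1)⁻¹ g.1 hgi g.2 g.1.symm_apply_apply).1)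
    let gC : C ≃ₗ[F] C := LinearEquiv.ofLinearMap
      ((LinearMap.snd F A C).comp (g.1.toLinearMap.comp (LinearMap.inr F A C)))
      ((LinearMap.snd F A C).comp ((g.1)⁻¹.toLinearMap.comp (LinearMap.inr F A C)))
      (LinearMap.ext (hcomp g.1 (g.1)⁻¹ g.2 hgi g.1.apply_symm_apply).2)
      (LinearMap.ext (hcomp (g.1)⁻¹ g.1 hgi g.2 g.1.symm_apply_apply).2)
    refine ⟨(⟨gA, fun u v => ?_⟩, ⟨gC, fun u v => ?_⟩), Subtype.ext (LinearEquiv.ext fun p => (key g.1 g.2 p).symm)⟩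
    · show fA (g.1 (u, 0)).1 (g.1 (v, 0)).1 = fA u v
      have h := g.2.1 (u, 0) (v, 0)
      rw [hf, hf, ((g.2.2 (u, 0)).1 rfl), ((g.2.2 (v, 0)).1 rfl)] at h
      simpa [(hC0 0).1] using h
    · show fC (g.1 (0, u)).2 (g.1 (0, v)).2 = fC u v
      have h := g.2.1 (0, u) (0, v)
      rw [hf, hf, hperp g.1 g.2 u, hperp g.1 g.2 v] at h
      simpa [(hA0 0).1] using h

end Cfsg.Agent.Forms
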