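import Mathlib
import Cfsg.Prelude.Def_Classical

/-!
# Small orthogonal groups over the field of two elements as symmetric groups

A generic recognition lemma (blocks of vectors permuted by the isometries, adjacent swaps realised by
reflections) and transport of isometry groups along an isomorphism of fields.
-/

set_option autoImplicit false

open Matrix

namespace Cfsg.Agent.Forms.SmallOrth

variable {ι : Type} [Fintype ι] [DecidableEq ι]

section Transport

variable {K L : Type*} [Field K] [Field L]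

/-- Entrywise field isomorphism on general linear groups. -/
noncomputable def glEquiv (σ : K ≃+* L) : GL ι K ≃* GL ι L :=
  Units.mapEquiv σ.mapMatrix.toMulEquiv

theorem glEquiv_apply (σ : K ≃+* L) (g : GL ι K) (i j : ι) :
    (glEquiv σ g : Matrix ι ι L) i j = σ ((g : Matrix ι ι K) i j) := rfl

theorem mem_isometryGroup_iff {Q : (ι → K) → K} {g : GL ι K} :
    g ∈ Cfsg.isometryGroup K Q ↔ ∀ v, Q ((g : Matrix ι ι K) *ᵥ v) = Q v :=
  ⟨fun h v => h v v, fun h v _ => h v⟩

/-- Isometry groups along a field isomorphism. -/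
theorem nonempty_equiv (σ : K ≃+* L) {Q : (ι → K) → K} {Q' : (ι → L) → L}
    (hQ : ∀ v, Q' (fun i => σ (v i)) = σ (Q v)) :
    Nonempty (↥(Cfsg.isometryGroup K Q) ≃* ↥(Cfsg.isometryGroup L Q')) := by
  have key : ∀ g, glEquiv σ g ∈ Cfsg.isometryGroup L Q' ↔ g ∈ Cfsg.isometryGroup K Q := by
    intro g
    have hmv : ∀ v : ι → K, (glEquiv σ g : Matrix ι ι L) *ᵥ (fun i => σ (v i)) =
        fun i => σ (((g : Matrix ι ι K) *ᵥ v) i) := fun v => by
      funext i
      simp [Matrix.mulVec, dotProduct, glEquiv_apply]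
    rw [mem_isometryGroup_iff, mem_isometryGroup_iff]
    constructor
    · intro h v
      apply σ.injective
      rw [← hQ, ← hQ, ← hmv, h]
    · intro h w
      obtain ⟨v, rfl⟩ : ∃ v : ι → K, w = fun i => σ (v i) := ⟨fun i => σ.symm (w i), by simp⟩
      rw [hmv, hQ, hQ, h]
  have hmap : (Cfsg.isometryGroup K Q).map (glEquiv σ).toMonoidHom = Cfsg.isometryGroup L Q' := by
    ext x
    constructor
    · rintro ⟨g, hg, rfl⟩
      exact (key g).2 hg
    · intro hx
      obtain ⟨g, rfl⟩ := (glEquiv σ).surjective x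
      exact ⟨g, (key g).1 hx, rfl⟩
  exact ⟨((glEquiv σ).subgroupMap _).trans (MulEquiv.subgroupCongr hmap)⟩

end Transport

section Two

variable (Q : (ι → ZMod 2) → ZMod 2)

/-- Matrix of the reflection in `w`. -/
def reflMat (w : ι → ZMod 2) : Matrix ι ι (ZMod 2) :=
  fun a b => (if a = b then 1 else 0) + (Q (Pi.single b 1 + w) + Q (Pi.single b 1) + Q w) * w a

/-- A vector that is the unique common element of two blocks. -/
def Pinned {n : ℕ} (S : Fin n → Finset (ι → ZMod 2)) (v : ι → ZMod 2) : Prop :=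
  ∃ i j, S i ∩ S j = {v}

/-- Recognition of the symmetric group. -/
theorem nonempty_perm_equiv {n : ℕ} (S : Fin (n + 1) → Finset (ι → ZMod 2))
    (hS : Function.Injective S)
    (himg : ∀ M : Matrix ι ι (ZMod 2), (∀ v, Q (M *ᵥ v) = Q v) → Function.Injective (M *ᵥ ·) →
      ∀ i, ∃ j, (S i).image (M *ᵥ ·) = S j)
    (hspan : ∀ k : ι, ∃ l : List (ι → ZMod 2), (∀ v ∈ l, Pinned S v) ∧ l.sum = Pi.single k 1)
    (w : Fin n → ι → ZMod 2)
    (hw : ∀ i, reflMat Q (w i) * reflMat Q (w i) = 1 ∧
      (∀ v, Q (reflMat Q (w i) *ᵥ v) = Q v) ∧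
      ∀ k, (S k).image (reflMat Q (w i) *ᵥ ·) = S (Equiv.swap i.castSucc i.succ k)) :
    Nonempty (↥(Cfsg.isometryGroup (ZMod 2) Q) ≃* Equiv.Perm (Fin (n + 1))) := by
  classical
  let M : ↥(Cfsg.isometryGroup (ZMod 2) Q) → Matrix ι ι (ZMod 2) := fun g => (g.1 : GL ι (ZMod 2)).1
  have hMone : M 1 = 1 := rfl
  have hMmul : ∀ a b, M (a * b) = M a * M b := fun a b => rfl
  have hMinj : ∀ g, Function.Injective (M g *ᵥ ·) := fun g u v h => by
    have := congrArg (M g⁻¹ *ᵥ ·) h
    simpa only [mulVec_mulVec, ← hMmul, inv_mul_cancel, hMone, one_mulVec] using this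
  choose π hπ using fun g => himg (M g) (mem_isometryGroup_iff.1 g.2) (hMinj g)
  have hcomp : ∀ a b k, π (a * b) k = π a (π b k) := fun a b k => hS (by
    rw [← hπ (a * b), ← hπ a, ← hπ b, Finset.image_image]
    refine Finset.image_congr fun v _ => ?_
    simp [hMmul, mulVec_mulVec])
  have hone : ∀ k, π 1 k = k := fun k => hS (by
    rw [← hπ 1, hMone]
    simp)
  let φ : ↥(Cfsg.isometryGroup (ZMod 2) Q) →* Equiv.Perm (Fin (n + 1)) :=
    { toFun := fun g => ⟨π g, π g⁻¹, fun k => by rw [← hcomp, inv_mul_cancel, hone],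
        fun k => by rw [← hcomp, mul_inv_cancel, hone]⟩
      map_one' := Equiv.ext hone
      map_mul' := fun a b => Equiv.ext (hcomp a b) }
  have hinj : Function.Injective φ := by
    rw [injective_iff_map_eq_one]
    intro g hg
    have hfix : ∀ i, (S i).image (M g *ᵥ ·) = S i := fun i => by
      rw [hπ g, show π g i = i from Equiv.Perm.ext_iff.1 hg i]
    have hpin : ∀ v, Pinned S v → M g *ᵥ v = v := by
      rintro v ⟨i, j, hij⟩
      have hv : v ∈ S i ∩ S j := by rw [hij]; exact Finset.mem_singleton_self v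
      have hgv : M g *ᵥ v ∈ S i ∩ S j := by
        rw [Finset.mem_inter] at hv ⊢
        exact ⟨hfix i ▸ Finset.mem_image_of_mem _ hv.1, hfix j ▸ Finset.mem_image_of_mem _ hv.2⟩
      rwa [hij, Finset.mem_singleton] at hgv
    have hlist : ∀ l : List (ι → ZMod 2), (∀ v ∈ l, Pinned S v) → M g *ᵥ l.sum = l.sum := by
      intro l
      induction l with
      | nil => simp
      | cons a l ih =>
        intro h
        rw [List.sum_cons, mulVec_add, hpin a (h a (by simp)), ih fun v hv => h v (by simp [hv])]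
    have hM1 : M g = 1 := by
      ext a b
      obtain ⟨l, hl, hsum⟩ := hspan b
      have := congrFun (hlist l hl) a
      rw [hsum, mulVec_single_one] at this
      simpa [Matrix.one_apply, Pi.single_apply] using this
    exact Subtype.ext (Units.ext hM1)
  have hsurj : Function.Surjective φ := by
    have hswap : ∀ i : Fin n, Equiv.swap i.castSucc i.succ ∈ MonoidHom.mrange φ := fun i => by
      obtain ⟨h1, h2, h3⟩ := hw i
      let g : ↥(Cfsg.isometryGroup (ZMod 2) Q) :=
        ⟨⟨reflMat Q (w i), reflMat Q (w i), h1, h1⟩, mem_isometryGroup_iff.2 h2⟩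
      exact ⟨g, Equiv.ext fun k => hS ((hπ g k).symm.trans (h3 k))⟩
    intro p
    have hp : p ∈ Submonoid.closure (Set.range fun i : Fin n => Equiv.swap i.castSucc i.succ) := by
      rw [Equiv.Perm.mclosure_swap_castSucc_succ]
      exact Submonoid.mem_top p
    exact (Submonoid.closure_le.2 (by rintro _ ⟨i, rfl⟩; exact hswap i)) hp
  exact ⟨MulEquiv.ofBijective φ ⟨hinj, hsurj⟩⟩

end Two

end Cfsg.Agent.Forms.SmallOrth
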