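import Mathlib

/-!
# Recognition of `3².Q₈`
-/

set_option autoImplicit false

namespace Cfsg.Agent.Forms.SmallUnitary

theorem cube_eq_one : ∀ p : Multiplicative (ZMod 3) × Multiplicative (ZMod 3), p ^ 3 = 1 := by decide

theorem quat_involution : ∀ q : QuaternionGroup 2, q ^ 2 = 1 → q = 1 ∨ q = .a 2 := by decide

theorem quat_sq : ∀ q : QuaternionGroup 2, q ^ 2 ≠ 1 → q ^ 2 = .a 2 := by decide

theorem quat_four : ∀ q : QuaternionGroup 2, q ^ 4 = 1 := by decide

theorem val_shift : ∀ i j : ZMod (2 * 2), ((2 : ℕ) + j - i : ZMod (2 * 2)).val % 4 = (2 + 3 * i.val + j.val) % 4 := by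
  decide

/-- A group of order 72 with a pair `x, y` generating a subgroup of order nine normalised by a quaternion group. -/
theorem split {G : Type*} [Group G] [Finite G] (hG : Nat.card G = 72) {x y a b : G}
    (hxy : Commute x y) (hx : x ^ 3 = 1) (hy : y ^ 3 = 1) (hx1 : x ≠ 1) (hyx : y ∉ Subgroup.zpowers x)
    (ha : a ^ 4 = 1) (ha2 : a ^ 2 ≠ 1) (hb : b ^ 2 = a ^ 2) (hba : b * a = a ^ 3 * b)
    (hax : a * x * a⁻¹ = y) (hay : a * y * a⁻¹ = x ^ 2) (hbx : b * x * b⁻¹ = x * y)
    (hby : b * y * b⁻¹ = x * y ^ 2) :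
    ∃ (N : Subgroup G) (_ : N.Normal), Nat.card N = 9 ∧ (∀ z ∈ N, z ^ 3 = 1) ∧
      Nonempty (G ⧸ N ≃* QuaternionGroup 2) := by
  classical
  haveI : Fact (Nat.Prime 3) := ⟨Nat.prime_three⟩
  let pw : ∀ z : G, z ^ 3 = 1 → Multiplicative (ZMod 3) →* G := fun z hz =>
      { toFun := fun i => z ^ (Multiplicative.toAdd i).val
        map_one' := pow_zero z
        map_mul' := fun i j => by
          show z ^ (Multiplicative.toAdd i + Multiplicative.toAdd j).val = _
          rw [ZMod.val_add, ← pow_add]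
          exact (pow_eq_pow_mod _ hz).symm }
  let φ : Multiplicative (ZMod 3) × Multiplicative (ZMod 3) →* G :=
    (pw x hx).noncommCoprod (pw y hy) fun i j => hxy.pow_pow _ _
  have hord : orderOf x = 3 := orderOf_eq_prime hx hx1
  have hφ : Function.Injective φ := by
    rw [injective_iff_map_eq_one]
    rintro ⟨i, j⟩ h
    have hj : (Multiplicative.toAdd j).val = 0 := by
      by_contra hne
      apply hyx
      have hlt := ZMod.val_lt (Multiplicative.toAdd j)
      have hyj : y ^ (Multiplicative.toAdd j).val ∈ Subgroup.zpowers x := by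
        have e : x ^ (Multiplicative.toAdd i).val * y ^ (Multiplicative.toAdd j).val = 1 := h
        rw [eq_inv_of_mul_eq_one_right e]
        exact inv_mem (Subgroup.npow_mem_zpowers x _)
      rcases (show (Multiplicative.toAdd j).val = 1 ∨ (Multiplicative.toAdd j).val = 2 by omega) with e | e
      · rwa [e, pow_one] at hyj
      · rw [e] at hyj
        have := mul_mem hyj hyj
        rwa [← pow_add, pow_eq_pow_mod (2 + 2) hy, pow_one] at this
    have hi : (Multiplicative.toAdd i).val = 0 := by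
      have e : x ^ (Multiplicative.toAdd i).val * y ^ (Multiplicative.toAdd j).val = 1 := h
      rw [hj, pow_zero, mul_one] at e
      have hd := orderOf_dvd_of_pow_eq_one e
      rw [hord] at hd
      exact Nat.eq_zero_of_dvd_of_lt hd (ZMod.val_lt _)
    exact Prod.ext ((ZMod.val_eq_zero _).1 hi) ((ZMod.val_eq_zero _).1 hj)
  set N := φ.range with hN
  have hcN : Nat.card N = 9 := by
    rw [hN, ← Nat.card_congr (MonoidHom.ofInjective hφ).toEquiv, Nat.card_prod]
    simp
  have hN3 : ∀ z ∈ N, z ^ 3 = 1 := by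
    rintro z ⟨p, rfl⟩
    rw [← map_pow, cube_eq_one p, map_one]
  have hxN : x ∈ N := ⟨(Multiplicative.ofAdd 1, 1), by
    show x ^ 1 * y ^ 0 = x
    simp⟩
  have hyN : y ∈ N := ⟨(1, Multiplicative.ofAdd 1), by
    show x ^ 0 * y ^ 1 = y
    simp⟩
  have hconj : ∀ g : G, g * x * g⁻¹ ∈ N → g * y * g⁻¹ ∈ N →
      g ∈ Subgroup.normalizer (N : Set G) := fun g hgx hgy => by
    have hfwd : ∀ n ∈ N, g * n * g⁻¹ ∈ N := by
      rintro n ⟨⟨i, j⟩, rfl⟩
      show g * (x ^ (Multiplicative.toAdd i).val * y ^ (Multiplicative.toAdd j).val) * g⁻¹ ∈ N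
      rw [← conj_mul, ← conj_pow, ← conj_pow]
      exact mul_mem (pow_mem hgx _) (pow_mem hgy _)
    exact Subgroup.mem_normalizer_fintype hfwd
  have hann : a ∈ Subgroup.normalizer (N : Set G) :=
    hconj a (hax ▸ hyN) (hay ▸ pow_mem hxN 2)
  have hbn : b ∈ Subgroup.normalizer (N : Set G) :=
    hconj b (hbx ▸ mul_mem hxN hyN) (hby ▸ mul_mem hxN (pow_mem hyN 2))
  have hb4 : b ^ 4 = 1 := by rw [show 4 = 2 * 2 from rfl, pow_mul, hb, ← pow_mul, ha]
  have hbia : b⁻¹ = a ^ 2 * b := inv_eq_of_mul_eq_one_left (by rw [mul_assoc, ← sq, hb, ← pow_add, ha])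
  have hpow : ∀ i : ℕ, a ^ i = a ^ (i % 4) := fun i => pow_eq_pow_mod i ha
  have hmv : ∀ i : ℕ, b * a ^ i = a ^ (3 * i) * b := by
    intro i
    induction i with
    | zero => simp
    | succ i ih => rw [pow_succ, ← mul_assoc, ih, mul_assoc, hba, ← mul_assoc, ← pow_add, mul_add, mul_one]
  have hmv' : ∀ i : ℕ, a ^ i * b = b * a ^ (3 * i) := fun i => by
    rw [hmv, hpow (3 * (3 * i)), show 3 * (3 * i) % 4 = i % 4 by omega, ← hpow]
  let f : QuaternionGroup 2 → G := fun q => match q with
    | .a i => a ^ i.val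
    | .xa i => b * a ^ i.val
  have hval : ∀ i j : ZMod (2 * 2), a ^ (i + j).val = a ^ (i.val + j.val) := fun i j => by
    rw [ZMod.val_add, ← hpow]
  have hsub : ∀ i j : ZMod (2 * 2), a ^ (i - j).val = a ^ (i.val + 3 * j.val) := fun i j => by
    rw [hpow (i.val + 3 * j.val), hpow ((i - j).val)]
    congr 1
    revert i j; decide
  let ψ : QuaternionGroup 2 →* G :=
    { toFun := f
      map_one' := by show a ^ (0 : ZMod (2 * 2)).val = 1; simp
      map_mul' := by
        rintro (i | i) (j | j)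
        · show a ^ (i + j).val = a ^ i.val * a ^ j.val
          rw [hval, pow_add]
        · show b * a ^ (j - i).val = a ^ i.val * (b * a ^ j.val)
          rw [hsub, ← mul_assoc (a ^ i.val), hmv', mul_assoc, ← pow_add, add_comm]
        · show b * a ^ (i + j).val = b * a ^ i.val * a ^ j.val
          rw [hval, pow_add, mul_assoc]
        · show a ^ ((2 : ℕ) + j - i : ZMod (2 * 2)).val = b * a ^ i.val * (b * a ^ j.val)
          rw [mul_assoc b, ← mul_assoc (a ^ i.val), hmv', ← mul_assoc b, ← mul_assoc b, ← sq b, hb, ← pow_add,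
            ← pow_add, hpow (2 + 3 * i.val + j.val), ← val_shift i j, ← hpow] }
  have hψ : Function.Injective ψ := by
    rw [injective_iff_map_eq_one]
    intro q hq
    have hsq : (q ^ 2 = 1 → q = 1 ∨ q = .a 2) := quat_involution q
    have h2ne : ψ (.a 2) ≠ 1 := ha2
    by_contra hne
    rcases eq_or_ne (q ^ 2) 1 with e | e
    · rcases hsq e with e' | e'
      · exact hne e'
      · exact h2ne (e' ▸ hq)
    · have : q ^ 2 = .a 2 := quat_sq q e
      exact h2ne (by rw [← this, map_pow, hq, one_pow])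
  have htop : Subgroup.normalizer (N : Set G) = ⊤ := by
    refine Subgroup.eq_top_of_card_eq _ ?_
    have h9 : 9 ∣ Nat.card (Subgroup.normalizer (N : Set G)) :=
      hcN ▸ Subgroup.card_dvd_of_le Subgroup.le_normalizer
    have hrange : ψ.range ≤ Subgroup.normalizer (N : Set G) := by
      rintro _ ⟨q, rfl⟩
      rcases q with i | i
      · exact pow_mem hann _
      · exact mul_mem hbn (pow_mem hann _)
    have h8 : 8 ∣ Nat.card (Subgroup.normalizer (N : Set G)) := by
      have := Subgroup.card_dvd_of_le hrange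
      rwa [← Nat.card_congr (MonoidHom.ofInjective hψ).toEquiv, Nat.card_eq_fintype_card, QuaternionGroup.card] at this
      
    have hle := Subgroup.card_le_card_group (Subgroup.normalizer (N : Set G))
    have hpos : 0 < Nat.card (Subgroup.normalizer (N : Set G)) := Nat.card_pos
    omega
  have hnorm : N.Normal := Subgroup.normalizer_eq_top_iff.1 htop
  refine ⟨N, hnorm, hcN, hN3, ?_⟩
  let θ : QuaternionGroup 2 →* G ⧸ N := (QuotientGroup.mk' N).comp ψ
  have hθ : Function.Injective θ := by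
    rw [injective_iff_map_eq_one]
    intro q hq
    apply hψ
    rw [map_one]
    have h3 := hN3 _ ((QuotientGroup.eq_one_iff _).1 hq)
    have h8 : (ψ q) ^ 4 = 1 := by
      rw [← map_pow, quat_four q, map_one]
    rw [pow_succ, h3, one_mul] at h8
    exact h8
  refine ⟨(MulEquiv.ofBijective θ ((Nat.bijective_iff_injective_and_card θ).2 ⟨hθ, ?_⟩)).symm⟩
  have := Subgroup.card_eq_card_quotient_mul_card_subgroup N
  rw [hG, hcN] at this
  rw [Nat.card_eq_fintype_card, QuaternionGroup.card]
  omega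

end Cfsg.Agent.Forms.SmallUnitary
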