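/-
Area Forms: recognition of quasi-dihedral and wreathed Sylow 2-subgroups in two-dimensional groups.
-/
import Cfsg.Prelude.Def_CaseTheorems
import Mathlib.GroupTheory.Sylow
import Mathlib.LinearAlgebra.Matrix.GeneralLinearGroup.Defs

set_option autoImplicit false

namespace Cfsg.Agent.Forms

variable {H : Type*} [Group H] [Finite H]

/-- A 2-subgroup is conjugate into every Sylow 2-subgroup. -/
theorem exists_conj_into_sylow (P : Sylow 2 H) {S : Subgroup H} (hS : IsPGroup 2 S) :
    ∃ g : H, ∀ s ∈ S, g * s * g⁻¹ ∈ (P : Subgroup H) := by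
  obtain ⟨Q, hQ⟩ := hS.exists_le_sylow
  obtain ⟨g, hg⟩ := MulAction.exists_smul_eq H Q P
  refine ⟨g, fun s hs => ?_⟩
  rw [← hg]
  exact ⟨s, hQ hs, rfl⟩

theorem isPGroup_zpowers {x : H} {n : ℕ} (hx : orderOf x = 2 ^ n) : IsPGroup 2 (Subgroup.zpowers x) :=
  IsPGroup.of_card (by rw [Nat.card_zpowers, hx])

theorem mem_normalizer_zpowers {x y : H} (hy : y * y = 1) (h : y * x * y⁻¹ ∈ Subgroup.zpowers x) :
    y ∈ Subgroup.normalizer (Subgroup.zpowers x : Set H) := by
  have key : ∀ w ∈ Subgroup.zpowers x, y * w * y⁻¹ ∈ Subgroup.zpowers x := by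
    rintro w ⟨i, rfl⟩
    show y * x ^ i * y⁻¹ ∈ _
    rw [← conj_zpow]
    exact Subgroup.zpow_mem _ h i
  refine Subgroup.mem_normalizer_iff.2 fun w => ⟨key w, fun hw => ?_⟩
  have h2 := key _ hw
  have hyi : y⁻¹ = y := inv_eq_of_mul_eq_one_left hy
  rwa [hyi, show y * (y * w * y) * y = (y * y) * w * (y * y) by simp only [mul_assoc], hy, one_mul,
    mul_one] at h2

/-- Quasi-dihedral Sylow 2-subgroups from the defining relation. -/
theorem sylow_quasiDihedral_of_rel (P : Sylow 2 H) {n : ℕ} (hn : 3 ≤ n)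
    (hcard : (Nat.card H).factorization 2 = n + 1) {x y : H} (hx : orderOf x = 2 ^ n) (hy : y * y = 1)
    (hrel : y * x * y⁻¹ = x ^ (2 ^ (n - 1) - 1)) : IsQuasiDihedral (P : Subgroup H) := by
  have hp : IsPGroup 2 (Subgroup.zpowers y ⊔ Subgroup.zpowers x : Subgroup H) := by
    refine IsPGroup.to_sup_of_normal_right' ?_ (isPGroup_zpowers hx)
      (Subgroup.zpowers_le.2 (mem_normalizer_zpowers hy ?_))
    · intro g
      obtain ⟨i, hi⟩ := g.2
      refine ⟨1, Subtype.ext ?_⟩
      rw [SubmonoidClass.coe_pow, ← hi, pow_one, pow_two, OneMemClass.coe_one]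
      show y ^ i * y ^ i = 1
      rw [← (Commute.refl y).mul_zpow, hy, one_zpow]
    · rw [hrel]; exact Subgroup.pow_mem _ (Subgroup.mem_zpowers x) _
  obtain ⟨g, hg⟩ := exists_conj_into_sylow P hp
  have hy1 : y ≠ 1 := by
    intro h1
    rw [h1, one_mul, inv_one, mul_one] at hrel
    have h2 : 2 ^ (n - 1) ≤ 2 ^ n := Nat.pow_le_pow_right two_pos (Nat.sub_le n 1)
    have h4 : 4 ≤ 2 ^ (n - 1) :=
      (le_of_eq (by norm_num)).trans (Nat.pow_le_pow_right two_pos (show 2 ≤ n - 1 by omega))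
    have h3 : 2 ^ (n - 1) - 2 = 0 := by
      refine Nat.eq_zero_of_dvd_of_lt ?_ (show 2 ^ (n - 1) - 2 < 2 ^ n by omega)
      rw [← hx]
      apply orderOf_dvd_of_pow_eq_one
      refine mul_left_cancel (a := x) ?_
      rw [← pow_succ', show 2 ^ (n - 1) - 2 + 1 = 2 ^ (n - 1) - 1 by omega, ← hrel, mul_one]
    omega
  have hφ : Function.Injective (MulAut.conj g).toMonoidHom := (MulAut.conj g).injective
  refine ⟨n, hn, by rw [P.card_eq_multiplicity, hcard],
    ⟨MulAut.conj g x, hg x (Subgroup.mem_sup_right (Subgroup.mem_zpowers x))⟩,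
    ⟨MulAut.conj g y, hg y (Subgroup.mem_sup_left (Subgroup.mem_zpowers y))⟩, ?_, ?_, ?_⟩
  · rw [← Subgroup.orderOf_coe]
    exact (orderOf_injective _ hφ x).trans hx
  · rw [← Subgroup.orderOf_coe]
    exact (orderOf_injective _ hφ y).trans (orderOf_eq_prime (by rw [pow_two, hy]) hy1)
  · refine Subtype.ext ?_
    rw [Subgroup.coe_mul, Subgroup.coe_mul, Subgroup.coe_inv, SubmonoidClass.coe_pow]
    show MulAut.conj g y * MulAut.conj g x * (MulAut.conj g y)⁻¹ = MulAut.conj g x ^ _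
    rw [← map_inv, ← map_mul, ← map_mul, ← map_pow, hrel]

/-- Wreathed Sylow 2-subgroups from the defining relations. -/
theorem sylow_wreathed_of_rel (P : Sylow 2 H) {n : ℕ} (hn : 2 ≤ n)
    (hcard : (Nat.card H).factorization 2 = 2 * n + 1) {x y z : H} (hx : orderOf x = 2 ^ n) (hc : x * y = y * x)
    (hd : ∀ i j : ℤ, x ^ i = y ^ j → x ^ i = 1) (hz : z * z = 1) (hzx : z * x * z⁻¹ = y) :
    IsWreathed (P : Subgroup H) := by
  have hy : orderOf y = 2 ^ n := by
    rw [← hzx]
    exact ((MulAut.conj z).orderOf_eq x).trans hx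
  have hzy : z * y * z⁻¹ = x := by
    rw [← hzx, inv_eq_of_mul_eq_one_left hz,
      show z * (z * x * z) * z = (z * z) * x * (z * z) by simp only [mul_assoc], hz, one_mul, mul_one]
  have hA : IsPGroup 2 (Subgroup.zpowers x ⊔ Subgroup.zpowers y : Subgroup H) := by
    refine IsPGroup.to_sup_of_normal_right' (isPGroup_zpowers hx) (isPGroup_zpowers hy)
      (Subgroup.zpowers_le.2 (Subgroup.mem_normalizer_iff.2 fun w => ?_))
    have hxw : ∀ w ∈ Subgroup.zpowers y, x * w * x⁻¹ = w := by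
      rintro w ⟨i, rfl⟩
      show x * y ^ i * x⁻¹ = y ^ i
      rw [(Commute.zpow_right (hc : Commute x y) i).eq, mul_inv_cancel_right]
    refine ⟨fun hw => by rwa [hxw w hw], fun hw => ?_⟩
    have h := hxw _ hw
    rw [mul_assoc x (x * w * x⁻¹)] at h
    have h' : x * w * x⁻¹ * x⁻¹ = w * x⁻¹ := mul_left_cancel (h.trans (by simp only [mul_assoc]))
    rwa [← mul_right_cancel h']
  have hp : IsPGroup 2 (Subgroup.zpowers z ⊔ (Subgroup.zpowers x ⊔ Subgroup.zpowers y) : Subgroup H) := by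
    refine IsPGroup.to_sup_of_normal_right' ?_ hA (Subgroup.zpowers_le.2 ?_)
    · intro g
      obtain ⟨i, hi⟩ := g.2
      refine ⟨1, Subtype.ext ?_⟩
      rw [SubmonoidClass.coe_pow, ← hi, pow_one, pow_two, OneMemClass.coe_one]
      show z ^ i * z ^ i = 1
      rw [← (Commute.refl z).mul_zpow, hz, one_zpow]
    · have hmap : (Subgroup.zpowers x ⊔ Subgroup.zpowers y).map (MulAut.conj z).toMonoidHom
          = Subgroup.zpowers x ⊔ Subgroup.zpowers y := by
        rw [Subgroup.map_sup, MonoidHom.map_zpowers, MonoidHom.map_zpowers]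
        show Subgroup.zpowers (z * x * z⁻¹) ⊔ Subgroup.zpowers (z * y * z⁻¹) = _
        rw [hzx, hzy, sup_comm]
      refine Subgroup.mem_normalizer_iff.2 fun w => ⟨fun hw => ?_, fun hw => ?_⟩
      · rw [← hmap]; exact Subgroup.mem_map_of_mem _ hw
      · rw [← hmap] at hw
        obtain ⟨w', hw', e⟩ := hw
        rwa [← (MulAut.conj z).injective e]
  obtain ⟨g, hg⟩ := exists_conj_into_sylow P hp
  have hxm : g * x * g⁻¹ ∈ (P : Subgroup H) :=
    hg x (Subgroup.mem_sup_right (Subgroup.mem_sup_left (Subgroup.mem_zpowers x)))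
  have hym : g * y * g⁻¹ ∈ (P : Subgroup H) :=
    hg y (Subgroup.mem_sup_right (Subgroup.mem_sup_right (Subgroup.mem_zpowers y)))
  have hzm : g * z * g⁻¹ ∈ (P : Subgroup H) :=
    hg z (Subgroup.mem_sup_left (Subgroup.mem_zpowers z))
  have hxy : x ≠ y := by
    intro e
    have h1 := hd 1 1 (by rw [zpow_one, zpow_one, e])
    rw [zpow_one] at h1
    rw [h1, orderOf_one] at hx
    have := Nat.one_lt_two_pow (show n ≠ 0 by omega)
    omega
  refine ⟨n, hn, by rw [P.card_eq_multiplicity, hcard], ⟨_, hxm⟩, ⟨_, hym⟩, ⟨_, hzm⟩, ?_, ?_, ?_, ?_, ?_⟩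
  · rw [← Subgroup.orderOf_coe]
    exact ((MulAut.conj g).orderOf_eq x).trans hx
  · exact Subtype.ext (show MulAut.conj g x * MulAut.conj g y = MulAut.conj g y * MulAut.conj g x by
      rw [← map_mul, ← map_mul, hc])
  · rw [eq_bot_iff]
    rintro w ⟨⟨i, hi⟩, ⟨j, hj⟩⟩
    have h : (MulAut.conj g x) ^ i = (MulAut.conj g y) ^ j := congrArg Subtype.val (hi.trans hj.symm)
    rw [← map_zpow, ← map_zpow] at h
    rw [Subgroup.mem_bot, ← hi]
    refine Subtype.ext ?_
    show (MulAut.conj g x) ^ i = 1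
    rw [← map_zpow, hd i j ((MulAut.conj g).injective h), map_one]
  · rw [← Subgroup.orderOf_coe]
    refine ((MulAut.conj g).orderOf_eq z).trans (orderOf_eq_prime (by rw [pow_two, hz]) fun e => ?_)
    rw [e, one_mul, inv_one, mul_one] at hzx
    exact hxy hzx
  · refine Subtype.ext ?_
    show MulAut.conj g z * MulAut.conj g x * (MulAut.conj g z)⁻¹ = MulAut.conj g y
    rw [← map_inv, ← map_mul, ← map_mul, hzx]

/-- Wreathed Sylow 2-subgroups in groups containing the monomial matrices. -/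
theorem sylow_wreathed_of_monomial {F : Type*} [Field F] (P : Sylow 2 H) (ι : H →* Matrix.GeneralLinearGroup (Fin 2) F)
    (hι : Function.Injective ι) {n : ℕ} (hn : 2 ≤ n) (hcard : (Nat.card H).factorization 2 = 2 * n + 1) {a : Fˣ}
    (ha : orderOf a = 2 ^ n) {x y z : H} (hx : (ι x).val = Matrix.diagonal ![(a : F), 1])
    (hy : (ι y).val = Matrix.diagonal ![1, (a : F)]) (hz : (ι z).val = !![0, 1; 1, 0]) :
    IsWreathed (P : Subgroup H) := by
  let D : Fˣ × Fˣ →* Matrix (Fin 2) (Fin 2) F :=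
    { toFun := fun p => Matrix.diagonal ![(p.1 : F), (p.2 : F)]
      map_one' := by ext i j; fin_cases i <;> fin_cases j <;> simp
      map_mul' := fun p r => by ext i j; fin_cases i <;> fin_cases j <;> simp }
  have hD : Function.Injective D := fun p r h => by
    refine Prod.ext (Units.ext ?_) (Units.ext ?_)
    · simpa [D] using congrFun (congrFun h 0) 0
    · simpa [D] using congrFun (congrFun h 1) 1
  let Φ : H →* Matrix (Fin 2) (Fin 2) F := (Units.coeHom _).comp ι
  have hΦ : Function.Injective Φ := Units.val_injective.comp hι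
  have hx' : Φ x = D (a, 1) := hx.trans (by simp [D])
  have hy' : Φ y = D (1, a) := hy.trans (by simp [D])
  have hz' : Φ z = !![0, 1; 1, 0] := hz
  refine sylow_wreathed_of_rel P hn hcard (x := x) (y := y) (z := z) ?_ ?_ ?_ ?_ ?_
  · rw [← orderOf_injective Φ hΦ, hx', orderOf_injective D hD]
    exact (Prod.orderOf_mk).trans (by simp [ha])
  · refine hΦ ?_
    rw [map_mul, map_mul, hx', hy', ← map_mul, ← map_mul, mul_comm]
  · intro i j h
    let Du : Fˣ × Fˣ →* Matrix.GeneralLinearGroup (Fin 2) F := D.toHomUnits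
    have hDu : Function.Injective Du := fun p r e => hD (congrArg Units.val e)
    have hxu : ι x = Du (a, 1) := Units.ext hx'
    have hyu : ι y = Du (1, a) := Units.ext hy'
    refine hι ?_
    have h' := congrArg ι h
    rw [map_zpow, map_zpow, hxu, hyu, ← map_zpow, ← map_zpow] at h'
    have h1 : a ^ i = 1 := by simpa using congrArg Prod.fst (hDu h')
    rw [map_zpow, hxu, ← map_zpow, map_one, show ((a, (1 : Fˣ)) ^ i) = 1 from Prod.ext h1 (one_zpow i), map_one]
  · refine hΦ ?_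
    rw [map_mul, hz', map_one]
    ext i j; fin_cases i <;> fin_cases j <;> simp
  · refine mul_inv_eq_of_eq_mul (hΦ ?_)
    rw [map_mul, map_mul, hx', hy', hz']
    ext i j; fin_cases i <;> fin_cases j <;> simp [D]

/-! ### Arithmetic -/

theorem factorization_two_of_odd {a : ℕ} (ha : Odd a) : a.factorization 2 = 0 :=
  Nat.factorization_eq_zero_of_not_dvd (by rw [← even_iff_two_dvd]; exact Nat.not_even_iff_odd.2 ha)

theorem factorization_two_of_mod_four {a : ℕ} (ha : a % 4 = 2) : a.factorization 2 = 1 := by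
  obtain ⟨b, rfl⟩ : 2 ∣ a := by omega
  rw [Nat.factorization_mul (by norm_num) (by omega), Finsupp.add_apply, Nat.prime_two.factorization_self,
    factorization_two_of_odd (Nat.odd_iff.2 (by omega))]

/-- For `4 ∣ a + b`: the exponent `v ≥ 2` and the odd cofactor. -/
theorem exists_two_pow_mul_odd {a : ℕ} (ha : 4 ∣ a) (h0 : a ≠ 0) :
    ∃ v j : ℕ, 2 ≤ v ∧ a.factorization 2 = v ∧ a = 2 ^ v * (2 * j + 1) := by
  obtain ⟨j, hj⟩ : Odd (a / 2 ^ a.factorization 2) := by
    rw [← Nat.not_even_iff_odd, even_iff_two_dvd]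
    exact Nat.not_dvd_ordCompl Nat.prime_two h0
  refine ⟨_, j, (Nat.prime_two.pow_dvd_iff_le_factorization h0).1 (by simpa using ha), rfl, ?_⟩
  rw [← hj, Nat.ordProj_mul_ordCompl_eq_self]

/-- Finite cyclic groups have elements of every order dividing their order. -/
theorem exists_orderOf_eq_of_dvd {G : Type*} [Group G] [Finite G] [IsCyclic G] {d : ℕ} (hd : d ∣ Nat.card G) :
    ∃ g : G, orderOf g = d := by
  obtain ⟨g, hg⟩ := IsCyclic.exists_ofOrder_eq_natCard (α := G)
  exact ⟨g ^ (orderOf g / d), orderOf_pow_orderOf_div (orderOf_pos g).ne' (hg ▸ hd)⟩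

end Cfsg.Agent.Forms
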