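/-
Elements of prime order of the symplectic group in characteristic two and the quadratic forms they preserve.
-/
import Cfsg.Agent.Lib.Forms.CentTwoRatio
import Cfsg.Agent.Lib.Forms.FixedNonsingular
import Cfsg.Agent.Lib.Forms.InvolTwoCount
import Cfsg.Prelude.Def_GeometricClasses

set_option autoImplicit false
set_option linter.unusedSectionVars false
set_option linter.style.haveILetI false

namespace Cfsg.Agent.Forms.SympOrthCover

open scoped Matrix
open Module (finrank)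
open CentTwo (sq_inj transv)
open InvolTwoCount (permMat swapXY swapPairs nbr)

variable {F : Type*} [Field F] [Fintype F] [CharP F 2] {m : ℕ}

local notation "𝕍" => Fin m ⊕ Fin m → F
local notation "𝔾" => Matrix.GeneralLinearGroup (Fin m ⊕ Fin m) F
local notation "𝕄" => Matrix (Fin m ⊕ Fin m) (Fin m ⊕ Fin m) F

/-- A quadratic form polarising to the standard alternating form. -/
structure IsForm (Q : 𝕍 → F) : Prop where
  smul : ∀ (c : F) (v : 𝕍), Q (c • v) = c * c * Q v
  add : ∀ u v, Q (u + v) = Q u + Q v + sympForm m F u v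

/-- Plus type: there is a singular subspace of half the dimension. -/
def Plus (Q : 𝕍 → F) : Prop :=
  ∃ L : Submodule F 𝕍, finrank F L = m ∧ ∀ x ∈ L, Q x = 0

/-- The values `d ^ 2 + d`. -/
def AS (x : F) : Prop := ∃ d, x = d * d + d

/-- The standard form twisted by a vector. -/
noncomputable def tw (w v : 𝕍) : F := quadPlus m F v + sympForm m F w v * sympForm m F w v

theorem as_add {x y : F} (hx : AS x) (hy : AS y) : AS (x + y) := by
  obtain ⟨d, hd⟩ := hx
  obtain ⟨e, he⟩ := hy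
  exact ⟨d + e, by linear_combination hd + he - d * e * CharTwo.two_eq_zero (R := F)⟩

theorem as_add_of_not {x y : F} (hx : ¬ AS x) (hy : ¬ AS y) : AS (x + y) := by
  obtain ⟨δ, hδ⟩ := OrthTwoMinus.exists_delta (F := F)
  simp only [AS, not_exists] at hx hy
  obtain ⟨d, hd⟩ := hδ x hx
  obtain ⟨e, he⟩ := hδ y hy
  exact ⟨d + e, by
    linear_combination hd + he + (δ - d * d - d - e * e - e - d * e) * CharTwo.two_eq_zero (R := F)⟩

theorem as_add_iff {x y : F} : AS (x + y) ↔ (AS x ↔ AS y) := by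
  have hxy : x + y + y = x := by rw [add_assoc, CharTwo.add_self_eq_zero, add_zero]
  have hyx : x + y + x = y := by rw [add_comm x y, add_assoc, CharTwo.add_self_eq_zero, add_zero]
  refine ⟨fun h => ⟨fun hx => hyx ▸ as_add h hx, fun hy => hxy ▸ as_add h hy⟩, fun h => ?_⟩
  by_cases hx : AS x
  · exact as_add hx (h.1 hx)
  · exact as_add_of_not hx (mt h.2 hx)

theorem exists_not_as : ∃ k : F, ¬ AS k := by
  have hns : ¬ Function.Surjective (fun d : F => d * d + d) := fun hsur => by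
    have hinj := Finite.injective_iff_surjective.2 hsur
    exact zero_ne_one (@hinj 0 1 (by simp [CharTwo.add_self_eq_zero]))
  simp only [Function.Surjective, not_forall, not_exists] at hns
  obtain ⟨k, hk⟩ := hns
  exact ⟨k, fun ⟨d, hd⟩ => hk d hd.symm⟩

theorem eq_of_add_eq_zero {u v : 𝕍} (h : u + v = 0) : u = v :=
  funext fun i => CharTwo.add_eq_zero.1 (congrFun h i)

theorem symp_add_left (u v x : 𝕍) :
    sympForm m F (u + v) x = sympForm m F u x + sympForm m F v x := by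
  rw [← sympB_apply, map_add, LinearMap.add_apply, sympB_apply, sympB_apply]

theorem isForm_quad : IsForm (quadPlus m F : 𝕍 → F) :=
  ⟨fun c v => OrthTwo.q_smul c v, fun u v => OrthTwo.q_add u v⟩

theorem IsForm.twist {Q : 𝕍 → F} (hQ : IsForm Q) (w : 𝕍) :
    IsForm fun v => Q v + sympForm m F w v * sympForm m F w v := by
  refine ⟨fun c v => ?_, fun u v => ?_⟩
  · show Q (c • v) + _ = _
    rw [hQ.smul, OrthTwo.symp_smul_right]; ring
  · show Q (u + v) + _ = _
    rw [hQ.add, SympTwo.symp_add_right]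
    linear_combination sympForm m F w u * sympForm m F w v * CharTwo.two_eq_zero (R := F)

theorem isForm_tw (w : 𝕍) : IsForm (tw w) := isForm_quad.twist w

/-- Every form is the standard one twisted by a vector. -/
theorem IsForm.exists_tw {Q : 𝕍 → F} (hQ : IsForm Q) : ∃ w, ∀ v, Q v = tw w v := by
  choose r hr using fun v : 𝕍 => SympTwo.exists_sqrt (Q v + quadPlus m F v)
  let l : 𝕍 →ₗ[F] F :=
    { toFun := r
      map_add' := fun u v => sq_inj (by
        rw [← hr, hQ.add, OrthTwo.q_add]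
        linear_combination hr u + hr v + (sympForm m F u v - r u * r v) * CharTwo.two_eq_zero (R := F))
      map_smul' := fun a v => sq_inj (by
        rw [← hr, hQ.smul, OrthTwo.q_smul, RingHom.id_apply, smul_eq_mul]
        linear_combination a * a * hr v) }
  obtain ⟨w, hw⟩ : ∃ w, sympB m F w = l := by
    refine ((LinearMap.injective_iff_surjective_of_finrank_eq_finrank
      (Subspace.dual_finrank_eq).symm).1 ?_) l
    rw [← LinearMap.ker_eq_bot, LinearMap.ker_eq_bot']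
    exact fun x hx => (sympB_nondegenerate m).1 x fun y => LinearMap.congr_fun hx y
  refine ⟨w, fun v => ?_⟩
  have h := hr v
  rw [show r v = sympForm m F w v by rw [← sympB_apply, hw]; rfl] at h
  show Q v = quadPlus m F v + _
  linear_combination h - quadPlus m F v * CharTwo.two_eq_zero (R := F)

theorem exists_quad {Q : 𝕍 → F} (hQ : IsForm Q) :
    ∃ q : QuadraticForm F 𝕍, ⇑q = Q ∧ (QuadraticMap.polarBilin q).Nondegenerate := by
  have hp : ∀ u v, QuadraticMap.polar Q u v = sympForm m F u v := fun u v => by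
    rw [QuadraticMap.polar, hQ.add]; ring
  refine ⟨QuadraticMap.ofPolar Q (fun a x => by rw [hQ.smul, smul_eq_mul])
    (fun x y z => by rw [hp, hp, hp, symp_add_left])
    (fun c x y => by rw [hp, hp, smul_eq_mul, SympTwo.symp_comm, OrthTwo.symp_smul_right, SympTwo.symp_comm]),
    rfl, OrthTwoMinus.nondegenerate_of_polar hp⟩

theorem plus_quad : Plus (quadPlus m F : 𝕍 → F) := by
  let J : (Fin m → F) →ₗ[F] 𝕍 :=
    { toFun := fun x => Sum.elim x 0
      map_add' := fun x y => by funext j; rcases j with i | i <;> simp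
      map_smul' := fun c x => by funext j; rcases j with i | i <;> simp }
  have hJ : Function.Injective J := fun x y e => funext fun i => congrFun e (.inl i)
  refine ⟨LinearMap.range J, by rw [LinearMap.finrank_range_of_inj hJ, Module.finrank_fin_fun], ?_⟩
  rintro _ ⟨x, rfl⟩
  rw [quadPlus_apply]
  exact Finset.sum_eq_zero fun i _ => by simp [J]

theorem as_of_plus {w : 𝕍} (hP : Plus (tw w)) : AS (quadPlus m F w) := by
  classical
  obtain ⟨L, hLm, hL⟩ := hP
  obtain ⟨L0, hL0m, hL0⟩ := plus_quad (F := F) (m := m)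
  have hnd : (QuadraticMap.polarBilin (quadPlus m F)).Nondegenerate := quadPlus_nondegenerate m
  have hV : finrank F 𝕍 = 2 * m := by simp [two_mul]
  have hLq : ∀ x ∈ L, quadPlus m F x = sympForm m F w x * sympForm m F w x := fun x hx =>
    CharTwo.add_eq_zero.1 (hL x hx)
  have hLf : ∀ x ∈ L, ∀ y ∈ L, sympForm m F x y = 0 := fun x hx y hy => by
    have h := (isForm_tw w).add x y
    rw [hL x hx, hL y hy, hL _ (L.add_mem hx hy), zero_add, zero_add] at h
    exact h.symm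
  let φ : 𝕍 →ₗ[F] F := sympB m F w
  have hφ : ∀ x, φ x = sympForm m F w x := fun x => sympB_apply w x
  by_cases hcase : ∀ x ∈ L, sympForm m F w x = 0
  · -- `w` lies in `L`
    have hO : ∀ v, (∀ x ∈ L, sympForm m F x v = 0) →
        v ∈ LinearMap.BilinForm.orthogonal (QuadraticMap.polarBilin (quadPlus m F)) L := fun v hv x hx => by
      show QuadraticMap.polarBilin (quadPlus m F) x v = 0
      rw [CentTwo.polar_quadPlus, sympB_apply]; exact hv x hx
    have heq : L = LinearMap.BilinForm.orthogonal (QuadraticMap.polarBilin (quadPlus m F)) L := by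
      refine Submodule.eq_of_le_of_finrank_eq (fun v hv => hO v fun x hx => hLf x hx v hv) ?_
      rw [LinearMap.BilinForm.finrank_orthogonal hnd, hV, hLm]
      omega
    have hwL : w ∈ L := heq ▸ hO w fun x hx => by rw [SympTwo.symp_comm]; exact hcase x hx
    refine ⟨0, ?_⟩
    rw [hLq w hwL, SympTwo.symp_self]; ring
  push Not at hcase
  obtain ⟨x0, hx0, hx0'⟩ := hcase
  set H := L ⊓ LinearMap.ker φ
  have hH : QForm.TotallySingular (quadPlus m F) H := fun x hx => by
    rw [hLq x hx.1, ← hφ, LinearMap.mem_ker.1 hx.2, mul_zero]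
  have hHm : finrank F H + 1 = m := by
    have hsup : L ⊔ LinearMap.ker φ = ⊤ := by
      refine eq_top_iff.2 fun v _ => ?_
      rw [show v = (φ v / φ x0) • x0 + (v - (φ v / φ x0) • x0) by abel]
      refine Submodule.add_mem_sup (Submodule.smul_mem _ _ hx0) (LinearMap.mem_ker.2 ?_)
      rw [map_sub, map_smul, smul_eq_mul, div_mul_cancel₀ _ (by rw [hφ]; exact hx0'), sub_self]
    have h1 := Submodule.finrank_sup_add_finrank_inf_eq L (LinearMap.ker φ)
    have h2 := φ.finrank_range_add_finrank_ker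
    rw [LinearMap.range_eq_top.2 (LinearMap.surjective fun e => hx0' (by rw [← hφ, e]; rfl)), finrank_top,
      Module.finrank_self, hV] at h2
    rw [hsup, finrank_top, hV] at h1
    show finrank F ↥(L ⊓ LinearMap.ker φ) + 1 = m
    omega
  obtain ⟨W, hW, hWm, hHW, -⟩ := QForm.exists_extension hnd hV hH hHm (X := L0) hL0 hL0m
  obtain ⟨y, hyW, hyH⟩ : ∃ y ∈ W, y ∉ H := SetLike.not_le_iff_exists.1 fun hh => by
    have := Submodule.finrank_mono hh
    omega
  set O := LinearMap.BilinForm.orthogonal (QuadraticMap.polarBilin (quadPlus m F)) H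
  have hO : ∀ v, (∀ x ∈ H, sympForm m F x v = 0) → v ∈ O := fun v hv x hx => by
    show QuadraticMap.polarBilin (quadPlus m F) x v = 0
    rw [CentTwo.polar_quadPlus, sympB_apply]; exact hv x hx
  have hwL : w ∉ L := fun hh => hx0' (hLf w hh x0 hx0)
  have heq : L ⊔ F ∙ w = O := by
    refine Submodule.eq_of_le_of_finrank_eq (sup_le (fun v hv => hO v fun x hx => hLf x hx.1 v hv) ?_) ?_
    · refine (Submodule.span_singleton_le_iff_mem _ _).2 (hO w fun x hx => ?_)
      rw [SympTwo.symp_comm, ← hφ]; exact hx.2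
    · rw [Submodule.finrank_sup_span_singleton hwL, LinearMap.BilinForm.finrank_orthogonal hnd, hV, hLm]
      omega
  have hyO : y ∈ O := hO y fun x hx => by
    rw [← sympB_apply, ← CentTwo.polar_quadPlus]
    exact hW.le_orthogonal hyW x (hHW hx)
  rw [← heq] at hyO
  obtain ⟨l, hl, z, hz, rfl⟩ := Submodule.mem_sup.1 hyO
  obtain ⟨b, rfl⟩ := Submodule.mem_span_singleton.1 hz
  have e : sympForm m F w l * sympForm m F w l + b * b * quadPlus m F w + b * sympForm m F w l = 0 := by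
    rw [← hW _ hyW, OrthTwo.q_add, OrthTwo.q_smul, OrthTwo.symp_smul_right, hLq l hl, SympTwo.symp_comm l w]
  by_cases hb : b = 0
  · exfalso
    apply hyH
    subst hb
    rw [zero_smul, add_zero]
    refine ⟨hl, LinearMap.mem_ker.2 ?_⟩
    rw [hφ]
    simpa using e
  · refine ⟨sympForm m F w l / b, ?_⟩
    field_simp
    rw [← CharTwo.add_eq_zero]
    linear_combination e

theorem form_transv {Q : 𝕍 → F} (hQ : IsForm Q) (u : 𝕍) (c : F) (v : 𝕍) :
    Q (transv u c v) = Q v + (c * c * Q u + c) * (sympForm m F u v * sympForm m F u v) := by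
  show Q (v + (c * sympB m F u v) • u) = _
  rw [hQ.add, hQ.smul, OrthTwo.symp_smul_right, sympB_apply, SympTwo.symp_comm v u]
  ring

theorem exists_const {x : F} (h : AS x) : ∃ c : F, c * c * x + c = 1 := by
  obtain ⟨d, hd⟩ := h
  by_cases h0 : x = 0
  · exact ⟨1, by simp [h0]⟩
  · refine ⟨d / x, ?_⟩
    field_simp
    linear_combination -hd

theorem plus_tw_iff (w : 𝕍) : Plus (tw w) ↔ AS (quadPlus m F w) := by
  refine ⟨as_of_plus, fun h => ?_⟩
  obtain ⟨c, hc⟩ := exists_const h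
  obtain ⟨L, hLm, hL⟩ := plus_quad (F := F) (m := m)
  have hT : ∀ v, quadPlus m F (transv w c v) = tw w v := fun v => by
    rw [form_transv isForm_quad, hc, one_mul]; rfl
  refine ⟨L.map (transv w c).toLinearMap, ?_, ?_⟩
  · rw [← (LinearEquiv.finrank_eq ((transv w c).submoduleMap L))]; exact hLm
  · rintro _ ⟨x, hx, rfl⟩
    rw [← hT]
    show quadPlus m F (transv w c (transv w c x)) = 0
    rw [CentTwo.transv_transv]
    exact hL x hx

/-- Twisting by a vector with value outside `d ^ 2 + d` changes the type. -/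
theorem plus_twist_iff {Q : 𝕍 → F} (hQ : IsForm Q) {u : 𝕍} (hu : ¬ AS (Q u)) :
    Plus (fun v => Q v + sympForm m F u v * sympForm m F u v) ↔ ¬ Plus Q := by
  obtain ⟨w, hw⟩ := hQ.exists_tw
  have hQe : Q = tw w := funext hw
  subst hQe
  have e : (fun v => tw w v + sympForm m F u v * sympForm m F u v) = tw (w + u) := funext fun v => by
    show quadPlus m F v + _ + _ = quadPlus m F v + _
    rw [symp_add_left]
    linear_combination - sympForm m F w v * sympForm m F u v * CharTwo.two_eq_zero (R := F)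
  rw [e, plus_tw_iff, plus_tw_iff]
  have e2 : quadPlus m F (w + u) =
      quadPlus m F w + (tw w u + (sympForm m F w u * sympForm m F w u + sympForm m F w u)) := by
    rw [OrthTwo.q_add]
    show _ = _ + (quadPlus m F u + _ + _)
    linear_combination -(sympForm m F w u * sympForm m F w u) * CharTwo.two_eq_zero (R := F)
  rw [e2, as_add_iff, as_add_iff, iff_true_right (a := AS (_ * _ + _)) ⟨_, rfl⟩]
  exact ⟨fun h hw => hu (h.1 hw), fun h => iff_of_false h hu⟩

theorem mem_spGL_iff {g : 𝔾} :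
    g ∈ spGL m F ↔ ∀ u v, sympForm m F ((g : 𝕄) *ᵥ u) ((g : 𝕄) *ᵥ v) = sympForm m F u v := Iff.rfl

theorem inv_mulVec_mulVec (g : 𝔾) (v : 𝕍) : ((g⁻¹ : 𝔾) : 𝕄) *ᵥ ((g : 𝕄) *ᵥ v) = v := by
  rw [Matrix.mulVec_mulVec, ← Units.val_mul, inv_mul_cancel, Units.val_one, Matrix.one_mulVec]

theorem mulVec_inv_mulVec (g : 𝔾) (v : 𝕍) : (g : 𝕄) *ᵥ (((g⁻¹ : 𝔾) : 𝕄) *ᵥ v) = v := by
  rw [Matrix.mulVec_mulVec, ← Units.val_mul, mul_inv_cancel, Units.val_one, Matrix.one_mulVec]

theorem IsForm.comp {Q : 𝕍 → F} (hQ : IsForm Q) {g : 𝔾} (hg : g ∈ spGL m F) :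
    IsForm fun v => Q ((g : 𝕄) *ᵥ v) :=
  ⟨fun c v => by
    show Q (_ *ᵥ (c • v)) = _
    rw [Matrix.mulVec_smul, hQ.smul], fun u v => by
    show Q (_ *ᵥ (u + v)) = _
    rw [Matrix.mulVec_add, hQ.add, mem_spGL_iff.1 hg]⟩

theorem plus_comp {Q : 𝕍 → F} (g : 𝔾) : Plus (fun v => Q ((g : 𝕄) *ᵥ v)) ↔ Plus Q := by
  have key : ∀ (Q' : 𝕍 → F) (h : 𝔾), Plus Q' → Plus fun v => Q' ((h : 𝕄) *ᵥ v) := by
    rintro Q' h ⟨L, hLm, hL⟩
    have hinj : Function.Injective (Matrix.toLin' ((h⁻¹ : 𝔾) : 𝕄)) := fun a b e => by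
      simp only [Matrix.toLin'_apply] at e
      simpa [mulVec_inv_mulVec] using congrArg (fun v => (h : 𝕄) *ᵥ v) e
    refine ⟨L.map (Matrix.toLin' ((h⁻¹ : 𝔾) : 𝕄)),
      (Submodule.equivMapOfInjective _ hinj L).finrank_eq.symm.trans hLm, ?_⟩
    rintro _ ⟨x, hx, rfl⟩
    show Q' (_ *ᵥ _) = 0
    rw [Matrix.toLin'_apply, mulVec_inv_mulVec]
    exact hL x hx
  refine ⟨fun h => ?_, key Q g⟩
  have := key _ g⁻¹ h
  simpa only [mulVec_inv_mulVec] using this

/-- Forms of the same type are equivalent under the symplectic group. -/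
theorem exists_equiv {Q Q' : 𝕍 → F} (hQ : IsForm Q) (hQ' : IsForm Q') (h : Plus Q' ↔ Plus Q) :
    ∃ g ∈ spGL m F, ∀ v, Q ((g : 𝕄) *ᵥ v) = Q' v := by
  obtain ⟨w, hw⟩ := hQ.exists_tw
  obtain ⟨w', hw'⟩ := hQ'.exists_tw
  rw [funext hw, funext hw', plus_tw_iff, plus_tw_iff] at h
  have hu : AS (Q (w + w')) := by
    have e : Q (w + w') = quadPlus m F w + quadPlus m F w' +
        (sympForm m F w w' * sympForm m F w w' + sympForm m F w w') := by
      rw [hw]
      show quadPlus m F (w + w') + _ = _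
      rw [OrthTwo.q_add, SympTwo.symp_add_right, SympTwo.symp_self]
      ring
    rw [e]
    exact as_add (as_add_iff.2 h.symm) ⟨_, rfl⟩
  obtain ⟨c, hc⟩ := exists_const hu
  set M : 𝕄 := LinearMap.toMatrix' (transv (w + w') c).toLinearMap
  have hM : ∀ v, M *ᵥ v = transv (w + w') c v := fun v => LinearMap.toMatrix'_mulVec _ v
  have hMM : M * M = 1 := Matrix.mulVec_injective (funext fun v => by
    rw [← Matrix.mulVec_mulVec, hM, hM, CentTwo.transv_transv, Matrix.one_mulVec])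
  have hf := (CentTwo.transv_mem (t := (1 : 𝕄)) (one_mem _) (one_mul 1)
    (w := w + w') (by simp [SympTwo.nil]) c).1
  refine ⟨⟨M, M, hMM, hMM⟩, fun u v => ?_, fun v => ?_⟩
  · show sympForm m F (M *ᵥ u) (M *ᵥ v) = _
    rw [hM, hM]; exact hf u v
  · show Q (M *ᵥ v) = _
    rw [hM, form_transv hQ, hc, one_mul, symp_add_left, hw v, hw' v]
    show quadPlus m F v + _ + _ = quadPlus m F v + _
    linear_combination (sympForm m F w v * sympForm m F w v + sympForm m F w v * sympForm m F w' v) *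
      CharTwo.two_eq_zero (R := F)

theorem plus_top_iff (Q : 𝕍 → F) : Cfsg.Geo.IsPlusTypeOn Q ⊤ ↔ Plus Q := by
  have hV : finrank F (⊤ : Submodule F 𝕍) = 2 * m := by simp [two_mul]
  constructor
  · rintro ⟨U, -, hU, hdim⟩
    exact ⟨U, by omega, hU⟩
  · rintro ⟨U, hUm, hU⟩
    exact ⟨U, le_top, hU, by omega⟩

theorem exists_pair (hm : 1 ≤ m) : ∃ u v : 𝕍, sympForm m F u v ≠ 0 := by
  by_contra! h
  have h0 := congrFun (SympTwo.symp_sep (h (Pi.single (Sum.inl ⟨0, hm⟩) 1))) (Sum.inl ⟨0, hm⟩)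
  simp at h0

theorem scalar_eq_one (hm : 1 ≤ m) {x : 𝔾} (hx : x ∈ spGL m F) {z : F} (h : (x : 𝕄) = z • (1 : 𝕄)) :
    x = 1 := by
  obtain ⟨u, v, huv⟩ := exists_pair (F := F) hm
  have e := mem_spGL_iff.1 hx u v
  rw [h, Matrix.smul_mulVec, Matrix.smul_mulVec, Matrix.one_mulVec, Matrix.one_mulVec,
    OrthTwo.symp_smul_right, SympTwo.symp_comm, OrthTwo.symp_smul_right, SympTwo.symp_comm] at e
  have hz : z = 1 := sq_inj (mul_right_cancel₀ huv (by linear_combination e))
  exact Units.ext (by rw [h, hz, one_smul, Units.val_one])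

/-- A conjugate lies in the similarity group iff a form of the same type is preserved. -/
theorem exists_conj_iff (hm : 1 ≤ m) {Q : 𝕍 → F} (hQ : IsForm Q) {x : 𝔾} (hx : x ∈ spGL m F) :
    (∃ g ∈ spGL m F, g⁻¹ * x * g ∈ Cfsg.Geo.quadSimilarityGroup Q) ↔
      ∃ Q' : 𝕍 → F, IsForm Q' ∧ (Plus Q' ↔ Plus Q) ∧ ∀ v, Q' ((x : 𝕄) *ᵥ v) = Q' v := by
  constructor
  · rintro ⟨g, hg, c, hc⟩
    refine ⟨_, hQ.comp ((spGL m F).inv_mem hg), plus_comp _, ?_⟩
    set y := g⁻¹ * x * g
    have hy : y ∈ spGL m F := mul_mem (mul_mem (inv_mem hg) hx) hg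
    have hc1 : (c : F) = 1 := by
      obtain ⟨u, v, huv⟩ := exists_pair (F := F) hm
      refine mul_right_cancel₀ huv ?_
      have e := hc (u + v)
      rw [Matrix.mulVec_add, hQ.add, hQ.add, hc, hc, mem_spGL_iff.1 hy] at e
      linear_combination -e
    intro v
    have e := hc (((g⁻¹ : 𝔾) : 𝕄) *ᵥ v)
    rw [hc1, one_mul, show y = g⁻¹ * x * g from rfl, Units.val_mul, Units.val_mul, ← Matrix.mulVec_mulVec,
      mulVec_inv_mulVec, ← Matrix.mulVec_mulVec] at e
    exact e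
  · rintro ⟨Q', hQ', hP, hinv⟩
    obtain ⟨g, hg, hgQ⟩ := exists_equiv hQ hQ' hP
    refine ⟨g⁻¹, inv_mem hg, 1, fun v => ?_⟩
    rw [inv_inv, Units.val_one, one_mul, Units.val_mul, Units.val_mul, ← Matrix.mulVec_mulVec,
      ← Matrix.mulVec_mulVec, hgQ, hinv, ← hgQ, mulVec_inv_mulVec]

/-- For an odd prime dividing the index there is an element of that order preserving only forms of the other
type. -/
theorem exists_free (hm : 1 ≤ m) {Q : 𝕍 → F} (hQ : IsForm Q) (r : ℕ) [hr : Fact r.Prime] (hr2 : r ≠ 2)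
    (hΩ : r ∣ (Cfsg.Geo.quadSimilarityGroup Q).relIndex (spGL m F)) :
    ∃ x ∈ spGL m F, x ^ r = 1 ∧ x ≠ 1 ∧
      ∀ Q' : 𝕍 → F, IsForm Q' → (∀ v, Q' ((x : 𝕄) *ᵥ v) = Q' v) → ¬ (Plus Q' ↔ Plus Q) := by
  classical
  haveI : Nonempty (Fin m ⊕ Fin m) := ⟨.inl ⟨0, hm⟩⟩
  obtain ⟨R⟩ : Nonempty (Sylow r ↥(spGL m F)) := inferInstance
  haveI : Fintype ↥(R : Subgroup ↥(spGL m F)) := Fintype.ofFinite _
  let mat : ↥(R : Subgroup ↥(spGL m F)) → 𝕄 := fun k => (k.1.1 : 𝕄)
  have hmat : ∀ j k, mat (j * k) = mat j * mat k := fun j k => rfl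
  have hr1 : (r : F) = 1 := by
    obtain ⟨j, hj⟩ := hr.out.eq_two_or_odd'.resolve_left hr2
    rw [hj]; push_cast; rw [CharTwo.two_eq_zero]; ring
  have hcard : ((Fintype.card ↥(R : Subgroup ↥(spGL m F)) : ℕ) : F) = 1 := by
    obtain ⟨n, hn⟩ := IsPGroup.iff_card.1 R.isPGroup'
    rw [← Nat.card_eq_fintype_card, hn, Nat.cast_pow, hr1, one_pow]
  -- the averaged form
  set Q1 : 𝕍 → F := fun v => ∑ k, quadPlus m F (mat k *ᵥ v) with hQ1d
  have hQ1 : IsForm Q1 := by
    refine ⟨fun c v => ?_, fun u v => ?_⟩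
    · simp only [hQ1d, Matrix.mulVec_smul, OrthTwo.q_smul, Finset.mul_sum]
    · simp only [hQ1d, Matrix.mulVec_add, OrthTwo.q_add, Finset.sum_add_distrib]
      rw [Finset.sum_congr rfl fun k _ => (show sympForm m F (mat k *ᵥ u) (mat k *ᵥ v) = sympForm m F u v from
        mem_spGL_iff.1 k.1.2 u v), Finset.sum_const, Finset.card_univ, ← Nat.cast_smul_eq_nsmul F, hcard, one_smul]
  have hinv : ∀ k v, Q1 (mat k *ᵥ v) = Q1 v := fun k v => by
    refine Fintype.sum_equiv (Equiv.mulRight k) _ _ fun j => ?_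
    rw [Equiv.coe_mulRight, hmat, Matrix.mulVec_mulVec]
  -- no invariant form of the type of `Q`
  have hno : ∀ Q' : 𝕍 → F, IsForm Q' → (∀ k v, Q' (mat k *ᵥ v) = Q' v) → ¬ (Plus Q' ↔ Plus Q) := by
    intro Q' hQ' hinv' hP
    obtain ⟨g, hg, hgQ⟩ := exists_equiv hQ hQ' hP
    have hle : ((R : Subgroup ↥(spGL m F)).map (MulAut.conj (⟨g, hg⟩ : ↥(spGL m F))).toMonoidHom) ≤
        (Cfsg.Geo.quadSimilarityGroup Q).subgroupOf (spGL m F) := by
      rintro _ ⟨k, hk, rfl⟩
      refine ⟨1, fun v => ?_⟩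
      show Q (((g * k.1 * g⁻¹ : 𝔾) : 𝕄) *ᵥ v) = _
      rw [Units.val_one, one_mul, Units.val_mul, Units.val_mul, ← Matrix.mulVec_mulVec, ← Matrix.mulVec_mulVec,
        hgQ, show ((k.1 : 𝔾) : 𝕄) = mat ⟨k, hk⟩ from rfl, hinv', ← hgQ, mulVec_inv_mulVec]
    have h1 := hΩ.trans (Subgroup.index_dvd_of_le hle)
    rw [Subgroup.index_map_of_bijective (MulEquiv.bijective _)] at h1
    exact R.not_dvd_index h1
  have hfix : ∀ v, Q1 v = 1 → ∃ k, mat k *ᵥ v ≠ v := by
    intro v hv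
    by_contra! hf
    obtain ⟨a, ha⟩ := exists_not_as (F := F)
    obtain ⟨s, hs⟩ := SympTwo.exists_sqrt a
    have hu : ¬ AS (Q1 (s • v)) := by rw [hQ1.smul, hv, mul_one, ← hs]; exact ha
    by_cases hP : (Plus Q1 ↔ Plus Q)
    · exact hno Q1 hQ1 hinv hP
    · refine hno _ (hQ1.twist (s • v)) (fun k x => ?_) ((plus_twist_iff hQ1 hu).trans ?_)
      · show Q1 (mat k *ᵥ x) + _ = Q1 x + _
        rw [hinv]
        conv_lhs => rw [show s • v = mat k *ᵥ (s • v) by rw [Matrix.mulVec_smul, hf]]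
        rw [show sympForm m F (mat k *ᵥ (s • v)) (mat k *ᵥ x) = sympForm m F (s • v) x from
          mem_spGL_iff.1 k.1.2 _ _]
      · tauto
  obtain ⟨q, hq, hqn⟩ := exists_quad hQ1
  have hdiv : r ∣ Nat.card {v : 𝕍 // q v = 1} := by
    letI : MulAction ↥(R : Subgroup ↥(spGL m F)) {v : 𝕍 // q v = 1} :=
      { smul := fun k v => ⟨mat k *ᵥ v.1, by have h := hinv k v.1; rw [← hq] at h; exact h.trans v.2⟩
        one_smul := fun v => Subtype.ext (Matrix.one_mulVec v.1)
        mul_smul := fun j k v => Subtype.ext (by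
          show mat (j * k) *ᵥ v.1 = mat j *ᵥ (mat k *ᵥ v.1)
          rw [hmat, Matrix.mulVec_mulVec]) }
    have h := R.isPGroup'.card_modEq_card_fixedPoints {v : 𝕍 // q v = 1}
    have h0 : Nat.card (MulAction.fixedPoints ↥(R : Subgroup ↥(spGL m F)) {v : 𝕍 // q v = 1}) = 0 := by
      haveI : IsEmpty (MulAction.fixedPoints ↥(R : Subgroup ↥(spGL m F)) {v : 𝕍 // q v = 1}) := ⟨fun p => by
        obtain ⟨k, hk⟩ := hfix p.1.1 (by rw [← hq]; exact p.1.2)
        exact hk (congrArg Subtype.val (p.2 k))⟩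
      exact Nat.card_of_isEmpty
    rw [h0] at h
    exact Nat.modEq_zero_iff_dvd.1 h
  obtain ⟨g, hgr, hgfix⟩ := FixedNonsingular.exists_order_free q Q1 hq.symm hqn r hr2
    (by rw [← hq, FixedNonsingular.card_lines q]; exact hdiv)
  have hiso : ∀ v, Q1 ((g.1 : 𝕄) *ᵥ v) = Q1 v := fun v => g.2 v 0
  have hsp : g.1 ∈ spGL m F := fun u v => by
    show sympForm m F ((g.1 : 𝕄) *ᵥ u) ((g.1 : 𝕄) *ᵥ v) = _
    have e := hQ1.add ((g.1 : 𝕄) *ᵥ u) ((g.1 : 𝕄) *ᵥ v)
    rw [← Matrix.mulVec_add, hiso, hiso, hiso, hQ1.add] at e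
    linear_combination -e
  have hxr : g.1 ^ r = 1 := by rw [← SubmonoidClass.coe_pow, ← hgr, pow_orderOf_eq_one]; rfl
  -- no fixed vector
  have hfree : ∀ v, (g.1 : 𝕄) *ᵥ v = v → v = 0 := by
    intro v hv
    refine SympTwo.symp_sep fun y => ?_
    set A : 𝕄 := (g.1 : 𝕄)
    have hAr : A ^ r = 1 := by rw [← Units.val_pow_eq_pow_val, hxr, Units.val_one]
    set y' := ∑ i ∈ Finset.range r, A ^ i *ᵥ y with hy'
    have hAy : A *ᵥ y' = y' := by
      have h1 := Finset.sum_range_succ' (fun i => A ^ i *ᵥ y) r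
      have h2 := Finset.sum_range_succ (fun i => A ^ i *ᵥ y) r
      rw [h2, hAr, pow_zero] at h1
      rw [hy', Matrix.mulVec_sum]
      simp only [Matrix.mulVec_mulVec, ← pow_succ']
      exact add_right_cancel h1.symm
    have hi : ∀ i, sympForm m F v (A ^ i *ᵥ y) = sympForm m F v y := fun i => by
      induction i with
      | zero => rw [pow_zero, Matrix.one_mulVec]
      | succ i ih =>
        rw [pow_succ', ← Matrix.mulVec_mulVec]
        conv_lhs => rw [← hv]
        rw [show sympForm m F (A *ᵥ v) (A *ᵥ (A ^ i *ᵥ y)) = sympForm m F v (A ^ i *ᵥ y) from hsp _ _, ih]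
    have hvy : sympForm m F v y' = sympForm m F v y := by
      rw [hy', ← sympB_apply, map_sum, Finset.sum_congr rfl fun i _ => (sympB_apply v _).trans (hi i),
        Finset.sum_const, Finset.card_range, ← Nat.cast_smul_eq_nsmul F, hr1, one_smul]
    have e := hQ1.add v y'
    rw [hgfix _ (by rw [Matrix.mulVec_add, hv, hAy]), hgfix _ hv, hgfix _ hAy, hvy, zero_add, zero_add] at e
    exact e.symm
  refine ⟨g.1, hsp, hxr, fun e => ?_, fun Q' hQ' hinv' => ?_⟩
  · have : g = 1 := Subtype.ext e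
    rw [this, orderOf_one] at hgr
    exact hr.out.one_lt.ne hgr
  -- the only invariant form
  obtain ⟨w, hw⟩ := hQ'.exists_tw
  obtain ⟨w1, hw1⟩ := hQ1.exists_tw
  have hww : w + w1 = 0 := by
    refine hfree _ (eq_of_add_eq_zero (SympTwo.symp_sep fun v => ?_))
    obtain ⟨v, rfl⟩ : ∃ v', (g.1 : 𝕄) *ᵥ v' = v := ⟨_, mulVec_inv_mulVec g.1 v⟩
    rw [symp_add_left, mem_spGL_iff.1 hsp]
    refine CharTwo.add_eq_zero.2 (sq_inj ?_)
    have e1 := hinv' v
    have e2 := hiso v
    rw [hw, hw] at e1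
    rw [hw1, hw1] at e2
    simp only [tw] at e1 e2
    rw [symp_add_left, symp_add_left]
    linear_combination -e1 - e2 + (sympForm m F w v * sympForm m F w1 v -
      sympForm m F w ((g.1 : 𝕄) *ᵥ v) * sympForm m F w1 ((g.1 : 𝕄) *ᵥ v) + quadPlus m F ((g.1 : 𝕄) *ᵥ v) -
      quadPlus m F v) * CharTwo.two_eq_zero (R := F)
  have e : Q' = Q1 := funext fun v => by rw [hw, hw1, eq_of_add_eq_zero hww]
  rw [e]
  exact hno Q1 hQ1 hinv

/-- Every involution preserves a plus type form, not vanishing on all fixed vectors in odd degree. -/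
theorem exists_plus_invariant (hm : 1 ≤ m) {x : 𝔾} (hx : x ∈ spGL m F) (hsq : (x : 𝕄) * x = 1) (h1 : x ≠ 1) :
    ∃ Qp : 𝕍 → F, IsForm Qp ∧ Plus Qp ∧ (∀ v, Qp ((x : 𝕄) *ᵥ v) = Qp v) ∧
      (Odd m → ∃ u, (x : 𝕄) *ᵥ u = u ∧ Qp u ≠ 0) := by
  classical
  have hmem : (x : 𝕄) ∈ Matrix.symplecticGroup (Fin m) F := mem_symplecticGroup_iff_form.2 hx
  have hle := InvolTwoCount.rank_le hsq
  have hge := InvolTwoCount.one_le_rank (a := (x : 𝕄)) fun e => h1 (Units.ext e)
  obtain ⟨b, hbsq, hbQ, hr, ht, hu⟩ : ∃ b : 𝕄, b * b = 1 ∧ (∀ v, quadPlus m F (b *ᵥ v) = quadPlus m F v) ∧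
      ((x : 𝕄) - 1).rank = (b - 1).rank ∧
      ((∀ v, SympTwo.form (x : 𝕄) v v = 0) ↔ ∀ v, SympTwo.form b v v = 0) ∧
      (Odd m → ∃ u, b *ᵥ u = u ∧ quadPlus m F u ≠ 0) := by
    by_cases halt : ∀ v, SympTwo.form (x : 𝕄) v v = 0
    · obtain ⟨j, hj⟩ := SympTwo.even_rank hmem hsq halt
      have hk : 2 * j ≤ m := by omega
      refine ⟨_, InvolTwoCount.permMat_mul_self (InvolTwoCount.swapPairs_involutive hk),
        InvolTwoCount.quad_swapPairs hk, by rw [InvolTwoCount.rank_swapPairs]; exact hj,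
        iff_of_true halt (InvolTwoCount.swapPairs_alt hk), fun hodd => ?_⟩
      obtain ⟨l, hl⟩ := hodd
      set i : Fin m := ⟨m - 1, by omega⟩
      have hfix : nbr hk i = i := Fin.ext (by rw [InvolTwoCount.nbr_val, if_neg (by show ¬ m - 1 < 2 * j; omega)])
      refine ⟨fun t => if Sum.elim id id t = i then 1 else 0, ?_, ?_⟩
      · rw [InvolTwoCount.permMat_mulVec]
        funext t
        have hiff : ∀ a, nbr hk a = i ↔ a = i := fun a =>
          ⟨fun e => (InvolTwoCount.nbr_involutive hk).injective (e.trans hfix.symm), fun e => e ▸ hfix⟩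
        rcases t with t | t <;> simp [swapPairs, hiff] <;> exact if_congr Iff.rfl rfl rfl
      · rw [quadPlus_apply, quadFormPlus, Finset.sum_eq_single i (fun a _ ha => by simp [ha]) (by simp)]
        simp
    · obtain ⟨k, hk⟩ : ∃ k, ((x : 𝕄) - 1).rank = k := ⟨_, rfl⟩
      have hb : ¬ ∀ v, SympTwo.form (permMat (swapXY (m := m) k) : 𝕄) v v = 0 :=
        InvolTwoCount.swapXY_not_alt (by omega) hm
      refine ⟨_, InvolTwoCount.permMat_mul_self (InvolTwoCount.swapXY_involutive k),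
        InvolTwoCount.quad_swapXY k, by rw [InvolTwoCount.rank_swapXY (by omega)]; exact hk,
        iff_of_false halt hb, fun _ => ?_⟩
      push Not at hb
      obtain ⟨v, hv⟩ := hb
      refine ⟨SympTwo.nil _ v, ?_, by rwa [OrthTwo.q_nil (InvolTwoCount.quad_swapXY k)]⟩
      have e := SympTwo.nil_nil (InvolTwoCount.permMat_mul_self (InvolTwoCount.swapXY_involutive (m := m) k)) v
      rwa [SympTwo.nil_apply, sub_eq_zero] at e
  obtain ⟨A, hA⟩ := SympTwo.exists_conj hmem hsq (OrthTwo.mem_symp_of_isom hbQ) hbsq hr ht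
  set g : 𝔾 := (spEquivPreserving m F A).1
  have hg : g ∈ spGL m F := (spEquivPreserving m F A).2
  have hgA : (g : 𝕄) = A.1 := rfl
  refine ⟨_, isForm_quad.comp hg, (plus_comp g).2 plus_quad, fun v => ?_, fun hodd => ?_⟩
  · show quadPlus m F ((g : 𝕄) *ᵥ _) = quadPlus m F ((g : 𝕄) *ᵥ v)
    rw [hgA, Matrix.mulVec_mulVec, hA, ← Matrix.mulVec_mulVec, hbQ]
  · obtain ⟨u, hbu, hu0⟩ := hu hodd
    refine ⟨((g⁻¹ : 𝔾) : 𝕄) *ᵥ u, ?_, ?_⟩
    · have e : (g : 𝕄) *ᵥ ((x : 𝕄) *ᵥ (((g⁻¹ : 𝔾) : 𝕄) *ᵥ u)) = u := by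
        rw [Matrix.mulVec_mulVec _ _ (x : 𝕄), hgA, hA, ← Matrix.mulVec_mulVec, ← hgA, mulVec_inv_mulVec, hbu]
      conv_rhs => rw [← e, inv_mulVec_mulVec]
    · show quadPlus m F ((g : 𝕄) *ᵥ _) ≠ 0
      rw [mulVec_inv_mulVec]; exact hu0

/-- In even degree some involution preserves forms of plus type only. -/
theorem exists_plus_only (hm : 1 ≤ m) (heven : Even m) :
    ∃ x ∈ spGL m F, x ^ 2 = 1 ∧ x ≠ 1 ∧
      ∀ Q' : 𝕍 → F, IsForm Q' → (∀ v, Q' ((x : 𝕄) *ᵥ v) = Q' v) → Plus Q' := by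
  classical
  obtain ⟨k, hk⟩ := heven
  have h2 : 2 * k ≤ m := by omega
  set b : 𝕄 := permMat (swapPairs (m := m) h2) with hbdef
  have hbb : b * b = 1 := InvolTwoCount.permMat_mul_self (InvolTwoCount.swapPairs_involutive h2)
  have hbQ : ∀ v, quadPlus m F (b *ᵥ v) = quadPlus m F v := InvolTwoCount.quad_swapPairs h2
  have hbf : ∀ u v, sympForm m F (b *ᵥ u) (b *ᵥ v) = sympForm m F u v :=
    mem_symplecticGroup_iff_form.1 (OrthTwo.mem_symp_of_isom hbQ)
  refine ⟨⟨b, b, hbb, hbb⟩, hbf, Units.ext (by rw [pow_two]; exact hbb), fun e => ?_, fun Q' hQ' hinv => ?_⟩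
  · have h0 := congrArg (fun y : 𝔾 => ((y : 𝕄) - 1).rank) e
    simp only [Units.val_one, sub_self, Matrix.rank_zero] at h0
    rw [hbdef, InvolTwoCount.rank_swapPairs] at h0
    omega
  obtain ⟨w, hw⟩ := hQ'.exists_tw
  have hbw : b *ᵥ w = w := by
    refine eq_of_add_eq_zero (SympTwo.symp_sep fun v => ?_)
    have e := hinv (b *ᵥ v)
    rw [show ((⟨b, b, hbb, hbb⟩ : 𝔾) : 𝕄) = b from rfl, Matrix.mulVec_mulVec, hbb, Matrix.one_mulVec, hw, hw] at e
    simp only [tw] at e
    rw [hbQ, add_right_inj] at e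
    rw [symp_add_left, ← hbf (b *ᵥ w) v, Matrix.mulVec_mulVec, hbb, Matrix.one_mulVec, ← sq_inj e,
      CharTwo.add_self_eq_zero]
  rw [funext hw, plus_tw_iff]
  refine ⟨0, ?_⟩
  rw [hbdef, InvolTwoCount.permMat_mulVec] at hbw
  rw [quadPlus_apply, quadFormPlus, mul_zero, add_zero]
  refine Finset.sum_involution (fun i _ => nbr h2 i) (fun i _ => ?_) (fun i _ _ => ?_) (fun i _ => Finset.mem_univ _)
    fun i _ => InvolTwoCount.nbr_involutive h2 i
  · have hl := congrFun hbw (.inl i)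
    have hr := congrFun hbw (.inr i)
    simp only [Function.comp_apply, swapPairs, Sum.map_inl, Sum.map_inr] at hl hr
    rw [hl, hr, CharTwo.add_self_eq_zero]
  · intro e
    have := congrArg Fin.val e
    rw [InvolTwoCount.nbr_val] at this
    have := i.2
    split_ifs at * <;> omega

end Cfsg.Agent.Forms.SympOrthCover
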