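/-
An element of the symplectic group whose square is `±1` permutes `d` orthogonal hyperbolic planes; consequences for
orthogonal decompositions into equal parts.
-/
import Cfsg.Agent.Lib.Forms.SympTwo
import Cfsg.Agent.Lib.Forms.InvolTwoCount
import Cfsg.Agent.Lib.Forms.OrthTwo
import Cfsg.Agent.Lib.Forms.SympInvolution
import Cfsg.Prelude.Def_GeometricClasses

set_option autoImplicit false
set_option linter.unusedSectionVars false

namespace Cfsg.Agent.Forms.SympPlanes

open scoped Matrix
open Module (finrank)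
open SympInvolution (IsFrame)
open InvolTwoCount (permMat swapXY swapPairs nbr)

/-- An involution of a finite set of size `h t` permutes the fibres of some map onto `t` classes of size `h`. -/
theorem exists_blocks {ι : Type*} [LinearOrder ι] {π : ι → ι} (hπ : Function.Involutive π) {h : ℕ} (hh : 0 < h) :
    ∀ (t : ℕ) (S : Finset ι), S.card = h * t → (∀ i ∈ S, π i ∈ S) →
      ∃ φ : ι → ℕ, (∀ i ∈ S, φ i < t) ∧ (∀ l < t, (S.filter fun i => φ i = l).card = h) ∧
        ∀ i ∈ S, ∀ j ∈ S, φ i = φ j → φ (π i) = φ (π j) := by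
  intro t
  induction t using Nat.strong_induction_on with
  | _ t ih =>
  intro S hS hinv
  rcases Nat.eq_zero_or_pos t with rfl | ht
  · exact ⟨fun _ => 0, fun i hi => absurd (Finset.card_pos.2 ⟨i, hi⟩) (by omega), fun l hl => absurd hl (by omega),
      fun _ _ _ _ _ => rfl⟩
  classical
  set R := S.filter fun i => i < π i
  set X := S.filter fun i => π i = i
  have hRS : ∀ i ∈ R, i ∈ S := fun i hi => (Finset.mem_filter.1 hi).1
  have hdis : ∀ A : Finset ι, A ⊆ R → Disjoint A (A.image π) := fun A hA => by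
    refine Finset.disjoint_left.2 fun i hi hi' => ?_
    obtain ⟨j, hj, rfl⟩ := Finset.mem_image.1 hi'
    have h1 := (Finset.mem_filter.1 (hA hj)).2
    have h2 := (Finset.mem_filter.1 (hA hi)).2
    rw [hπ j] at h2
    exact lt_asymm h1 h2
  have hpart : S = (R ∪ R.image π) ∪ X := by
    ext i
    simp only [R, X, Finset.mem_union, Finset.mem_filter, Finset.mem_image]
    constructor
    · intro hi
      rcases lt_trichotomy i (π i) with h1 | h1 | h1
      · exact Or.inl (Or.inl ⟨hi, h1⟩)
      · exact Or.inr ⟨hi, h1.symm⟩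
      · exact Or.inl (Or.inr ⟨π i, ⟨hinv i hi, by rwa [hπ i]⟩, hπ i⟩)
    · rintro ((⟨hi, -⟩ | ⟨j, ⟨hj, -⟩, rfl⟩) | ⟨hi, -⟩)
      exacts [hi, hinv j hj, hi]
  have hXdis : Disjoint (R ∪ R.image π) X := by
    refine Finset.disjoint_left.2 fun i hi hx => ?_
    have hfix := (Finset.mem_filter.1 hx).2
    rcases Finset.mem_union.1 hi with h1 | h1
    · exact (ne_of_lt (Finset.mem_filter.1 h1).2) hfix.symm
    · obtain ⟨j, hj, rfl⟩ := Finset.mem_image.1 h1
      rw [hπ j] at hfix
      exact (ne_of_lt (Finset.mem_filter.1 hj).2) hfix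
  have hcard : S.card = 2 * R.card + X.card := by
    conv_lhs => rw [hpart]
    rw [Finset.card_union_of_disjoint hXdis, Finset.card_union_of_disjoint (hdis R subset_rfl),
      Finset.card_image_of_injective _ hπ.injective, two_mul]
  by_cases hR : h ≤ R.card
  · -- two blocks swapped
    obtain ⟨A, hAR, hA⟩ := Finset.exists_subset_card_eq hR
    have ht2 : 2 ≤ t := by
      by_contra hlt
      have : t = 1 := by omega
      subst this
      omega
    have hAS : A ∪ A.image π ⊆ S := Finset.union_subset (fun i hi => hRS i (hAR hi)) fun i hi => by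
      obtain ⟨j, hj, rfl⟩ := Finset.mem_image.1 hi
      exact hinv j (hRS j (hAR hj))
    have hmem : ∀ i, i ∈ A ∪ A.image π ↔ π i ∈ A ∪ A.image π := fun i => by
      simp only [Finset.mem_union, Finset.mem_image]
      constructor
      · rintro (hi | ⟨j, hj, rfl⟩)
        · exact Or.inr ⟨i, hi, rfl⟩
        · exact Or.inl (by rwa [hπ j])
      · rintro (hi | ⟨j, hj, hji⟩)
        · exact Or.inr ⟨π i, hi, hπ i⟩
        · exact Or.inl (hπ.injective hji ▸ hj)
    have himg : ∀ i, π i ∈ A ↔ i ∈ A.image π := fun i => by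
      simp only [Finset.mem_image]
      exact ⟨fun hi => ⟨π i, hi, hπ i⟩, by rintro ⟨j, hj, rfl⟩; rwa [hπ j]⟩
    obtain ⟨φ, hlt, hfib, hcon⟩ := ih (t - 2) (by omega) (S \ (A ∪ A.image π)) (by
      rw [Finset.card_sdiff_of_subset hAS, Finset.card_union_of_disjoint (hdis A hAR),
        Finset.card_image_of_injective _ hπ.injective, hA, hS, Nat.mul_sub, mul_two]) (fun i hi => by
      rw [Finset.mem_sdiff] at hi ⊢
      exact ⟨hinv i hi.1, fun hh' => hi.2 ((hmem i).2 hh')⟩)
    refine ⟨fun i => if i ∈ A then t - 1 else if i ∈ A.image π then t - 2 else φ i, fun i hi => ?_, fun l hl => ?_,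
      fun i hi j hj => ?_⟩
    · have := hlt i
      simp only [Finset.mem_sdiff, Finset.mem_union] at this
      by_cases h1 : i ∈ A <;> by_cases h2 : i ∈ A.image π <;> simp only [h1, h2, if_true, if_false] <;>
        first | omega | (have := this ⟨hi, by tauto⟩; omega)
    · have hd := Finset.disjoint_left.1 (hdis A hAR)
      by_cases hl1 : l = t - 1
      · rw [← hA]
        congr 1
        ext i
        simp only [Finset.mem_filter]
        refine ⟨fun hh' => ?_, fun hi => ⟨hRS i (hAR hi), by rw [if_pos hi, hl1]⟩⟩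
        by_contra h1
        rw [if_neg h1] at hh'
        by_cases h2 : i ∈ A.image π
        · rw [if_pos h2] at hh'; omega
        · rw [if_neg h2] at hh'
          have := hlt i (Finset.mem_sdiff.2 ⟨hh'.1, by simp only [Finset.mem_union]; tauto⟩)
          omega
      · by_cases hl2 : l = t - 2
        · rw [← hA, ← Finset.card_image_of_injective A hπ.injective]
          congr 1
          ext i
          simp only [Finset.mem_filter]
          refine ⟨fun hh' => ?_, fun hi => ⟨hAS (Finset.mem_union_right _ hi),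
            by rw [if_neg (fun h1 => hd h1 hi), if_pos hi, hl2]⟩⟩
          by_cases h1 : i ∈ A
          · rw [if_pos h1] at hh'; omega
          by_contra h2
          rw [if_neg h1, if_neg h2] at hh'
          have := hlt i (Finset.mem_sdiff.2 ⟨hh'.1, by simp only [Finset.mem_union]; tauto⟩)
          omega
        · rw [← hfib l (by omega)]
          congr 1
          ext i
          simp only [Finset.mem_filter, Finset.mem_sdiff, Finset.mem_union]
          by_cases h1 : i ∈ A
          · simp [h1, Ne.symm hl1]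
          by_cases h2 : i ∈ A.image π
          · simp only [h1, h2, if_true, if_false]; constructor <;> intro hh' <;> first | omega | tauto
          · simp only [h1, h2, if_false]; tauto
    · simp only [himg, show ∀ k, π k ∈ A.image π ↔ k ∈ A from fun k => by rw [← himg, hπ k]]
      intro he
      by_cases h1 : i ∈ A
      · by_cases h1' : j ∈ A
        · simp [h1, h1', fun h2 => Finset.disjoint_left.1 (hdis A hAR) h1 h2,
            fun h2 => Finset.disjoint_left.1 (hdis A hAR) h1' h2]
        · exfalso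
          rw [if_pos h1, if_neg h1'] at he
          by_cases h2 : j ∈ A.image π
          · rw [if_pos h2] at he; omega
          · rw [if_neg h2] at he
            have := hlt j (Finset.mem_sdiff.2 ⟨hj, by simp only [Finset.mem_union]; tauto⟩)
            omega
      by_cases h1' : j ∈ A
      · exfalso
        rw [if_neg h1, if_pos h1'] at he
        by_cases h2 : i ∈ A.image π
        · rw [if_pos h2] at he; omega
        · rw [if_neg h2] at he
          have := hlt i (Finset.mem_sdiff.2 ⟨hi, by simp only [Finset.mem_union]; tauto⟩)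
          omega
      by_cases h2 : i ∈ A.image π
      · by_cases h2' : j ∈ A.image π
        · rw [if_pos h2, if_pos h2']
        · exfalso
          rw [if_neg h1, if_pos h2, if_neg h1', if_neg h2'] at he
          have := hlt j (Finset.mem_sdiff.2 ⟨hj, by simp only [Finset.mem_union]; tauto⟩)
          omega
      by_cases h2' : j ∈ A.image π
      · exfalso
        rw [if_neg h1, if_neg h2, if_neg h1', if_pos h2'] at he
        have := hlt i (Finset.mem_sdiff.2 ⟨hi, by simp only [Finset.mem_union]; tauto⟩)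
        omega
      simp only [h1, h1', h2, h2', if_false] at he ⊢
      exact hcon i (Finset.mem_sdiff.2 ⟨hi, by simp only [Finset.mem_union]; tauto⟩)
        j (Finset.mem_sdiff.2 ⟨hj, by simp only [Finset.mem_union]; tauto⟩) he
  · -- one invariant block
    push Not at hR
    have hj : min R.card (h / 2) ≤ R.card := Nat.min_le_left _ _
    obtain ⟨R', hR', hR'c⟩ := Finset.exists_subset_card_eq hj
    have hXle : h - 2 * min R.card (h / 2) ≤ X.card := by
      rcases (show t = 1 ∨ 2 ≤ t by omega) with rfl | ht2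
      · omega
      · have : h * 2 ≤ h * t := Nat.mul_le_mul_left h ht2
        omega
    obtain ⟨X', hX', hX'c⟩ := Finset.exists_subset_card_eq hXle
    set T := (R' ∪ R'.image π) ∪ X'
    have hTd : Disjoint (R' ∪ R'.image π) X' :=
      hXdis.mono (Finset.union_subset_union hR' (Finset.image_subset_image hR')) hX'
    have hTc : T.card = h := by
      rw [Finset.card_union_of_disjoint hTd, Finset.card_union_of_disjoint (hdis R' hR'),
        Finset.card_image_of_injective _ hπ.injective, hR'c, hX'c]
      omega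
    have hTS : T ⊆ S := by
      conv_rhs => rw [hpart]
      exact Finset.union_subset_union (Finset.union_subset_union hR' (Finset.image_subset_image hR')) hX'
    have hTinv : ∀ i, i ∈ T → π i ∈ T := fun i hi => by
      simp only [T, Finset.mem_union, Finset.mem_image] at hi ⊢
      rcases hi with (hi | ⟨j, hj, rfl⟩) | hi
      · exact Or.inl (Or.inr ⟨i, hi, rfl⟩)
      · exact Or.inl (Or.inl (by rwa [hπ j]))
      · exact Or.inr (by rwa [(Finset.mem_filter.1 (hX' hi)).2])
    have hTiff : ∀ i, π i ∈ T ↔ i ∈ T := fun i => ⟨fun hi => hπ i ▸ hTinv _ hi, hTinv i⟩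
    obtain ⟨φ, hlt, hfib, hcon⟩ := ih (t - 1) (by omega) (S \ T) (by
      rw [Finset.card_sdiff_of_subset hTS, hTc, hS, Nat.mul_sub, mul_one]) (fun i hi => by
      rw [Finset.mem_sdiff] at hi ⊢
      exact ⟨hinv i hi.1, fun hh' => hi.2 ((hTiff i).1 hh')⟩)
    refine ⟨fun i => if i ∈ T then t - 1 else φ i, fun i hi => ?_, fun l hl => ?_, fun i hi j hj => ?_⟩
    · by_cases h1 : i ∈ T
      · simp only [h1, if_true]; omega
      · simp only [h1, if_false]
        have := hlt i (Finset.mem_sdiff.2 ⟨hi, h1⟩); omega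
    · by_cases hl1 : l = t - 1
      · rw [← hTc]
        congr 1
        ext i
        simp only [Finset.mem_filter]
        refine ⟨fun hh' => ?_, fun hi => ⟨hTS hi, by rw [if_pos hi, hl1]⟩⟩
        by_contra h1
        rw [if_neg h1] at hh'
        have := hlt i (Finset.mem_sdiff.2 ⟨hh'.1, h1⟩)
        omega
      · rw [← hfib l (by omega)]
        congr 1
        ext i
        simp only [Finset.mem_filter, Finset.mem_sdiff]
        by_cases h1 : i ∈ T
        · simp [h1, Ne.symm hl1]
        · simp [h1]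
    · simp only [hTiff]
      intro he
      by_cases h1 : i ∈ T <;> by_cases h2 : j ∈ T
      · simp [h1, h2]
      · exfalso
        rw [if_pos h1, if_neg h2] at he
        have := hlt j (Finset.mem_sdiff.2 ⟨hj, h2⟩); omega
      · exfalso
        rw [if_neg h1, if_pos h2] at he
        have := hlt i (Finset.mem_sdiff.2 ⟨hi, h1⟩); omega
      · simp only [h1, h2, if_false] at he ⊢
        exact hcon i (Finset.mem_sdiff.2 ⟨hi, h1⟩) j (Finset.mem_sdiff.2 ⟨hj, h2⟩) he

variable {F : Type*} [Field F] [Fintype F] {d : ℕ}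

local notation "𝕍" => Fin d ⊕ Fin d → F
local notation "𝕄" => Matrix (Fin d ⊕ Fin d) (Fin d ⊕ Fin d) F

/-- The plane of a coordinate. -/
def plane : Fin d ⊕ Fin d → Fin d := Sum.elim id id

set_option maxHeartbeats 1000000 in
/-- `x` is conjugate to a matrix permuting the coordinate planes by an involution. -/
theorem exists_planes (x : ↥(Matrix.symplecticGroup (Fin d) F)) {z : F} (hz : z = 1 ∨ z = -1)
    (hsq : (x : 𝕄) * x = z • (1 : 𝕄)) :
    ∃ (A : ↥(Matrix.symplecticGroup (Fin d) F)) (π : Fin d → Fin d) (y : 𝕄), Function.Involutive π ∧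
      (∀ r c, y r c ≠ 0 → plane c = π (plane r)) ∧ (A : 𝕄) * x = y * A := by
  classical
  by_cases h2 : (2 : F) = 0
  · haveI : CharP F 2 := CharTwo.of_one_ne_zero_of_two_eq_zero one_ne_zero h2
    have hz1 : z = 1 := hz.elim id fun h => h.trans (CharTwo.neg_eq _)
    rw [hz1, one_smul] at hsq
    have hle := InvolTwoCount.rank_le hsq
    have hperm : ∀ (σ : Fin d ⊕ Fin d → Fin d ⊕ Fin d) r c,
        (permMat σ : 𝕄) r c ≠ 0 → c = σ r := fun σ r c hne => by
      by_contra hc
      exact hne (by simp [permMat, Matrix.of_apply, Ne.symm hc, hc])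
    by_cases halt : ∀ v, SympTwo.form (x : 𝕄) v v = 0
    · obtain ⟨j, hj⟩ := SympTwo.even_rank x.2 hsq halt
      have hk : 2 * j ≤ d := by omega
      obtain ⟨A, hA⟩ := SympTwo.exists_conj x.2 hsq
        (OrthTwo.mem_symp_of_isom (InvolTwoCount.quad_swapPairs hk))
        (InvolTwoCount.permMat_mul_self (InvolTwoCount.swapPairs_involutive hk))
        (by rw [InvolTwoCount.rank_swapPairs]; exact hj) (iff_of_true halt (InvolTwoCount.swapPairs_alt hk))
      refine ⟨A, nbr hk, _, InvolTwoCount.nbr_involutive hk, fun r c hne => ?_, hA⟩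
      rw [hperm _ r c hne]
      rcases r with r | r <;> rfl
    · have hne : (x : 𝕄) ≠ 1 := fun e => halt fun v => by
        rw [SympTwo.form_self, e, Matrix.one_mulVec, SympTwo.symp_self]
      have hge := InvolTwoCount.one_le_rank hne
      obtain ⟨A, hA⟩ := SympTwo.exists_conj x.2 hsq
        (OrthTwo.mem_symp_of_isom (InvolTwoCount.quad_swapXY ((x : 𝕄) - 1).rank))
        (InvolTwoCount.permMat_mul_self (InvolTwoCount.swapXY_involutive _))
        (by rw [InvolTwoCount.rank_swapXY hle]) (iff_of_false halt (InvolTwoCount.swapXY_not_alt hge (by omega)))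
      refine ⟨A, id, _, fun _ => rfl, fun r c hne' => ?_, hA⟩
      rw [hperm _ r c hne']
      rcases r with r | r <;> by_cases hr : r.val < ((x : 𝕄) - 1).rank <;> simp [swapXY, plane, hr]
  · have hV : finrank F 𝕍 = 2 * d := by simp [two_mul]
    set X : 𝕍 ≃ₗ[F] 𝕍 := (spEquiv d F x).1
    have hXa : ∀ a, X a = (x : 𝕄) *ᵥ a := fun a => spEquiv_apply x a
    have hX : ∀ a b, sympB d F (X a) (X b) = sympB d F a b := fun a b => by
      rw [hXa, hXa, sympB_apply, sympB_apply]; exact mem_symplecticGroup_iff_form.1 x.2 a b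
    have hXX : ∀ a, X (X a) = z • a := fun a => by
      rw [hXa, hXa, Matrix.mulVec_mulVec, hsq, Matrix.smul_mulVec, Matrix.one_mulVec]
    obtain ⟨u, v, hf, hpl⟩ : ∃ u v : Fin d → 𝕍, IsFrame (sympB d F) u v ∧ ∀ i, (∃ α β : F, X (u i) = α • u i + β • v i) ∧
        ∃ α β : F, X (v i) = α • u i + β • v i := by
      rcases hz with rfl | rfl
      · obtain ⟨u, v, s, hf, hs⟩ := SympInvolution.exists_frame_involution hV (sympB_isAlt d) (sympB_nondegenerate d)
          h2 X hX (fun a => by rw [hXX, one_smul]) d le_rfl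
        exact ⟨u, v, hf, fun i => ⟨⟨if s i then 1 else -1, 0, by rw [(hs i).1, zero_smul, add_zero]⟩,
          0, if s i then 1 else -1, by rw [(hs i).2, zero_smul, zero_add]⟩⟩
      · obtain ⟨u, v, hf, hs⟩ := SympInvolution.exists_frame_complex hV (sympB_isAlt d) (sympB_nondegenerate d)
          h2 X hX (fun a => by rw [hXX, neg_one_smul]) d le_rfl
        exact ⟨u, v, hf, fun i => ⟨⟨0, 1, by rw [(hs i).1, zero_smul, zero_add, one_smul]⟩,
          -1, 0, by rw [(hs i).2, zero_smul, add_zero, neg_one_smul]⟩⟩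
    set e : Fin d ⊕ Fin d → 𝕍 := fun c => Pi.single c 1
    have hstd : IsFrame (sympB d F) (fun i => e (.inr i)) (fun i => e (.inl i)) := by
      refine ⟨fun i j => ?_, fun i j => ?_, fun i j => ?_⟩ <;>
        rw [sympB_apply, sympForm_eq_sum] <;> simp [e, Pi.single_apply, eq_comm]
    have hgram : ∀ i j, sympForm d F (Sum.elim (fun i => e (.inr i)) (fun i => e (.inl i)) i)
        (Sum.elim (fun i => e (.inr i)) (fun i => e (.inl i)) j) =
        sympForm d F (Sum.elim u v i) (Sum.elim u v j) := fun i j => by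
      rw [← sympB_apply, ← sympB_apply]
      rcases i with i | i <;> rcases j with j | j <;>
        simp only [Sum.elim_inl, Sum.elim_inr, hf.uu, hf.vv, hf.uv, hf.vu (sympB_isAlt d), hstd.uu, hstd.vv,
          hstd.uv, hstd.vu (sympB_isAlt d)]
    obtain ⟨A, hA⟩ := exists_symplectic_map (v := Sum.elim u v)
      (w := Sum.elim (fun i => e (.inr i)) (fun i => e (.inl i))) (hf.linearIndependent (sympB_isAlt d))
      (hstd.linearIndependent (sympB_isAlt d)) hgram
    obtain ⟨Ai, hAi⟩ : ∃ Ai : 𝕄, Ai * (A : 𝕄) = 1 :=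
      ⟨((A⁻¹ : ↥(Matrix.symplecticGroup (Fin d) F)) : 𝕄), congrArg Subtype.val (inv_mul_cancel A)⟩
    refine ⟨A, id, (A : 𝕄) * (x : 𝕄) * Ai, fun _ => rfl, fun r c hne => ?_, ?_⟩
    · by_contra hc
      apply hne
      have hcol : ∀ (w : 𝕍), (A : 𝕄) *ᵥ w = e c →
          ((A : 𝕄) * (x : 𝕄) * Ai) *ᵥ e c = (A : 𝕄) *ᵥ X w := fun w hw => by
        rw [← hw, Matrix.mulVec_mulVec, Matrix.mul_assoc _ Ai, hAi, Matrix.mul_one, hXa, Matrix.mulVec_mulVec]
      have hent : ∀ M : 𝕄, M r c = (M *ᵥ e c) r := fun M => by simp [e]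
      rw [hent ((A : 𝕄) * (x : 𝕄) * Ai)]
      rcases c with i | i
      · have hAv : (A : 𝕄) *ᵥ v i = e (.inl i) := hA (.inr i)
        have hAu : (A : 𝕄) *ᵥ u i = e (.inr i) := hA (.inl i)
        obtain ⟨α, β, h⟩ := (hpl i).2
        rw [hcol _ hAv, h, Matrix.mulVec_add, Matrix.mulVec_smul, Matrix.mulVec_smul, hAu, hAv]
        rcases r with r | r <;>
          · have hr : r ≠ i := fun h' => hc h'.symm
            simp [e, hr]
      · have hAv : (A : 𝕄) *ᵥ v i = e (.inl i) := hA (.inr i)
        have hAu : (A : 𝕄) *ᵥ u i = e (.inr i) := hA (.inl i)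
        obtain ⟨α, β, h⟩ := (hpl i).1
        rw [hcol _ hAu, h, Matrix.mulVec_add, Matrix.mulVec_smul, Matrix.mulVec_smul, hAu, hAv]
        rcases r with r | r <;>
          · have hr : r ≠ i := fun h' => hc h'.symm
            simp [e, hr]
    · rw [Matrix.mul_assoc _ Ai, hAi, Matrix.mul_one]

/-- Every element with square `±1` stabilises an orthogonal decomposition into `t` parts of dimension `2 h`. -/
theorem exists_decomposition {t h : ℕ} (ht : 2 ≤ t) (hh : 1 ≤ h) (hd : d = h * t)
    (x : ↥(Matrix.symplecticGroup (Fin d) F)) {z : F} (hz : z = 1 ∨ z = -1) (hsq : (x : 𝕄) * x = z • (1 : 𝕄)) :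
    ∃ D : Fin t → Submodule F 𝕍, (Cfsg.Geo.IsMDecomposition (2 * h) D ∧
        (∀ j, ∀ u ∈ D j, u ≠ 0 → ∃ v ∈ D j, sympForm d F u v ≠ 0) ∧
        (∀ j j', j ≠ j' → ∀ u ∈ D j, ∀ v ∈ D j', sympForm d F u v = 0)) ∧
      ∃ σ : Equiv.Perm (Fin t), ∀ j, (D j).map (Matrix.toLin' (x : 𝕄)) = D (σ j) := by
  classical
  obtain ⟨A, π, y, hπ, hy, hAx⟩ := exists_planes x hz hsq
  obtain ⟨φ, hlt, hfib, hcon⟩ := exists_blocks hπ hh t Finset.univ (by simpa using hd) fun i _ => Finset.mem_univ _
  let ψ : Fin d → Fin t := fun i => ⟨φ i, hlt i (Finset.mem_univ i)⟩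
  let bl : Fin d ⊕ Fin d → Fin t := fun c => ψ (plane c)
  set E : 𝕍 ≃ₗ[F] 𝕍 := (spEquiv d F A).1
  have hEa : ∀ a, E a = (A : 𝕄) *ᵥ a := fun a => spEquiv_apply A a
  have hEf : ∀ a b, sympForm d F (E a) (E b) = sympForm d F a b := fun a b => by
    rw [hEa, hEa]; exact mem_symplecticGroup_iff_form.1 A.2 a b
  let D : Fin t → Submodule F 𝕍 := fun l =>
    { carrier := {v | ∀ c, bl c ≠ l → E v c = 0}
      add_mem' := fun {a b} ha hb c hc => by rw [map_add, Pi.add_apply, ha c hc, hb c hc, add_zero]
      zero_mem' := fun c _ => by rw [map_zero]; rfl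
      smul_mem' := fun s a ha c hc => by rw [map_smul, Pi.smul_apply, ha c hc, smul_zero] }
  have hmem : ∀ l v, v ∈ D l ↔ ∀ c, bl c ≠ l → E v c = 0 := fun l v => Iff.rfl
  have hfr : ∀ l, finrank F (D l) = 2 * h := by
    intro l
    let Φ : D l ≃ₗ[F] ({c // bl c = l} → F) :=
      { toFun := fun v c => E v.1 c.1
        map_add' := fun a b => by funext c; simp
        map_smul' := fun s a => by funext c; simp
        invFun := fun g => ⟨E.symm fun c => if hc : bl c = l then g ⟨c, hc⟩ else 0, fun c hc => by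
          rw [E.apply_symm_apply, dif_neg hc]⟩
        left_inv := fun v => Subtype.ext (E.injective (funext fun c => by
          show E (E.symm _) c = _
          rw [E.apply_symm_apply]
          by_cases hc : bl c = l
          · rw [dif_pos hc]
          · rw [dif_neg hc]; exact (v.2 c hc).symm))
        right_inv := fun g => funext fun c => by
          show E (E.symm _) c.1 = _
          rw [E.apply_symm_apply, dif_pos c.2] }
    rw [Φ.finrank_eq, Module.finrank_fintype_fun_eq_card]
    have hc2 : ∀ i, (ψ i = l) ↔ φ i = l.val := fun i => by simp [ψ, Fin.ext_iff]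
    rw [Fintype.card_congr ((Equiv.subtypeSum (p := fun c => bl c = l))), Fintype.card_sum, two_mul]
    have hk : Fintype.card {i // ψ i = l} = h := by
      rw [Fintype.card_subtype]
      simpa only [hc2] using hfib l.val l.2
    exact congrArg₂ (· + ·) ((Fintype.card_congr (Equiv.refl _)).trans hk) ((Fintype.card_congr (Equiv.refl _)).trans hk)
  have hsup : iSup D = ⊤ := by
    refine eq_top_iff.2 fun v _ => ?_
    rw [show v = ∑ l, E.symm (fun c => if bl c = l then E v c else 0) from E.injective (by
      funext c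
      rw [map_sum, Finset.sum_apply]
      simp)]
    exact sum_mem fun l _ => Submodule.mem_iSup_of_mem l ((hmem l _).2 fun c hc => by
      rw [E.apply_symm_apply, if_neg hc])
  have hind : iSupIndep D := by
    rw [iSupIndep_def]
    intro l
    let K : Submodule F 𝕍 :=
      { carrier := {v | ∀ c, bl c = l → E v c = 0}
        add_mem' := fun {a b} ha hb c hc => by rw [map_add, Pi.add_apply, ha c hc, hb c hc, add_zero]
        zero_mem' := fun c _ => by rw [map_zero]; rfl
        smul_mem' := fun s a ha c hc => by rw [map_smul, Pi.smul_apply, ha c hc, smul_zero] }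
    have hle : (⨆ j, ⨆ (_ : j ≠ l), D j) ≤ K :=
      iSup₂_le fun j hj v hv c hc => hv c (fun e => hj (e.symm.trans hc))
    refine Disjoint.mono_right hle ?_
    rw [Submodule.disjoint_def]
    intro v hv hK
    refine E.injective ?_
    rw [map_zero]
    funext c
    by_cases hc : bl c = l
    · exact hK c hc
    · exact hv c hc
  have hne : ∀ l, ∃ i, ψ i = l := fun l => by
    obtain ⟨i, hi⟩ := Finset.card_pos.1 (hfib l.val l.2 ▸ (show 0 < h by omega))
    exact ⟨i, Fin.ext (Finset.mem_filter.1 hi).2⟩
  choose rep hrep using hne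
  have hψ : ∀ i j, ψ i = ψ j → ψ (π i) = ψ (π j) := fun i j e =>
    Fin.ext (hcon i (Finset.mem_univ i) j (Finset.mem_univ j) (congrArg Fin.val e))
  let τ : Fin t → Fin t := fun l => ψ (π (rep l))
  have hτ : Function.Involutive τ := fun l => by
    show ψ (π (rep (ψ (π (rep l))))) = l
    rw [hψ _ (π (rep l)) (hrep _), hπ, hrep]
  refine ⟨D, ⟨⟨ht, by omega, hfr, hind, hsup⟩, fun j u hu hu0 => ?_, fun j j' hjj u hu v hv => ?_⟩,
    hτ.toPerm, fun j => ?_⟩
  · obtain ⟨c, hc⟩ : ∃ c, E u c ≠ 0 := by
      by_contra! h0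
      exact hu0 (E.injective ((funext h0 : E u = 0).trans (map_zero E).symm))
    have hcj : bl c = j := by_contra fun hne' => hc (hu c hne')
    refine ⟨E.symm (Pi.single (Sum.swap c) 1), (hmem j _).2 fun c' hc' => ?_, ?_⟩
    · rw [E.apply_symm_apply, Pi.single_eq_of_ne]
      rintro rfl
      apply hc'
      rw [← hcj]
      rcases c with i | i <;> rfl
    · rw [← hEf, E.apply_symm_apply, sympForm_eq_sum]
      rcases c with i | i <;> simpa [Pi.single_apply] using hc
  · rw [← hEf, sympForm_eq_sum]
    refine Finset.sum_eq_zero fun i _ => ?_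
    by_cases h1 : ψ i = j
    · have hn : ψ i ≠ j' := fun e => hjj (h1.symm.trans e)
      rw [hv (.inl i) hn, hv (.inr i) hn]; ring
    · rw [hu (.inl i) h1, hu (.inr i) h1]; ring
  · have hsurj : Function.Injective (Matrix.toLin' (x : 𝕄)) := fun a b e => by
      simp only [Matrix.toLin'_apply, ← spEquiv_apply] at e
      exact (spEquiv d F x).1.injective e
    refine Submodule.eq_of_le_of_finrank_eq ?_ (by
      rw [← (Submodule.equivMapOfInjective _ hsurj (D j)).finrank_eq, hfr, hfr])
    rintro _ ⟨u, hu, rfl⟩ r hr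
    rw [hEa, Matrix.toLin'_apply, Matrix.mulVec_mulVec, hAx, ← Matrix.mulVec_mulVec, ← hEa]
    show ∑ c, y r c * E u c = 0
    refine Finset.sum_eq_zero fun c _ => ?_
    by_cases h0 : y r c = 0
    · exact mul_eq_zero_of_left h0 _
    refine mul_eq_zero_of_right _ (hu c fun hcj => hr ?_)
    have hpc := hy r c h0
    show ψ (plane r) = ψ (π (rep j))
    have e1 : ψ (plane c) = ψ (rep j) := hcj.trans (hrep j).symm
    have := hψ _ _ e1
    rwa [hpc, hπ] at this

end Cfsg.Agent.Forms.SympPlanes
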