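/-
Area Forms: a tensor stabiliser whose small factor has a monomial similarity group lies strictly below the
stabiliser of an orthogonal decomposition.
-/
import Cfsg.Prelude.Def_GeometricClasses

set_option autoImplicit false

namespace Cfsg.Agent.Forms

open scoped Matrix Kronecker

variable {F : Type*} [Field F] {ι : Type} [Fintype ι] [DecidableEq ι]

/-- A form that is linear on the left is the form of its Gram matrix once it is `σ`-Hermitian. -/
theorem formOfGram_gramMatrix {κ : Type} [Fintype κ] [DecidableEq κ] (σ : F →+* F) (h : (κ → F) → (κ → F) → F)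
    (hadd : ∀ x y v, h (x + y) v = h x v + h y v) (hsmul : ∀ (c : F) x v, h (c • x) v = c * h x v)
    (hherm : ∀ x y, h y x = σ (h x y)) (x y : κ → F) : Geo.formOfGram σ (Geo.gramMatrix h) x y = h x y := by
  have hl : ∀ v z, h z v = ∑ a, z a * h (Pi.single a 1) v := fun v z => by
    let L : (κ → F) →ₗ[F] F := ⟨⟨fun w => h w v, fun a b => hadd a b v⟩, fun c w => hsmul c w v⟩
    show L z = ∑ a, z a * L (Pi.single a 1)
    conv_lhs => rw [pi_eq_sum_univ' z, map_sum]
    simp only [map_smul, smul_eq_mul]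
  rw [hl y x]
  refine Finset.sum_congr rfl fun a _ => ?_
  rw [hherm y (Pi.single a 1), hl (Pi.single a 1) y, map_sum, Finset.mul_sum]
  refine Finset.sum_congr rfl fun b _ => ?_
  rw [map_mul, ← hherm]
  simp only [Geo.gramMatrix]
  ring

/-- The Kronecker form on sums of pure tensors. -/
theorem formOfGram_kronecker {α β : Type} [Fintype α] [Fintype β] [DecidableEq α] [DecidableEq β] {k : ℕ}
    (σ : F →+* F) (G : Matrix α α F) (G' : Matrix β β F) (u u' : Fin k → α → F) (v v' : Fin k → β → F) :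
    Geo.formOfGram σ (G ⊗ₖ G') (fun p => ∑ i, u i p.1 * v i p.2) (fun p => ∑ l, u' l p.1 * v' l p.2)
      = ∑ i, ∑ l, Geo.formOfGram σ G (u i) (u' l) * Geo.formOfGram σ G' (v i) (v' l) := by
  simp only [Geo.formOfGram, Matrix.kroneckerMap_apply, map_sum, map_mul]
  have key : ∀ i l, (∑ a, ∑ b, u i a * G a b * σ (u' l b)) * (∑ s, ∑ t, v i s * G' s t * σ (v' l t))
      = ∑ p : α × β, ∑ r : α × β, u i p.1 * v i p.2 * (G p.1 r.1 * G' p.2 r.2) * (σ (u' l r.1) * σ (v' l r.2)) := by
    intro i l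
    rw [Finset.sum_mul_sum, ← Fintype.sum_prod_type' (f := fun a s =>
      (∑ b, u i a * G a b * σ (u' l b)) * ∑ t, v i s * G' s t * σ (v' l t))]
    refine Finset.sum_congr rfl fun p _ => ?_
    rw [Finset.sum_mul_sum, ← Fintype.sum_prod_type' (f := fun b t =>
      u i p.1 * G p.1 b * σ (u' l b) * (v i p.2 * G' p.2 t * σ (v' l t)))]
    exact Finset.sum_congr rfl fun r _ => by ring
  simp only [key, Finset.sum_mul]
  simp only [Finset.mul_sum]
  rw [Finset.sum_congr rfl fun p _ => Finset.sum_comm, Finset.sum_comm]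
  refine Finset.sum_congr rfl fun i _ => ?_
  rw [Finset.sum_congr rfl fun p _ => Finset.sum_comm, Finset.sum_comm]

/-- The block `Ψ (single j ·)`. -/
def blockSpace {k : ℕ} {W : Type*} [AddCommGroup W] [Module F W] (Ψ : (Fin k → W) ≃ₗ[F] (ι → F)) (j : Fin k) :
    Submodule F (ι → F) :=
  LinearMap.range (Ψ.toLinearMap.comp (LinearMap.single F (fun _ : Fin k => W) j))

/-- `H < stabiliser of the blocks < I`, when `H` acts on the blocks by `g (j, y) = Σ i, b i j (i, a y)` with `b`
necessarily monomial, and `I` contains the isotropic transvections. -/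
theorem tensor_lt_wreath [Finite F] {k : ℕ} {W : Type*} [AddCommGroup W] [Module F W] (hk : 2 ≤ k) (σ : F →+* F)
    (f : (ι → F) → (ι → F) → F) (hadd : ∀ x y v, f (x + y) v = f x v + f y v)
    (hsmul : ∀ (c : F) x v, f (c • x) v = c * f x v) (hskew : ∀ x y, f x y = -σ (f y x))
    (hnd : Geo.IsNondegenerateForm f) (Ψ : (Fin k → W) ≃ₗ[F] (ι → F))
    (hΨ : ∀ c d, f (Ψ c) (Ψ d) = ∑ j, f (Ψ (Pi.single ⟨0, by omega⟩ (c j))) (Ψ (Pi.single ⟨0, by omega⟩ (d j))))
    (hiso : ∃ u : W, u ≠ 0 ∧ f (Ψ (Pi.single ⟨0, by omega⟩ u)) (Ψ (Pi.single ⟨0, by omega⟩ u)) = 0)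
    (I H : Subgroup (GL ι F)) (hHI : H ≤ I)
    (hI : ∀ g ∈ I, ∀ x y : ι → F, f (g.val *ᵥ x) (g.val *ᵥ y) = f x y)
    (htr : ∀ v, f v v = 0 → ∃ g ∈ I, ∀ x, g.val *ᵥ x = x + f x v • v)
    (hH : ∀ g ∈ H, ∃ (a : W →ₗ[F] W) (b : Matrix (Fin k) (Fin k) F),
      ∀ j y, g.val *ᵥ Ψ (Pi.single j y) = Ψ fun i => b i j • a y)
    (hmono : ∀ (b : Matrix (Fin k) (Fin k) F) (s : F), s ≠ 0 →
      (∀ j l, ∑ i, b i j * σ (b i l) = if j = l then s else 0) → ∀ j, ∃ i, ∀ i', i' ≠ i → b i' j = 0) :
    ∃ K : Subgroup (GL ι F), H < K ∧ K < I := by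
  classical
  set z : Fin k := ⟨0, by omega⟩ with hz
  let o : Fin k := ⟨1, by omega⟩
  have hzo : z ≠ o := fun h => by simp [z, o, Fin.ext_iff] at h
  let φ : W → W → F := fun x y => f (Ψ (Pi.single z x)) (Ψ (Pi.single z y))
  change ∀ c d, f (Ψ c) (Ψ d) = ∑ j, φ (c j) (d j) at hΨ
  have f0l : ∀ v, f 0 v = 0 := fun v => by simpa using hsmul 0 0 v
  have f0r : ∀ v, f v 0 = 0 := fun v => by rw [hskew, f0l, map_zero, neg_zero]
  have φadd : ∀ x y v, φ (x + y) v = φ x v + φ y v := fun x y v => by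
    simp only [φ, Pi.single_add, map_add, hadd]
  have φsmul : ∀ (c : F) x v, φ (c • x) v = c * φ x v := fun c x v => by
    simp only [φ, Pi.single_smul, map_smul, hsmul]
  have φskew : ∀ x y, φ x y = -σ (φ y x) := fun x y => hskew _ _
  have φsmulr : ∀ (c : F) x v, φ v (c • x) = σ c * φ v x := fun c x v => by
    rw [φskew, φsmul, map_mul, ← mul_neg, ← φskew]
  have φ0l : ∀ v, φ 0 v = 0 := fun v => by simp [φ, f0l]
  have φ0r : ∀ v, φ v 0 = 0 := fun v => by simp [φ, f0r]
  have φnd : ∀ v, v ≠ 0 → ∃ x, φ x v ≠ 0 := by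
    intro v hv
    by_contra! h
    obtain ⟨x, hx⟩ := (hnd (Ψ (Pi.single z v)) (by simpa using hv)).1
    obtain ⟨c, rfl⟩ := Ψ.surjective x
    rw [hΨ, Fintype.sum_eq_single z (fun j hj => by rw [Pi.single_eq_of_ne hj, φ0r]),
      Pi.single_eq_same] at hx
    exact hx (h _)
  obtain ⟨u, hu0, huu⟩ := hiso
  change φ u u = 0 at huu
  obtain ⟨u', hu'⟩ := φnd u hu0
  let D : Fin k → Submodule F (ι → F) := blockSpace Ψ
  have hD : ∀ j x, x ∈ D j ↔ ∃ y, Ψ (Pi.single j y) = x := fun j x => Iff.rfl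
  have hle : H ≤ Geo.decompositionStabilizer D ⊓ I := by
    intro g hg
    refine ⟨?_, hHI hg⟩
    obtain ⟨a, b, hab⟩ := hH g hg
    have hprod : ∀ j l y y', (∑ i, b i j * σ (b i l)) * φ (a y) (a y') = if j = l then φ y y' else 0 := by
      intro j l y y'
      have h := hI g (hHI hg) (Ψ (Pi.single j y)) (Ψ (Pi.single l y'))
      rw [hab, hab, hΨ, hΨ] at h
      simp only [φsmul, φsmulr, ← mul_assoc, ← Finset.sum_mul] at h
      rw [h]
      split_ifs with hjl
      · subst hjl
        rw [Fintype.sum_eq_single j (fun i hi => by rw [Pi.single_eq_of_ne hi, φ0l]),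
          Pi.single_eq_same, Pi.single_eq_same]
      · refine Finset.sum_eq_zero fun i _ => ?_
        by_cases hi : i = j
        · subst hi; rw [Pi.single_eq_of_ne hjl, φ0r]
        · rw [Pi.single_eq_of_ne hi, φ0l]
    have ha : φ (a u') (a u) ≠ 0 := fun h0 => by
      have := hprod z z u' u
      rw [h0, mul_zero, if_pos rfl] at this
      exact hu' this.symm
    have hs : ∀ j l, ∑ i, b i j * σ (b i l) = if j = l then φ u' u / φ (a u') (a u) else 0 := fun j l => by
      refine mul_right_cancel₀ ha ((hprod j l u' u).trans ?_)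
      split_ifs <;> simp [ha]
    choose p hp using hmono b _ (div_ne_zero hu' ha) hs
    have hgj : ∀ j y, g.val *ᵥ Ψ (Pi.single j y) = Ψ (Pi.single (p j) (b (p j) j • a y)) := fun j y => by
      rw [hab]
      congr 1
      funext i
      by_cases h : i = p j
      · subst h; rw [Pi.single_eq_same]
      · rw [Pi.single_eq_of_ne h, hp j i h, zero_smul]
    have hnz : ∀ j, b (p j) j ≠ 0 := fun j h0 => by
      have h := hs j j
      rw [if_pos rfl, Finset.sum_eq_zero (fun i _ => by
        by_cases hi : i = p j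
        · subst hi; simp [h0]
        · simp [hp j i hi])] at h
      exact div_ne_zero hu' ha h.symm
    have hpinj : Function.Injective p := fun j l hjl => by
      by_contra hne
      have h := hs j l
      rw [if_neg hne, Fintype.sum_eq_single (p j) (fun i hi => by simp [hp j i hi])] at h
      rcases mul_eq_zero.1 h with h | h
      · exact hnz j h
      · exact hnz l (by rw [← hjl]; exact (map_eq_zero σ).1 h)
    have hginj : Function.Injective (Matrix.toLin' g.val) := fun x y h => by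
      have := congrArg ((g⁻¹).val *ᵥ ·) h
      simpa [Matrix.toLin'_apply, Matrix.mulVec_mulVec] using this
    refine ⟨Equiv.ofBijective p hpinj.bijective_of_finite, fun j => ?_⟩
    haveI : ∀ i, Module.Finite F (D i) := fun i => inferInstance
    refine Submodule.eq_of_le_of_finrank_le ?_ ?_
    · rintro _ ⟨x, hx, rfl⟩
      obtain ⟨y, rfl⟩ := (hD j x).1 hx
      exact (hD _ _).2 ⟨_, (hgj j y).symm⟩
    · rw [← LinearEquiv.finrank_eq (Submodule.equivMapOfInjective _ hginj (D j))]
      have hfr : ∀ i, Module.finrank F (D i) = Module.finrank F W := fun i =>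
        LinearMap.finrank_range_of_inj (f := Ψ.toLinearMap.comp (LinearMap.single F (fun _ : Fin k => W) i))
          (Ψ.injective.comp (Pi.single_injective (M := fun _ : Fin k => W) i))
      rw [hfr, hfr]
  refine ⟨Geo.decompositionStabilizer D ⊓ I, lt_of_le_of_ne hle ?_, lt_of_le_of_ne inf_le_right ?_⟩
  · intro heq
    obtain ⟨g, hgI, hg⟩ := htr (Ψ (Pi.single z u)) huu
    have hfix : ∀ j, j ≠ z → ∀ y, g.val *ᵥ Ψ (Pi.single j y) = Ψ (Pi.single j y) := fun j hj y => by
      rw [hg, hΨ, Fintype.sum_eq_single z (fun i hi => by rw [Pi.single_eq_of_ne hi, φ0r]),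
        Pi.single_eq_of_ne hj.symm, φ0l, zero_smul, add_zero]
    have hblock : ∀ y, g.val *ᵥ Ψ (Pi.single z y) = Ψ (Pi.single z (y + φ y u • u)) := fun y => by
      rw [hg, Pi.single_add, Pi.single_smul', map_add, map_smul]
    have hgK : g ∈ Geo.decompositionStabilizer D ⊓ I := by
      refine ⟨⟨1, fun j => ?_⟩, hgI⟩
      refine Submodule.eq_of_le_of_finrank_le ?_ ?_
      · rintro _ ⟨x, hx, rfl⟩
        obtain ⟨y, rfl⟩ := (hD j x).1 hx
        by_cases hj : j = z
        · subst hj; exact (hD _ _).2 ⟨_, (hblock y).symm⟩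
        · exact (hD _ _).2 ⟨_, (hfix j hj y).symm⟩
      · refine le_of_eq (LinearEquiv.finrank_eq ?_)
        exact Submodule.equivMapOfInjective _ (fun x y h => by
          have := congrArg ((g⁻¹).val *ᵥ ·) h
          simpa [Matrix.toLin'_apply, Matrix.mulVec_mulVec] using this) (D j)
    rw [← heq] at hgK
    obtain ⟨a, b, hab⟩ := hH g hgK
    have h1 : ∀ y, b o o • a y = y := fun y => by
      have h := Ψ.injective ((hab o y).symm.trans (hfix o hzo.symm y))
      simpa using congrFun h o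
    have h2 : b z z • a u' = u' + φ u' u • u := by
      have h := Ψ.injective ((hab z u').symm.trans (hblock u'))
      simpa using congrFun h z
    have hb : b o o ≠ 0 := fun h0 => hu0 (by rw [← h1 u, h0, zero_smul])
    have h3 : (b z z / b o o) • u' = u' + φ u' u • u := by
      rw [← h2]
      conv_lhs => rw [← h1 u', smul_smul, div_mul_cancel₀ _ hb]
    have h4 := congrArg (fun x => φ x u) h3
    simp only [φsmul, φadd, huu, mul_zero, add_zero] at h4
    rw [mul_left_eq_self₀.1 h4 |>.resolve_right hu', one_smul] at h3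
    exact hu' ((smul_eq_zero.1 (left_eq_add.1 h3)).resolve_right hu0)
  · intro heq
    let v := Ψ (Pi.single z u + Pi.single o u)
    have hv : f v v = 0 := by
      rw [hΨ]
      refine Finset.sum_eq_zero fun i _ => ?_
      by_cases hiz : i = z
      · subst hiz; simp [hzo, huu]
      · by_cases hio : i = o
        · subst hio; simp [hzo.symm, huu]
        · simp [hiz, hio, φ0l]
    obtain ⟨g, hgI, hg⟩ := htr v hv
    rw [← heq] at hgI
    obtain ⟨π, hπ⟩ := hgI.1
    have hmem : g.val *ᵥ Ψ (Pi.single z u') ∈ D (π z) := by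
      rw [← hπ z]
      exact Submodule.mem_map_of_mem (f := Matrix.toLin' g.val) ((hD z _).2 ⟨u', rfl⟩)
    obtain ⟨y, hy⟩ := (hD _ _).1 hmem
    have hφ : f (Ψ (Pi.single z u')) v = φ u' u := by
      rw [hΨ, Fintype.sum_eq_single z (fun i hi => by rw [Pi.single_eq_of_ne hi, φ0l])]
      simp [hzo]
    rw [hg, hφ, ← map_smul, ← map_add] at hy
    have h := Ψ.injective hy
    have ho := congrFun h o
    have hzc := congrFun h z
    by_cases hπo : π z = o
    · rw [hπo] at hzc
      simp [hzo] at hzc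
      have h4 := congrArg (fun x => φ x u) hzc
      simp only [φadd, φsmul, huu, mul_zero, add_zero, φ0l] at h4
      exact hu' h4.symm
    · simp [Ne.symm hπo, hzo.symm] at ho
      exact hu' ((smul_eq_zero.1 ho.symm).resolve_right hu0)

/-- A pure tensor in coordinates. -/
def pureVec {n k : ℕ} (e : ι ≃ Fin n × Fin k) (y : Fin n → F) (v : Fin k → F) : ι → F :=
  fun i => y (e i).1 * v (e i).2

/-- Elements of a tensor stabiliser on pure tensors. -/
theorem tensor_mem_pure {n k : ℕ} {e : ι ≃ Fin n × Fin k} {P g : GL ι F}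
    (hg : g ∈ Geo.tensorProductSubgroup n k e P) : ∃ (a : Matrix (Fin n) (Fin n) F) (b : Matrix (Fin k) (Fin k) F),
      ∀ y v, g.val *ᵥ (P.val *ᵥ pureVec e y v) = P.val *ᵥ pureVec e (a *ᵥ y) (b *ᵥ v) := by
  obtain ⟨_, ⟨h, ⟨a, b, hab⟩, rfl⟩, rfl⟩ := hg
  refine ⟨a.val, b.val, fun y v => ?_⟩
  simp only [MulEquiv.coe_toMonoidHom, MulAut.conj_apply, Units.val_mul, Matrix.mulVec_mulVec, mul_assoc,
    Units.inv_mul, mul_one]
  rw [← Matrix.mulVec_mulVec]
  congr 1
  funext i
  show ∑ j, h.val (e i) (e j) * (y (e j).1 * v (e j).2)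
    = (∑ x, a.val (e i).1 x * y x) * ∑ x, b.val (e i).2 x * v x
  rw [← e.symm.sum_comp]
  simp only [Equiv.apply_symm_apply, hab, Matrix.kroneckerMap_apply, Finset.sum_mul_sum, Fintype.sum_prod_type]
  exact Finset.sum_congr rfl fun _ _ => Finset.sum_congr rfl fun _ _ => by ring

/-- The blocks of a tensor decomposition with respect to an orthogonal basis of equal norms of the small factor. -/
theorem exists_tensor_blocks {n k : ℕ} (hk : 0 < k) (σ : F →+* F) (f : (ι → F) → (ι → F) → F) (c₀ : F)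
    (e : ι ≃ Fin n × Fin k) (P : GL ι F) (G : Matrix (Fin n) (Fin n) F) (G' : Matrix (Fin k) (Fin k) F)
    (hT : ∀ x y, f (P.val *ᵥ (x ∘ e)) (P.val *ᵥ (y ∘ e)) = c₀ * Geo.formOfGram σ (G ⊗ₖ G') x y)
    (w : Module.Basis (Fin k) F (Fin k → F)) (μ : F)
    (hw : ∀ i l, Geo.formOfGram σ G' (w i) (w l) = if i = l then μ else 0) (H : Subgroup (GL ι F))
    (hH : ∀ g ∈ H, ∃ (a : Matrix (Fin n) (Fin n) F) (b : Matrix (Fin k) (Fin k) F),
      ∀ y v, g.val *ᵥ (P.val *ᵥ pureVec e y v) = P.val *ᵥ pureVec e (a *ᵥ y) (b *ᵥ v)) :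
    ∃ Ψ : (Fin k → Fin n → F) ≃ₗ[F] (ι → F),
      (∀ c d, f (Ψ c) (Ψ d) = ∑ j, f (Ψ (Pi.single ⟨0, hk⟩ (c j))) (Ψ (Pi.single ⟨0, hk⟩ (d j)))) ∧
      ∀ g ∈ H, ∃ (a : (Fin n → F) →ₗ[F] Fin n → F) (b : Matrix (Fin k) (Fin k) F),
        ∀ j y, g.val *ᵥ Ψ (Pi.single j y) = Ψ fun i => b i j • a y := by
  classical
  let L : (Fin k → Fin n → F) →ₗ[F] (ι → F) :=
    (Matrix.mulVecLin P.val).comp <| show (Fin k → Fin n → F) →ₗ[F] (ι → F) from
      { toFun := fun c i => ∑ j, c j (e i).1 * w j (e i).2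
        map_add' := fun c d => funext fun i => by simp [add_mul, Finset.sum_add_distrib]
        map_smul' := fun r c => funext fun i => by simp [mul_assoc, Finset.mul_sum] }
  have hLinj : Function.Injective L := by
    rw [injective_iff_map_eq_zero]
    intro c hc
    have h1 : (fun i => ∑ j, c j (e i).1 * w j (e i).2) = 0 := by
      have := congrArg ((P⁻¹).val *ᵥ ·) hc
      simpa [L, Matrix.mulVec_mulVec] using this
    funext j a
    have h2 : ∑ j, c j a • w j = 0 := funext fun t => by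
      simpa [Finset.sum_apply] using congrFun h1 (e.symm (a, t))
    exact Fintype.linearIndependent_iff.1 w.linearIndependent _ h2 j
  have hfr : Module.finrank F (Fin k → Fin n → F) = Module.finrank F (ι → F) := by
    rw [Module.finrank_pi_fintype]
    simp [Fintype.card_congr e, mul_comm]
  refine ⟨LinearMap.linearEquivOfInjective L hLinj hfr, ?_, ?_⟩
  · have hL : ∀ c d, f (L c) (L d) = c₀ * ∑ j, μ * Geo.formOfGram σ G (c j) (d j) := by
      intro c d
      refine (hT (fun p => ∑ j, c j p.1 * w j p.2) (fun p => ∑ j, d j p.1 * w j p.2)).trans ?_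
      rw [formOfGram_kronecker]
      congr 1
      refine Finset.sum_congr rfl fun i _ => ?_
      simp [hw, mul_comm]
    intro c d
    simp only [LinearMap.linearEquivOfInjective_apply, hL, Finset.mul_sum]
    refine Finset.sum_congr rfl fun j _ => ?_
    rw [Fintype.sum_eq_single (⟨0, hk⟩ : Fin k) (fun i hi => by simp [Geo.formOfGram, hi])]
    simp
  · intro g hg
    obtain ⟨a, b, hab⟩ := hH g hg
    refine ⟨a.mulVecLin, Matrix.of fun i j => w.repr (b *ᵥ w j) i, fun j y => ?_⟩
    simp only [LinearMap.linearEquivOfInjective_apply]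
    have h1 : L (Pi.single j y) = P.val *ᵥ pureVec e y (w j) := by
      show P.val *ᵥ _ = _
      congr 1
      funext i
      show ∑ l, (Pi.single j y : Fin k → Fin n → F) l (e i).1 * w l (e i).2 = _
      rw [Fintype.sum_eq_single j (fun l hl => by simp [hl])]
      simp [pureVec]
    rw [h1, hab]
    show _ = P.val *ᵥ _
    congr 1
    funext i
    show _ = ∑ l, (w.repr (b *ᵥ w j) l • (a *ᵥ y)) (e i).1 * w l (e i).2
    conv_lhs => rw [pureVec, ← w.sum_repr (b *ᵥ w j)]
    simp only [Finset.sum_apply, Pi.smul_apply, smul_eq_mul, Finset.mul_sum]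
    exact Finset.sum_congr rfl fun _ _ => by ring

/-- Isotropic transvections of a skew sesquilinear form. -/
theorem exists_transvection (σ : F →+* F) (f : (ι → F) → (ι → F) → F)
    (hadd : ∀ x y v, f (x + y) v = f x v + f y v) (hsmul : ∀ (c : F) x v, f (c • x) v = c * f x v)
    (hskew : ∀ x y, f x y = -σ (f y x)) {v : ι → F} (hv : f v v = 0) :
    ∃ g : GL ι F, Matrix.det g.val = 1 ∧ (∀ x, g.val *ᵥ x = x + f x v • v) ∧
      ∀ x y, f (g.val *ᵥ x) (g.val *ᵥ y) = f x y := by
  let L : (ι → F) →ₗ[F] F := ⟨⟨fun w => f w v, fun a b => hadd a b v⟩, fun c w => hsmul c w v⟩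
  let wv : ι → F := fun i => L (Pi.single i 1)
  have hwv : ∀ x, wv ⬝ᵥ x = f x v := fun x => by
    show _ = L x
    conv_rhs => rw [pi_eq_sum_univ' x, map_sum]
    simp [dotProduct, wv, mul_comm]
  let M : Matrix ι ι F := 1 + Matrix.replicateCol Unit v * Matrix.replicateRow Unit wv
  have hM : M.det = 1 := by
    rw [Matrix.det_one_add_replicateCol_mul_replicateRow, hwv, hv, add_zero]
  have hMx : ∀ x, M *ᵥ x = x + f x v • v := fun x => by
    rw [show M = 1 + Matrix.vecMulVec v wv by rw [Matrix.vecMulVec_eq Unit], Matrix.add_mulVec, Matrix.one_mulVec,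
      Matrix.vecMulVec_mulVec, hwv]
    simp [op_smul_eq_smul]
  refine ⟨Matrix.GeneralLinearGroup.mkOfDetNeZero M (by rw [hM]; exact one_ne_zero), hM, hMx, fun x y => ?_⟩
  show f (M *ᵥ x) (M *ᵥ y) = f x y
  have hr : ∀ z, f z (y + f y v • v) = f z y + σ (f y v) * f z v := fun z => by
    rw [hskew z, hadd, hsmul, map_add, map_mul, neg_add, ← hskew z y, ← mul_neg, ← hskew z v]
  rw [hMx, hMx, hadd, hsmul, hr, hr, hv, mul_zero, add_zero, hskew v y]
  ring

end Cfsg.Agent.Forms
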