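/-
Involutions of the special unitary group in characteristic two are classified by the rank of `a - 1`.
-/
import Cfsg.Agent.Lib.Forms.Classify
import Cfsg.Agent.Lib.Forms.Herm
import Cfsg.Agent.Lib.Forms.SympTwo

set_option autoImplicit false

namespace Cfsg.Agent.Forms.UniTwo

open scoped Matrix
open Module (finrank)

variable {F : Type*} [Field F] [Fintype F] [CharP F 2] {q : ℕ} (hF : Fintype.card F = q ^ 2) {n : ℕ}

local notation "𝕍" => Fin n → F

/-- `a - 1` as a linear map. -/
def nil (a : Matrix (Fin n) (Fin n) F) : 𝕍 →ₗ[F] 𝕍 := (a - 1).mulVecLin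

omit [Fintype F] [CharP F 2] in
theorem nil_apply (a : Matrix (Fin n) (Fin n) F) (v : 𝕍) : nil a v = a *ᵥ v - v := by
  simp [nil, Matrix.sub_mulVec]

omit [Fintype F] in
theorem nil_nil {a : Matrix (Fin n) (Fin n) F} (hsq : a * a = 1) (v : 𝕍) : nil a (nil a v) = 0 := by
  show (a - 1) *ᵥ ((a - 1) *ᵥ v) = 0
  rw [Matrix.mulVec_mulVec]
  have : (a - 1) * (a - 1) = 0 := by
    rw [sub_mul, mul_sub, mul_sub, hsq, one_mul, mul_one, one_mul]
    have h2 : (2 : Matrix (Fin n) (Fin n) F) = 0 := by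
      rw [show (2 : Matrix (Fin n) (Fin n) F) = algebraMap F _ 2 from (map_ofNat _ 2).symm,
        CharTwo.two_eq_zero, map_zero]
    calc 1 - a - (a - 1) = 2 * (1 - a) := by rw [two_mul]; abel
      _ = 0 := by rw [h2, zero_mul]
  rw [this, Matrix.zero_mulVec]

theorem bswap (u v : 𝕍) : qEnd hF (hermB hF n u v) = hermB hF n v u := by
  rw [hermB_apply, hermB_apply, hermForm_swap hF]

theorem bsep {x : 𝕍} (h : ∀ y, hermB hF n x y = 0) : x = 0 := (hermB_polar hF n).sep x h

variable {a : Matrix (Fin n) (Fin n) F}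
  (ha : ∀ u v, hermForm n F q (a *ᵥ u) (a *ᵥ v) = hermForm n F q u v) (hsq : a * a = 1)

include ha hsq in
theorem nil_adjoint (u v : 𝕍) : hermB hF n (nil a u) v = hermB hF n u (nil a v) := by
  have key : hermB hF n (a *ᵥ u) v = hermB hF n u (a *ᵥ v) := by
    conv_lhs => rw [show v = a *ᵥ (a *ᵥ v) by rw [Matrix.mulVec_mulVec, hsq, Matrix.one_mulVec]]
    exact ha _ _
  rw [nil_apply, nil_apply, map_sub, map_sub, LinearMap.sub_apply, key]

/-- `(u, v) ↦ h(u, (a - 1) v)`. -/
noncomputable def form (a : Matrix (Fin n) (Fin n) F) : 𝕍 →ₛₗ[qEnd hF] 𝕍 →ₗ[F] F :=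
  (hermB hF n).compl₂ (nil a)

theorem form_apply (u v : 𝕍) : form hF a u v = hermB hF n u (nil a v) := rfl

include ha hsq in
theorem form_swap (u v : 𝕍) : qEnd hF (form hF a u v) = form hF a v u := by
  rw [form_apply, form_apply, bswap, nil_adjoint hF ha hsq]

include ha hsq in
theorem compl_sep {C : Submodule F 𝕍} (hC : IsCompl (LinearMap.ker (nil a)) C) :
    ∀ x, (∀ y, restrictForm (form hF a) C x y = 0) → x = 0 := by
  intro x hx
  have hNx : nil a x.1 = 0 := by
    refine bsep hF fun y => ?_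
    obtain ⟨k, hk, c, hc, rfl⟩ := Submodule.mem_sup.1
      (hC.sup_eq_top ▸ Submodule.mem_top : y ∈ LinearMap.ker (nil a) ⊔ C)
    rw [nil_adjoint hF ha hsq, map_add, LinearMap.mem_ker.1 hk, zero_add]
    exact hx ⟨c, hc⟩
  have : x.1 ∈ LinearMap.ker (nil a) ⊓ C := ⟨LinearMap.mem_ker.2 hNx, x.2⟩
  rw [hC.inf_eq_bot] at this
  exact Subtype.ext ((Submodule.mem_bot F).1 this)

omit [Fintype F] [CharP F 2] in
theorem finrank_compl {C : Submodule F 𝕍} (hC : IsCompl (LinearMap.ker (nil a)) C) :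
    finrank F C = (a - 1).rank := by
  have h1 := Submodule.finrank_add_eq_of_isCompl hC
  have h2 := LinearMap.finrank_range_add_finrank_ker (nil a)
  show finrank F C = finrank F (LinearMap.range (nil a))
  omega

include ha hsq in
/-- Hyperbolic pairs adapted to an involution. -/
theorem exists_system : ∃ (C : Submodule F 𝕍) (u : Fin (a - 1).rank → 𝕍),
    IsCompl (LinearMap.ker (nil a)) C ∧
      (∀ x ∈ C, ∃ c : Fin (a - 1).rank → F, nil a x = ∑ i, c i • nil a (u i)) ∧
      LinearIndependent F (Sum.elim u fun i => nil a (u i)) ∧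
      (∀ i j, hermB hF n (u i) (u j) = 0) ∧
      ∀ i j, hermB hF n (u i) (nil a (u j)) = if i = j then 1 else 0 := by
  classical
  obtain ⟨C, hC⟩ := Submodule.exists_isCompl (LinearMap.ker (nil a))
  obtain ⟨e, he⟩ := exists_herm_coords hF (B := restrictForm (form hF a) C)
    (fun x y => form_swap hF ha hsq _ _) (compl_sep hF ha hsq hC)
  let w : Module.Basis (Fin (a - 1).rank) F C :=
    (Module.Basis.ofEquivFun e).reindex (finCongr (finrank_compl hC))
  have hw : ∀ i j, hermB hF n (w i : 𝕍) (nil a (w j : 𝕍)) = if i = j then 1 else 0 := by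
    intro i j
    rw [← form_apply, ← restrictForm_apply (form hF a) C, he]
    simp only [w, Module.Basis.reindex_apply, Module.Basis.coe_ofEquivFun, LinearEquiv.apply_symm_apply,
      hermForm]
    rw [Finset.sum_eq_single ((finCongr (finrank_compl hC)).symm j)
      (fun k _ hk => by rw [Pi.single_eq_of_ne hk, zero_mul]) (by simp)]
    rcases eq_or_ne i j with rfl | h
    · simp
    · have hq : q ≠ 0 := (Nat.lt_of_succ_lt (one_lt_q hF)).ne'
      simp [Pi.single_apply, h, Ne.symm h, hq]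
  obtain ⟨t, ht⟩ := exists_trace_one (qEnd_ne_id hF) (qEnd_qEnd hF)
  let H : Fin (a - 1).rank → Fin (a - 1).rank → F := fun i j => hermB hF n (w i : 𝕍) (w j : 𝕍)
  -- `c j i` is the coefficient of `N w i` in the correction of `w j`
  let c : Fin (a - 1).rank → Fin (a - 1).rank → F := fun j i =>
    if i < j then H i j else if i = j then t * H i i else 0
  have hc : ∀ i j, c j i + qEnd hF (c i j) = H i j := by
    intro i j
    rcases lt_trichotomy i j with h | rfl | h
    · simp [c, h, h.not_gt, h.ne']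
    · simp only [c, lt_irrefl, if_false, if_true, map_mul]
      rw [show qEnd hF (H i i) = H i i from bswap hF _ _]
      linear_combination (H i i) * ht
    · simp [c, h, h.not_gt, h.ne', H, bswap hF]
  let u : Fin (a - 1).rank → 𝕍 := fun i => (w i : 𝕍) + ∑ j, c i j • nil a (w j : 𝕍)
  have hu : ∀ i, nil a (u i) = nil a (w i : 𝕍) := fun i => by
    simp [u, map_sum, nil_nil hsq]
  have e3 : ∀ i j, hermB hF n (nil a (w i : 𝕍)) (nil a (w j : 𝕍)) = 0 := fun i j => by
    rw [nil_adjoint hF ha hsq, nil_nil hsq, map_zero]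
  have e2 : ∀ i j, hermB hF n (nil a (w i : 𝕍)) (w j : 𝕍) = if i = j then 1 else 0 := fun i j => by
    rw [nil_adjoint hF ha hsq]; exact hw i j
  refine ⟨C, u, hC, fun x hx => ⟨fun i => w.repr ⟨x, hx⟩ i, ?_⟩, ?_, fun i j => ?_, fun i j => ?_⟩
  · simp only [hu]
    have h1 := congrArg Subtype.val (w.sum_repr ⟨x, hx⟩)
    simp only [Submodule.coe_sum, Submodule.coe_smul] at h1
    conv_lhs => rw [← h1]
    simp [map_sum]
  · rw [Fintype.linearIndependent_iff]
    intro g hg
    have key : ∀ d : Fin (a - 1).rank → F, ∑ i, d i • nil a (w i : 𝕍) = 0 → ∀ i, d i = 0 := by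
      intro d hd i
      have h1 := congrArg (hermB hF n (w i : 𝕍)) hd
      simpa [map_sum, hw] using h1
    simp only [Fintype.sum_sum_type, Sum.elim_inl, Sum.elim_inr] at hg
    have h1 : ∀ i, g (Sum.inl i) = 0 := key _ (by
      have := congrArg (nil a) hg
      simpa [map_add, map_sum, nil_nil hsq, hu] using this)
    simp only [h1, zero_smul, Finset.sum_const_zero, zero_add, hu] at hg
    rintro (i | i)
    · exact h1 i
    · exact key _ hg i
  · simp only [u, map_add, map_sum, LinearMap.add_apply, LinearMap.sum_apply, map_smulₛₗ,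
      LinearMap.smul_apply, smul_eq_mul, RingHom.id_apply, hw, e2, e3]
    simp only [mul_zero, Finset.sum_const_zero, add_zero, mul_ite, mul_one, Finset.sum_ite_eq,
      Finset.sum_ite_eq', Finset.mem_univ, if_true]
    show H i j + qEnd hF (c i j) + c j i = 0
    linear_combination (hc i j) + (H i j) * CharTwo.two_eq_zero (R := F)
  · rw [← nil_adjoint hF ha hsq, hu, nil_adjoint hF ha hsq]
    simp only [u, map_add, map_sum, map_smul, nil_nil hsq, smul_zero, Finset.sum_const_zero, add_zero]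
    exact hw i j

include hF ha hsq in
/-- An isometry matching systems intertwines the involutions. -/
theorem intertwine {b A : Matrix (Fin n) (Fin n) F}
    (hb : ∀ u v, hermForm n F q (b *ᵥ u) (b *ᵥ v) = hermForm n F q u v) (hbsq : b * b = 1)
    (hA : ∀ u v, hermForm n F q (A *ᵥ u) (A *ᵥ v) = hermForm n F q u v)
    {C C' : Submodule F 𝕍} (hC : IsCompl (LinearMap.ker (nil a)) C)
    (hC' : IsCompl (LinearMap.ker (nil b)) C') {r : ℕ} {u u' : Fin r → 𝕍}
    (hu : ∀ x ∈ C, ∃ c : Fin r → F, nil a x = ∑ i, c i • nil a (u i))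
    (hu' : ∀ x ∈ C', ∃ c : Fin r → F, nil b x = ∑ i, c i • nil b (u' i))
    (hA₁ : ∀ i, A *ᵥ u i = u' i) (hA₂ : ∀ i, A *ᵥ nil a (u i) = nil b (u' i)) :
    A * a = b * A := by
  have hB : ∀ x y, hermB hF n (A *ᵥ x) (A *ᵥ y) = hermB hF n x y := fun x y => hA y x
  have hker : ∀ k, nil a k = 0 → nil b (A *ᵥ k) = 0 := by
    intro k hk
    refine bsep hF fun y => ?_
    obtain ⟨k', hk', c, hc, rfl⟩ := Submodule.mem_sup.1
      (hC'.sup_eq_top ▸ Submodule.mem_top : y ∈ LinearMap.ker (nil b) ⊔ C')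
    rw [nil_adjoint hF hb hbsq, map_add, LinearMap.mem_ker.1 hk', zero_add]
    obtain ⟨d, hd⟩ := hu' c hc
    rw [hd, map_sum]
    refine Finset.sum_eq_zero fun i _ => ?_
    rw [map_smul, ← hA₂, hB, ← nil_adjoint hF ha hsq, hk, map_zero, LinearMap.zero_apply, smul_zero]
  refine Matrix.mulVec_injective (funext fun v => ?_)
  obtain ⟨k, hk, c, hc, rfl⟩ := Submodule.mem_sup.1
    (hC.sup_eq_top ▸ Submodule.mem_top : v ∈ LinearMap.ker (nil a) ⊔ C)
  obtain ⟨d, hd⟩ := hu c hc
  have hkey : A *ᵥ nil a (k + c) = nil b (A *ᵥ (k + c)) := by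
    have h1 : nil a (c - ∑ i, d i • u i) = 0 := by
      rw [map_sub, map_sum, hd]
      simp
    have h2 := hker _ h1
    rw [Matrix.mulVec_sub, map_sub, sub_eq_zero] at h2
    rw [map_add, LinearMap.mem_ker.1 hk, zero_add, Matrix.mulVec_add, map_add,
      hker k (LinearMap.mem_ker.1 hk), zero_add, h2, hd]
    simp only [Matrix.mulVec_sum, Matrix.mulVec_smul, map_sum, map_smul, hA₁, hA₂]
  rw [nil_apply, nil_apply, Matrix.mulVec_sub, sub_left_inj] at hkey
  rw [← Matrix.mulVec_mulVec, ← Matrix.mulVec_mulVec]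
  exact hkey

include hF ha hsq in
/-- The centralizer of an involution `≠ 1` in the unitary group has every determinant. -/
theorem exists_centralizing_det (hne : a ≠ 1) (l : F) (hl : l ^ (q + 1) = 1) :
    ∃ D : Matrix (Fin n) (Fin n) F, (∀ u v, hermForm n F q (D *ᵥ u) (D *ᵥ v) = hermForm n F q u v) ∧
      D * a = a * D ∧ D.det = l := by
  classical
  obtain ⟨s, rfl⟩ := SympTwo.exists_sqrt l
  have hs : s * qEnd hF s = 1 := by
    refine frobenius_inj F 2 ?_
    rw [frobenius_def, frobenius_def, qEnd_apply, one_pow, ← hl]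
    ring
  have hr : 0 < (a - 1).rank := by
    rw [Nat.pos_iff_ne_zero]
    intro h0
    exact hne (sub_eq_zero.1 (Matrix.mulVec_injective (funext fun v => by
      have h : nil a = 0 := LinearMap.range_eq_bot.1 (Submodule.finrank_eq_zero.1 h0)
      rw [Matrix.zero_mulVec]
      exact LinearMap.congr_fun h v)))
  obtain ⟨C, u, -, -, -, huu, hun⟩ := exists_system hF ha hsq
  obtain ⟨e, he⟩ : ∃ e, e = u ⟨0, hr⟩ := ⟨_, rfl⟩
  obtain ⟨f, hf⟩ : ∃ f, f = nil a e := ⟨_, rfl⟩
  have hee : hermB hF n e e = 0 := by rw [he]; exact huu _ _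
  have hef : hermB hF n e f = 1 := by rw [hf, he, hun, if_pos rfl]
  have hfe : hermB hF n f e = 1 := by rw [← bswap, hef, map_one]
  have hff : hermB hF n f f = 0 := by rw [hf, nil_adjoint hF ha hsq, nil_nil hsq, map_zero]
  let R : Matrix (Fin 2) (Fin n) F := Matrix.of fun i j => qEnd hF ((![f, e] i) j)
  let L : Matrix (Fin n) (Fin 2) F := Matrix.of fun j i => (s - 1) * (![e, f] i) j
  have hR : ∀ (i : Fin 2) (x : 𝕍), (R *ᵥ x) i = hermB hF n (![f, e] i) x := by
    intro i x
    simp only [Matrix.mulVec, dotProduct, R, Matrix.of_apply, hermB_apply, hermForm, qEnd_apply]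
    exact Finset.sum_congr rfl fun j _ => mul_comm _ _
  have hD : ∀ x, (1 + L * R) *ᵥ x =
      x + (s - 1) • (hermB hF n f x • e + hermB hF n e x • f) := by
    intro x
    rw [Matrix.add_mulVec, Matrix.one_mulVec, ← Matrix.mulVec_mulVec]
    congr 1
    funext j
    simp only [Matrix.mulVec, dotProduct, Fin.sum_univ_two, L, Matrix.of_apply]
    have h0 := hR 0 x
    have h1 := hR 1 x
    simp only [Matrix.mulVec, dotProduct] at h0 h1
    rw [h0, h1]
    simp
    ring
  refine ⟨1 + L * R, fun x y => ?_, ?_, ?_⟩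
  · show hermB hF n ((1 + L * R) *ᵥ y) ((1 + L * R) *ᵥ x) = hermB hF n y x
    rw [hD, hD]
    simp only [map_add, LinearMap.add_apply, map_smulₛₗ, LinearMap.smul_apply, smul_eq_mul,
      RingHom.id_apply, hee, hef, hfe, hff, map_one, map_sub, bswap]
    linear_combination
      (hermB hF n y e * hermB hF n f x + hermB hF n y f * hermB hF n e x) * hs
  · refine Matrix.mulVec_injective (funext fun x => ?_)
    rw [← Matrix.mulVec_mulVec, ← Matrix.mulVec_mulVec, hD, hD]
    have hax : ∀ v, a *ᵥ v = v + nil a v := fun v => by rw [nil_apply]; abel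
    have h1 : hermB hF n f (a *ᵥ x) = hermB hF n f x := by
      rw [hax, map_add, hf, ← nil_adjoint hF ha hsq (nil a e), nil_nil hsq, map_zero,
        LinearMap.zero_apply, add_zero]
    have h2 : hermB hF n e (a *ᵥ x) = hermB hF n e x + hermB hF n f x := by
      rw [hax, map_add, hf, nil_adjoint hF ha hsq]
    have h3 : a *ᵥ f = f := by rw [hax, hf, nil_nil hsq, add_zero]
    have h4 : a *ᵥ e = e + f := by rw [hax, hf]
    rw [h1, h2, Matrix.mulVec_add, Matrix.mulVec_smul, Matrix.mulVec_add, Matrix.mulVec_smul,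
      Matrix.mulVec_smul, h3, h4]
    module
  · rw [Matrix.det_one_add_mul_comm]
    have hRL : R * L = (s - 1) • (1 : Matrix (Fin 2) (Fin 2) F) := by
      ext i k
      have h0 := hR i (![e, f] k)
      simp only [Matrix.mulVec, dotProduct] at h0
      rw [Matrix.mul_apply, Matrix.smul_apply, smul_eq_mul]
      calc (∑ j, R i j * L j k) = (s - 1) * ∑ j, R i j * ![e, f] k j := by
            rw [Finset.mul_sum]
            exact Finset.sum_congr rfl fun j _ => by simp only [L, Matrix.of_apply]; ring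
        _ = _ := by
            rw [h0]
            fin_cases i <;> fin_cases k <;> simp [hee, hef, hfe, hff]
    rw [hRL, show (1 : Matrix (Fin 2) (Fin 2) F) + (s - 1) • 1 = s • 1 by
      rw [sub_smul, one_smul]; abel, Matrix.det_smul, Matrix.det_one, mul_one, Fintype.card_fin, sq]

include hF ha hsq in
/-- Involutions of the same rank are conjugate by an element of determinant one. -/
theorem exists_conj {b : Matrix (Fin n) (Fin n) F}
    (hb : ∀ u v, hermForm n F q (b *ᵥ u) (b *ᵥ v) = hermForm n F q u v) (hbsq : b * b = 1)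
    (hne : a ≠ 1) (hr : (a - 1).rank = (b - 1).rank) :
    ∃ A : Matrix (Fin n) (Fin n) F, A.det = 1 ∧
      (∀ u v, hermForm n F q (A *ᵥ u) (A *ᵥ v) = hermForm n F q u v) ∧ A * a = b * A := by
  classical
  obtain ⟨C, u, hC, hu, hli, huu, hun⟩ := exists_system hF ha hsq
  obtain ⟨C', u', hC', hu', hli', huu', hun'⟩ :
      ∃ (C : Submodule F 𝕍) (u : Fin (a - 1).rank → 𝕍), IsCompl (LinearMap.ker (nil b)) C ∧
        (∀ x ∈ C, ∃ c : Fin (a - 1).rank → F, nil b x = ∑ i, c i • nil b (u i)) ∧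
        LinearIndependent F (Sum.elim u fun i => nil b (u i)) ∧
        (∀ i j, hermB hF n (u i) (u j) = 0) ∧
        ∀ i j, hermB hF n (u i) (nil b (u j)) = if i = j then 1 else 0 := by
    rw [hr]; exact exists_system hF hb hbsq
  obtain ⟨g, hg, hgv⟩ := witt_herm_tuple hF hli hli' (by
    rintro (i | i) (j | j)
    · exact (huu' j i).trans (huu j i).symm
    · show hermB hF n (nil b (u' j)) (u' i) = hermB hF n (nil a (u j)) (u i)
      rw [nil_adjoint hF hb hbsq, nil_adjoint hF ha hsq, hun', hun]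
    · show hermB hF n (u' j) (nil b (u' i)) = hermB hF n (u j) (nil a (u i))
      rw [hun', hun]
    · show hermB hF n (nil b (u' j)) (nil b (u' i)) = hermB hF n (nil a (u j)) (nil a (u i))
      rw [nil_adjoint hF hb hbsq, nil_adjoint hF ha hsq, nil_nil hsq, nil_nil hbsq, map_zero,
        map_zero])
  let G := (guEquiv n F q).symm ⟨g, hg⟩
  have hact : ∀ v, (G.1 : Matrix (Fin n) (Fin n) F) *ᵥ v = g v := fun v => by
    exact congrArg (fun x : isom F (hermForm n F q) => x.1 v)
      ((guEquiv n F q).apply_symm_apply ⟨g, hg⟩)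
  have hAp : ∀ u v, hermForm n F q (G.1.1 *ᵥ u) (G.1.1 *ᵥ v) = hermForm n F q u v := fun u v =>
    G.2 u v
  have hcomm := intertwine hF ha hsq hb hbsq hAp hC hC' hu hu'
    (fun i => (hact _).trans (hgv (Sum.inl i))) fun i => (hact _).trans (hgv (Sum.inr i))
  have hdet := det_pow_of_mem_GU hF G.2
  obtain ⟨D, hDp, hDa, hDd⟩ := exists_centralizing_det hF ha hsq hne (G.1.1.det)⁻¹
    (by rw [inv_pow, hdet, inv_one])
  refine ⟨G.1.1 * D, ?_, fun x y => ?_, ?_⟩
  · rw [Matrix.det_mul, hDd, mul_inv_cancel₀]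
    intro h0
    rw [h0, zero_pow (Nat.succ_ne_zero q)] at hdet
    exact zero_ne_one hdet
  · rw [← Matrix.mulVec_mulVec, ← Matrix.mulVec_mulVec, hAp, hDp]
  · rw [mul_assoc, hDa, ← mul_assoc, hcomm, mul_assoc]

end Cfsg.Agent.Forms.UniTwo
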